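import Cfsg.Prelude.Def_Blocks
import Cfsg.Agent.Eq.Def_Characters

/-! Pre-generates on-demand lemmas for the definitions, so that importers share one copy. -/

theorem CfsgLib.Eq.Def_Blocks.touch : True := by
  have := (fun _ => trivial : _ → True) @Cfsg.centralChar.eq_1.{0}
  have := (fun _ => trivial : _ → True) @Cfsg.centralChar.eq_def.{0}
  have := (fun _ => trivial : _ → True) @Cfsg.centralChar.congr_simp.{0}
  have := (fun _ => trivial : _ → True) @Cfsg.InducedBlockDefined.eq_1.{0}
  have := (fun _ => trivial : _ → True) @Cfsg.InducedBlockDefined.eq_def.{0}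
  have := (fun _ => trivial : _ → True) @Cfsg.InducedBlockDefined.congr_simp.{0}
  have := (fun _ => trivial : _ → True) @Cfsg.SameBlock.eq_1.{0}
  have := (fun _ => trivial : _ → True) @Cfsg.SameBlock.eq_def.{0}
  have := (fun _ => trivial : _ → True) @Cfsg.SameBlock.congr_simp.{0}
  have := (fun _ => trivial : _ → True) @Cfsg.IsPBlock.eq_1.{0}
  have := (fun _ => trivial : _ → True) @Cfsg.IsPBlock.eq_def.{0}
  have := (fun _ => trivial : _ → True) @Cfsg.IsPBlock.congr_simp.{0}
  have := (fun _ => trivial : _ → True) @Cfsg.MemLocalRing.eq_1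
  have := (fun _ => trivial : _ → True) @Cfsg.MemLocalRing.eq_def
  have := (fun _ => trivial : _ → True) @Cfsg.MemLocalRing.congr_simp
  have := (fun _ => trivial : _ → True) @Cfsg.IsDefectClass.eq_1.{0}
  have := (fun _ => trivial : _ → True) @Cfsg.IsDefectClass.eq_def.{0}
  have := (fun _ => trivial : _ → True) @Cfsg.IsDefectClass.congr_simp.{0}
  have := (fun _ => trivial : _ → True) @Cfsg.IsDefectGroup.eq_1.{0}
  have := (fun _ => trivial : _ → True) @Cfsg.IsDefectGroup.eq_def.{0}
  have := (fun _ => trivial : _ → True) @Cfsg.IsDefectGroup.congr_simp.{0}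
  have := (fun _ => trivial : _ → True) @Cfsg.IsPModular.eq_1
  have := (fun _ => trivial : _ → True) @Cfsg.IsPModular.eq_def
  have := (fun _ => trivial : _ → True) @Cfsg.IsPModular.congr_simp
  have := (fun _ => trivial : _ → True) @Cfsg.IsPPart.eq_1.{0}
  have := (fun _ => trivial : _ → True) @Cfsg.IsPPart.eq_def.{0}
  have := (fun _ => trivial : _ → True) @Cfsg.IsPPart.congr_simp.{0}
  have := (fun _ => trivial : _ → True) @Cfsg.blockHeight.eq_1.{0}
  have := (fun _ => trivial : _ → True) @Cfsg.blockHeight.eq_def.{0}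
  have := (fun _ => trivial : _ → True) @Cfsg.blockHeight.congr_simp.{0}
  have := (fun _ => trivial : _ → True) @Cfsg.IsInducedBlock.eq_1.{0}
  have := (fun _ => trivial : _ → True) @Cfsg.IsInducedBlock.eq_def.{0}
  have := (fun _ => trivial : _ → True) @Cfsg.IsInducedBlock.congr_simp.{0}
  have := (fun _ => trivial : _ → True) @Cfsg.blockCoeff.eq_1.{0}
  have := (fun _ => trivial : _ → True) @Cfsg.blockCoeff.eq_def.{0}
  have := (fun _ => trivial : _ → True) @Cfsg.blockCoeff.congr_simp.{0}
  have := (fun _ => trivial : _ → True) @Cfsg.inducedCentralChar.eq_1.{0}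
  have := (fun _ => trivial : _ → True) @Cfsg.inducedCentralChar.eq_def.{0}
  have := (fun _ => trivial : _ → True) @Cfsg.inducedCentralChar.congr_simp.{0}
  have := (fun _ => trivial : _ → True) @Cfsg.blockKer.eq_1.{0}
  have := (fun _ => trivial : _ → True) @Cfsg.blockKer.eq_def.{0}
  have := (fun _ => trivial : _ → True) @Cfsg.blockKer.congr_simp.{0}
  have := (fun _ => trivial : _ → True) @Cfsg.blockDefect.eq_1.{0}
  have := (fun _ => trivial : _ → True) @Cfsg.blockDefect.eq_def.{0}
  have := (fun _ => trivial : _ → True) @Cfsg.blockDefect.congr_simp.{0}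
  have := (fun _ => trivial : _ → True) @Cfsg.MemLocalIdeal.eq_1
  have := (fun _ => trivial : _ → True) @Cfsg.MemLocalIdeal.eq_def
  have := (fun _ => trivial : _ → True) @Cfsg.MemLocalIdeal.congr_simp
  have := (fun _ => trivial : _ → True) @Cfsg.IsPRegular.eq_1.{0}
  have := (fun _ => trivial : _ → True) @Cfsg.IsPRegular.eq_def.{0}
  have := (fun _ => trivial : _ → True) @Cfsg.IsPRegular.congr_simp.{0}
  have := (fun _ => trivial : _ → True) @Cfsg.principalBlock.eq_1.{0}
  have := (fun _ => trivial : _ → True) @Cfsg.principalBlock.eq_def.{0}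
  have := (fun _ => trivial : _ → True) @Cfsg.principalBlock.congr_simp.{0}
  have := (fun _ => trivial : _ → True) @Cfsg.AlgInt.eq_1
  have := (fun _ => trivial : _ → True) @Cfsg.AlgInt.eq_def
  have := (fun _ => trivial : _ → True) @Cfsg.AlgInt.congr_simp
  have := (fun _ => trivial : _ → True) @Cfsg.blockPart.eq_1.{0}
  have := (fun _ => trivial : _ → True) @Cfsg.blockPart.eq_def.{0}
  have := (fun _ => trivial : _ → True) @Cfsg.blockPart.congr_simp.{0}
  have := (fun _ => trivial : _ → True) @Cfsg.brauerCentralChar.eq_1.{0}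
  have := (fun _ => trivial : _ → True) @Cfsg.brauerCentralChar.eq_def.{0}
  have := (fun _ => trivial : _ → True) @Cfsg.brauerCentralChar.congr_simp.{0}
  have := (fun _ => trivial : _ → True) @Cfsg.blockOf.eq_1.{0}
  have := (fun _ => trivial : _ → True) @Cfsg.blockOf.eq_def.{0}
  have := (fun _ => trivial : _ → True) @Cfsg.blockOf.congr_simp.{0}
  have := (fun _ => trivial : _ → True) @Cfsg.charDegree.eq_1.{0}
  have := (fun _ => trivial : _ → True) @Cfsg.charDegree.eq_def.{0}
  have := (fun _ => trivial : _ → True) @Cfsg.charDegree.congr_simp.{0}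
  trivial
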