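import Cfsg.Prelude.Def_Classical

/-! Pre-generates on-demand lemmas for the definitions, so that importers share one copy. -/

theorem CfsgLib.Eq.Def_Classical.touch : True := by
  have := (fun _ => trivial : _ → True) @Cfsg.isometryGroup.eq_1.{0}
  have := (fun _ => trivial : _ → True) @Cfsg.isometryGroup.eq_def.{0}
  have := (fun _ => trivial : _ → True) @Cfsg.isometryGroup.congr_simp.{0}
  have := (fun _ => trivial : _ → True) @Cfsg.preserving.eq_1.{0,0}
  have := (fun _ => trivial : _ → True) @Cfsg.preserving.eq_def.{0,0}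
  have := (fun _ => trivial : _ → True) @Cfsg.preserving.congr_simp.{0,0}
  have := (fun _ => trivial : _ → True) @Cfsg.PSp.eq_1.{0}
  have := (fun _ => trivial : _ → True) @Cfsg.PSp.eq_def.{0}
  have := (fun _ => trivial : _ → True) @Cfsg.PSp.congr_simp.{0}
  have := (fun _ => trivial : _ → True) @Cfsg.IsPSL.eq_1.{0}
  have := (fun _ => trivial : _ → True) @Cfsg.IsPSL.eq_def.{0}
  have := (fun _ => trivial : _ → True) @Cfsg.IsPSL.congr_simp.{0}
  have := (fun _ => trivial : _ → True) @Cfsg.slToMat.eq_1.{0}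
  have := (fun _ => trivial : _ → True) @Cfsg.slToMat.eq_def.{0}
  have := (fun _ => trivial : _ → True) @Cfsg.slToMat.congr_simp.{0}
  have := (fun _ => trivial : _ → True) @Cfsg.hermForm.eq_1.{0}
  have := (fun _ => trivial : _ → True) @Cfsg.hermForm.eq_def.{0}
  have := (fun _ => trivial : _ → True) @Cfsg.hermForm.congr_simp.{0}
  have := (fun _ => trivial : _ → True) @Cfsg.IsPOmegaMinus.eq_1.{0}
  have := (fun _ => trivial : _ → True) @Cfsg.IsPOmegaMinus.eq_def.{0}
  have := (fun _ => trivial : _ → True) @Cfsg.IsPOmegaMinus.congr_simp.{0}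
  have := (fun _ => trivial : _ → True) @Cfsg.IsAlternating.eq_1.{0}
  have := (fun _ => trivial : _ → True) @Cfsg.IsAlternating.eq_def.{0}
  have := (fun _ => trivial : _ → True) @Cfsg.IsAlternating.congr_simp.{0}
  have := (fun _ => trivial : _ → True) @Cfsg.IsPSp.eq_1.{0}
  have := (fun _ => trivial : _ → True) @Cfsg.IsPSp.eq_def.{0}
  have := (fun _ => trivial : _ → True) @Cfsg.IsPSp.congr_simp.{0}
  have := (fun _ => trivial : _ → True) @Cfsg.IsPrimeCyclic.eq_1.{0}
  have := (fun _ => trivial : _ → True) @Cfsg.IsPrimeCyclic.eq_def.{0}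
  have := (fun _ => trivial : _ → True) @Cfsg.IsPrimeCyclic.congr_simp.{0}
  have := (fun _ => trivial : _ → True) @Cfsg.quadFormMinus.eq_1.{0}
  have := (fun _ => trivial : _ → True) @Cfsg.quadFormMinus.eq_def.{0}
  have := (fun _ => trivial : _ → True) @Cfsg.quadFormMinus.congr_simp.{0}
  have := (fun _ => trivial : _ → True) @Cfsg.IsPOmegaOdd.eq_1.{0}
  have := (fun _ => trivial : _ → True) @Cfsg.IsPOmegaOdd.eq_def.{0}
  have := (fun _ => trivial : _ → True) @Cfsg.IsPOmegaOdd.congr_simp.{0}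
  have := (fun _ => trivial : _ → True) @Cfsg.POmega.eq_1.{0}
  have := (fun _ => trivial : _ → True) @Cfsg.POmega.eq_def.{0}
  have := (fun _ => trivial : _ → True) @Cfsg.POmega.congr_simp.{0}
  have := (fun _ => trivial : _ → True) @Cfsg.quadFormOdd.eq_1.{0}
  have := (fun _ => trivial : _ → True) @Cfsg.quadFormOdd.eq_def.{0}
  have := (fun _ => trivial : _ → True) @Cfsg.quadFormOdd.congr_simp.{0}
  have := (fun _ => trivial : _ → True) @Cfsg.Omega.eq_1.{0}
  have := (fun _ => trivial : _ → True) @Cfsg.Omega.eq_def.{0}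
  have := (fun _ => trivial : _ → True) @Cfsg.Omega.congr_simp.{0}
  have := (fun _ => trivial : _ → True) @Cfsg.PSU.eq_1.{0}
  have := (fun _ => trivial : _ → True) @Cfsg.PSU.eq_def.{0}
  have := (fun _ => trivial : _ → True) @Cfsg.PSU.congr_simp.{0}
  have := (fun _ => trivial : _ → True) @Cfsg.IsPOmegaPlus.eq_1.{0}
  have := (fun _ => trivial : _ → True) @Cfsg.IsPOmegaPlus.eq_def.{0}
  have := (fun _ => trivial : _ → True) @Cfsg.IsPOmegaPlus.congr_simp.{0}
  have := (fun _ => trivial : _ → True) @Cfsg.SU.eq_1.{0}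
  have := (fun _ => trivial : _ → True) @Cfsg.SU.eq_def.{0}
  have := (fun _ => trivial : _ → True) @Cfsg.SU.congr_simp.{0}
  have := (fun _ => trivial : _ → True) @Cfsg.IsPSU.eq_1.{0}
  have := (fun _ => trivial : _ → True) @Cfsg.IsPSU.eq_def.{0}
  have := (fun _ => trivial : _ → True) @Cfsg.IsPSU.congr_simp.{0}
  have := (fun _ => trivial : _ → True) @Cfsg.quadFormPlus.eq_1.{0}
  have := (fun _ => trivial : _ → True) @Cfsg.quadFormPlus.eq_def.{0}
  have := (fun _ => trivial : _ → True) @Cfsg.quadFormPlus.congr_simp.{0}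
  trivial
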