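import Cfsg.Prelude.Def_Sporadic

/-! Pre-generates on-demand lemmas for the definitions, so that importers share one copy. -/

theorem CfsgLib.Eq.Def_Sporadic.touch : True := by
  have := (fun _ => trivial : _ → True) @Cfsg.IsM22.eq_1.{0}
  have := (fun _ => trivial : _ → True) @Cfsg.IsM22.eq_def.{0}
  have := (fun _ => trivial : _ → True) @Cfsg.IsM22.congr_simp.{0}
  have := (fun _ => trivial : _ → True) @Cfsg.IsRu.eq_1.{0}
  have := (fun _ => trivial : _ → True) @Cfsg.IsRu.eq_def.{0}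
  have := (fun _ => trivial : _ → True) @Cfsg.IsRu.congr_simp.{0}
  have := (fun _ => trivial : _ → True) @Cfsg.IsM.eq_1.{0}
  have := (fun _ => trivial : _ → True) @Cfsg.IsM.eq_def.{0}
  have := (fun _ => trivial : _ → True) @Cfsg.IsM.congr_simp.{0}
  have := (fun _ => trivial : _ → True) @Cfsg.IsCo2.eq_1.{0}
  have := (fun _ => trivial : _ → True) @Cfsg.IsCo2.eq_def.{0}
  have := (fun _ => trivial : _ → True) @Cfsg.IsCo2.congr_simp.{0}
  have := (fun _ => trivial : _ → True) @Cfsg.IsFi22.eq_1.{0}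
  have := (fun _ => trivial : _ → True) @Cfsg.IsFi22.eq_def.{0}
  have := (fun _ => trivial : _ → True) @Cfsg.IsFi22.congr_simp.{0}
  have := (fun _ => trivial : _ → True) @Cfsg.IsSuz.eq_1.{0}
  have := (fun _ => trivial : _ → True) @Cfsg.IsSuz.eq_def.{0}
  have := (fun _ => trivial : _ → True) @Cfsg.IsSuz.congr_simp.{0}
  have := (fun _ => trivial : _ → True) @Cfsg.IsB.eq_1.{0}
  have := (fun _ => trivial : _ → True) @Cfsg.IsB.eq_def.{0}
  have := (fun _ => trivial : _ → True) @Cfsg.IsB.congr_simp.{0}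
  have := (fun _ => trivial : _ → True) @Cfsg.IsHN.eq_1.{0}
  have := (fun _ => trivial : _ → True) @Cfsg.IsHN.eq_def.{0}
  have := (fun _ => trivial : _ → True) @Cfsg.IsHN.congr_simp.{0}
  have := (fun _ => trivial : _ → True) @Cfsg.IsCo3.eq_1.{0}
  have := (fun _ => trivial : _ → True) @Cfsg.IsCo3.eq_def.{0}
  have := (fun _ => trivial : _ → True) @Cfsg.IsCo3.congr_simp.{0}
  have := (fun _ => trivial : _ → True) @Cfsg.IsHS.eq_1.{0}
  have := (fun _ => trivial : _ → True) @Cfsg.IsHS.eq_def.{0}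
  have := (fun _ => trivial : _ → True) @Cfsg.IsHS.congr_simp.{0}
  have := (fun _ => trivial : _ → True) @Cfsg.IsSporadic.eq_1.{0}
  have := (fun _ => trivial : _ → True) @Cfsg.IsSporadic.eq_def.{0}
  have := (fun _ => trivial : _ → True) @Cfsg.IsSporadic.congr_simp.{0}
  have := (fun _ => trivial : _ → True) @Cfsg.IsJ2.eq_1.{0}
  have := (fun _ => trivial : _ → True) @Cfsg.IsJ2.eq_def.{0}
  have := (fun _ => trivial : _ → True) @Cfsg.IsJ2.congr_simp.{0}
  have := (fun _ => trivial : _ → True) @Cfsg.IsM24.eq_1.{0}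
  have := (fun _ => trivial : _ → True) @Cfsg.IsM24.eq_def.{0}
  have := (fun _ => trivial : _ → True) @Cfsg.IsM24.congr_simp.{0}
  have := (fun _ => trivial : _ → True) @Cfsg.IsJ4.eq_1.{0}
  have := (fun _ => trivial : _ → True) @Cfsg.IsJ4.eq_def.{0}
  have := (fun _ => trivial : _ → True) @Cfsg.IsJ4.congr_simp.{0}
  have := (fun _ => trivial : _ → True) @Cfsg.IsHe.eq_1.{0}
  have := (fun _ => trivial : _ → True) @Cfsg.IsHe.eq_def.{0}
  have := (fun _ => trivial : _ → True) @Cfsg.IsHe.congr_simp.{0}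
  have := (fun _ => trivial : _ → True) @Cfsg.IsMcL.eq_1.{0}
  have := (fun _ => trivial : _ → True) @Cfsg.IsMcL.eq_def.{0}
  have := (fun _ => trivial : _ → True) @Cfsg.IsMcL.congr_simp.{0}
  have := (fun _ => trivial : _ → True) @Cfsg.IsM11.eq_1.{0}
  have := (fun _ => trivial : _ → True) @Cfsg.IsM11.eq_def.{0}
  have := (fun _ => trivial : _ → True) @Cfsg.IsM11.congr_simp.{0}
  have := (fun _ => trivial : _ → True) @Cfsg.IsJ1.eq_1.{0}
  have := (fun _ => trivial : _ → True) @Cfsg.IsJ1.eq_def.{0}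
  have := (fun _ => trivial : _ → True) @Cfsg.IsJ1.congr_simp.{0}
  have := (fun _ => trivial : _ → True) @Cfsg.IsLy.eq_1.{0}
  have := (fun _ => trivial : _ → True) @Cfsg.IsLy.eq_def.{0}
  have := (fun _ => trivial : _ → True) @Cfsg.IsLy.congr_simp.{0}
  have := (fun _ => trivial : _ → True) @Cfsg.IsM12.eq_1.{0}
  have := (fun _ => trivial : _ → True) @Cfsg.IsM12.eq_def.{0}
  have := (fun _ => trivial : _ → True) @Cfsg.IsM12.congr_simp.{0}
  have := (fun _ => trivial : _ → True) @Cfsg.IsCo1.eq_1.{0}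
  have := (fun _ => trivial : _ → True) @Cfsg.IsCo1.eq_def.{0}
  have := (fun _ => trivial : _ → True) @Cfsg.IsCo1.congr_simp.{0}
  have := (fun _ => trivial : _ → True) @Cfsg.IsFi24'.eq_1.{0}
  have := (fun _ => trivial : _ → True) @Cfsg.IsFi24'.eq_def.{0}
  have := (fun _ => trivial : _ → True) @Cfsg.IsFi24'.congr_simp.{0}
  have := (fun _ => trivial : _ → True) @Cfsg.IsJ3.eq_1.{0}
  have := (fun _ => trivial : _ → True) @Cfsg.IsJ3.eq_def.{0}
  have := (fun _ => trivial : _ → True) @Cfsg.IsJ3.congr_simp.{0}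
  have := (fun _ => trivial : _ → True) @Cfsg.IsFi23.eq_1.{0}
  have := (fun _ => trivial : _ → True) @Cfsg.IsFi23.eq_def.{0}
  have := (fun _ => trivial : _ → True) @Cfsg.IsFi23.congr_simp.{0}
  have := (fun _ => trivial : _ → True) @Cfsg.IsM23.eq_1.{0}
  have := (fun _ => trivial : _ → True) @Cfsg.IsM23.eq_def.{0}
  have := (fun _ => trivial : _ → True) @Cfsg.IsM23.congr_simp.{0}
  have := (fun _ => trivial : _ → True) @Cfsg.IsTh.eq_1.{0}
  have := (fun _ => trivial : _ → True) @Cfsg.IsTh.eq_def.{0}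
  have := (fun _ => trivial : _ → True) @Cfsg.IsTh.congr_simp.{0}
  have := (fun _ => trivial : _ → True) @Cfsg.IsON.eq_1.{0}
  have := (fun _ => trivial : _ → True) @Cfsg.IsON.eq_def.{0}
  have := (fun _ => trivial : _ → True) @Cfsg.IsON.congr_simp.{0}
  trivial
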