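import Cfsg.Prelude.Def_Local
import Cfsg.Agent.Eq.Def_Solvable
import Cfsg.Agent.Eq.Def_CaseTheorems
import Cfsg.Agent.Eq.Def_Transfer

/-! Pre-generates on-demand lemmas for the definitions, so that importers share one copy. -/

theorem CfsgLib.Eq.Def_Local.touch : True := by
  have := (fun _ => trivial : _ → True) @Cfsg.IsMinCounterexampleWith.eq_1.{0}
  have := (fun _ => trivial : _ → True) @Cfsg.IsMinCounterexampleWith.eq_def.{0}
  have := (fun _ => trivial : _ → True) @Cfsg.IsMinCounterexampleWith.congr_simp.{0}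
  have := (fun _ => trivial : _ → True) @Cfsg.PLengthLE.eq_1.{0}
  have := (fun _ => trivial : _ → True) @Cfsg.PLengthLE.eq_def.{0}
  have := (fun _ => trivial : _ → True) @Cfsg.PLengthLE.congr_simp.{0}
  have := (fun _ => trivial : _ → True) @Cfsg.pLayer.eq_1.{0}
  have := (fun _ => trivial : _ → True) @Cfsg.pLayer.eq_def.{0}
  have := (fun _ => trivial : _ → True) @Cfsg.pLayer.congr_simp.{0}
  have := (fun _ => trivial : _ → True) @Cfsg.IsKProperWith.eq_1.{0}
  have := (fun _ => trivial : _ → True) @Cfsg.IsKProperWith.eq_def.{0}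
  have := (fun _ => trivial : _ → True) @Cfsg.IsKProperWith.congr_simp.{0}
  have := (fun _ => trivial : _ → True) @Cfsg.upperPSeries.eq_1.{0}
  have := (fun _ => trivial : _ → True) @Cfsg.upperPSeries.eq_2.{0}
  have := (fun _ => trivial : _ → True) @Cfsg.upperPSeries.eq_def.{0}
  have := (fun _ => trivial : _ → True) @Cfsg.upperPSeries.congr_simp.{0}
  have := (fun _ => trivial : _ → True) @Cfsg.upperPSeries.induct
  have := (fun _ => trivial : _ → True) @Cfsg.upperPSeries.fun_cases
  have := (fun _ => trivial : _ → True) @Cfsg.upperPSeries.induct_unfolding.{0}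
  have := (fun _ => trivial : _ → True) @Cfsg.upperPSeries.fun_cases_unfolding.{0}
  have := (fun _ => trivial : _ → True) @Cfsg.IsTightlyEmbedded.eq_1.{0}
  have := (fun _ => trivial : _ → True) @Cfsg.IsTightlyEmbedded.eq_def.{0}
  have := (fun _ => trivial : _ → True) @Cfsg.IsTightlyEmbedded.congr_simp.{0}
  have := (fun _ => trivial : _ → True) @Cfsg.IsKGroupWith.eq_1.{0}
  have := (fun _ => trivial : _ → True) @Cfsg.IsKGroupWith.eq_def.{0}
  have := (fun _ => trivial : _ → True) @Cfsg.IsKGroupWith.congr_simp.{0}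
  have := (fun _ => trivial : _ → True) @Cfsg.pPrimePCore.eq_1.{0}
  have := (fun _ => trivial : _ → True) @Cfsg.pPrimePCore.eq_def.{0}
  have := (fun _ => trivial : _ → True) @Cfsg.pPrimePCore.congr_simp.{0}
  have := (fun _ => trivial : _ → True) @Cfsg.signalizerDelta.eq_1.{0}
  have := (fun _ => trivial : _ → True) @Cfsg.signalizerDelta.eq_def.{0}
  have := (fun _ => trivial : _ → True) @Cfsg.signalizerDelta.congr_simp.{0}
  have := (fun _ => trivial : _ → True) @Cfsg.IsPConstrained.eq_1.{0}
  have := (fun _ => trivial : _ → True) @Cfsg.IsPConstrained.eq_def.{0}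
  have := (fun _ => trivial : _ → True) @Cfsg.IsPConstrained.congr_simp.{0}
  have := (fun _ => trivial : _ → True) @Cfsg.IsBalanced.eq_1.{0}
  have := (fun _ => trivial : _ → True) @Cfsg.IsBalanced.eq_def.{0}
  have := (fun _ => trivial : _ → True) @Cfsg.IsBalanced.congr_simp.{0}
  have := (fun _ => trivial : _ → True) @Cfsg.IsComponent.eq_1.{0}
  have := (fun _ => trivial : _ → True) @Cfsg.IsComponent.eq_def.{0}
  have := (fun _ => trivial : _ → True) @Cfsg.IsComponent.congr_simp.{0}
  have := (fun _ => trivial : _ → True) @Cfsg.centralizerPPrimeCore.eq_1.{0}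
  have := (fun _ => trivial : _ → True) @Cfsg.centralizerPPrimeCore.eq_def.{0}
  have := (fun _ => trivial : _ → True) @Cfsg.centralizerPPrimeCore.congr_simp.{0}
  have := (fun _ => trivial : _ → True) @Cfsg.generalizedFittingSubgroup.eq_1.{0}
  have := (fun _ => trivial : _ → True) @Cfsg.generalizedFittingSubgroup.eq_def.{0}
  have := (fun _ => trivial : _ → True) @Cfsg.generalizedFittingSubgroup.congr_simp.{0}
  have := (fun _ => trivial : _ → True) @Cfsg.IsPSolvable.eq_1.{0}
  have := (fun _ => trivial : _ → True) @Cfsg.IsPSolvable.eq_def.{0}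
  have := (fun _ => trivial : _ → True) @Cfsg.IsPSolvable.congr_simp.{0}
  have := (fun _ => trivial : _ → True) @Cfsg.TwoLocalPRankLE.eq_1.{0}
  have := (fun _ => trivial : _ → True) @Cfsg.TwoLocalPRankLE.eq_def.{0}
  have := (fun _ => trivial : _ → True) @Cfsg.TwoLocalPRankLE.congr_simp.{0}
  have := (fun _ => trivial : _ → True) @Cfsg.IsSolvableSignalizerFunctor.eq_1.{0}
  have := (fun _ => trivial : _ → True) @Cfsg.IsSolvableSignalizerFunctor.eq_def.{0}
  have := (fun _ => trivial : _ → True) @Cfsg.IsSolvableSignalizerFunctor.congr_simp.{0}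
  have := (fun _ => trivial : _ → True) @Cfsg.IsPComponent.eq_1.{0}
  have := (fun _ => trivial : _ → True) @Cfsg.IsPComponent.eq_def.{0}
  have := (fun _ => trivial : _ → True) @Cfsg.IsPComponent.congr_simp.{0}
  have := (fun _ => trivial : _ → True) @Cfsg.IsCompleteSignalizerFunctor.eq_1.{0}
  have := (fun _ => trivial : _ → True) @Cfsg.IsCompleteSignalizerFunctor.eq_def.{0}
  have := (fun _ => trivial : _ → True) @Cfsg.IsCompleteSignalizerFunctor.congr_simp.{0}
  have := (fun _ => trivial : _ → True) @Cfsg.signalizerClosure.eq_1.{0}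
  have := (fun _ => trivial : _ → True) @Cfsg.signalizerClosure.eq_def.{0}
  have := (fun _ => trivial : _ → True) @Cfsg.signalizerClosure.congr_simp.{0}
  have := (fun _ => trivial : _ → True) @Cfsg.IsKBalanced.eq_1.{0}
  have := (fun _ => trivial : _ → True) @Cfsg.IsKBalanced.eq_def.{0}
  have := (fun _ => trivial : _ → True) @Cfsg.IsKBalanced.congr_simp.{0}
  have := (fun _ => trivial : _ → True) @Cfsg.IsPStable.eq_1.{0}
  have := (fun _ => trivial : _ → True) @Cfsg.IsPStable.eq_def.{0}
  have := (fun _ => trivial : _ → True) @Cfsg.IsPStable.congr_simp.{0}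
  have := (fun _ => trivial : _ → True) @Cfsg.layer.eq_1.{0}
  have := (fun _ => trivial : _ → True) @Cfsg.layer.eq_def.{0}
  have := (fun _ => trivial : _ → True) @Cfsg.layer.congr_simp.{0}
  have := (fun _ => trivial : _ → True) @Cfsg.IsStandardSubgroup.eq_1.{0}
  have := (fun _ => trivial : _ → True) @Cfsg.IsStandardSubgroup.eq_def.{0}
  have := (fun _ => trivial : _ → True) @Cfsg.IsStandardSubgroup.congr_simp.{0}
  have := (fun _ => trivial : _ → True) @Cfsg.OddTwoLocalRankLE.eq_1.{0}
  have := (fun _ => trivial : _ → True) @Cfsg.OddTwoLocalRankLE.eq_def.{0}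
  have := (fun _ => trivial : _ → True) @Cfsg.OddTwoLocalRankLE.congr_simp.{0}
  have := (fun _ => trivial : _ → True) @Cfsg.IsCompositionKGroupWith.eq_1.{0}
  have := (fun _ => trivial : _ → True) @Cfsg.IsCompositionKGroupWith.eq_def.{0}
  have := (fun _ => trivial : _ → True) @Cfsg.IsCompositionKGroupWith.congr_simp.{0}
  have := (fun _ => trivial : _ → True) @Cfsg.IsSignalizerFunctor.eq_1.{0}
  have := (fun _ => trivial : _ → True) @Cfsg.IsSignalizerFunctor.eq_def.{0}
  have := (fun _ => trivial : _ → True) @Cfsg.IsSignalizerFunctor.congr_simp.{0}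
  trivial
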