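import Cfsg.Prelude.Def_Chevalley

/-! Pre-generates on-demand lemmas for the definitions, so that importers share one copy. -/

theorem CfsgLib.Eq.Def_Chevalley.touch : True := by
  have := (fun _ => trivial : _ → True) @Cfsg.Lie.ChevalleyDatum.coroot.eq_1
  have := (fun _ => trivial : _ → True) @Cfsg.Lie.ChevalleyDatum.coroot.eq_def
  have := (fun _ => trivial : _ → True) @Cfsg.Lie.ChevalleyDatum.coroot.congr_simp
  have := (fun _ => trivial : _ → True) @Cfsg.Lie.ChevalleyDatum.negIdx.eq_1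
  have := (fun _ => trivial : _ → True) @Cfsg.Lie.ChevalleyDatum.negIdx.eq_def
  have := (fun _ => trivial : _ → True) @Cfsg.Lie.ChevalleyDatum.negIdx.congr_simp
  have := (fun _ => trivial : _ → True) @Cfsg.Lie.ChevalleyDatum.group.eq_1.{0}
  have := (fun _ => trivial : _ → True) @Cfsg.Lie.ChevalleyDatum.group.eq_def.{0}
  have := (fun _ => trivial : _ → True) @Cfsg.Lie.ChevalleyDatum.group.congr_simp.{0}
  have := (fun _ => trivial : _ → True) @Cfsg.Lie.ChevalleyDatum.simpleIdx.eq_1
  have := (fun _ => trivial : _ → True) @Cfsg.Lie.ChevalleyDatum.simpleIdx.eq_def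
  have := (fun _ => trivial : _ → True) @Cfsg.Lie.ChevalleyDatum.simpleIdx.congr_simp
  have := (fun _ => trivial : _ → True) @Cfsg.Lie.ChevalleyDatum.recOn.eq_1.{0}
  have := (fun _ => trivial : _ → True) @Cfsg.Lie.ChevalleyDatum.recOn.eq_def.{0}
  have := (fun _ => trivial : _ → True) @Cfsg.Lie.ChevalleyDatum.recOn.congr_simp.{0}
  have := (fun _ => trivial : _ → True) @Cfsg.Lie.ChevalleyDatum.Idx.eq_1
  have := (fun _ => trivial : _ → True) @Cfsg.Lie.ChevalleyDatum.Idx.eq_def
  have := (fun _ => trivial : _ → True) @Cfsg.Lie.ChevalleyDatum.Idx.congr_simp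
  have := (fun _ => trivial : _ → True) @Cfsg.Lie.ChevalleyDatum.chainCoeff.eq_1
  have := (fun _ => trivial : _ → True) @Cfsg.Lie.ChevalleyDatum.chainCoeff.eq_def
  have := (fun _ => trivial : _ → True) @Cfsg.Lie.ChevalleyDatum.chainCoeff.congr_simp
  have := (fun _ => trivial : _ → True) @Cfsg.Lie.ChevalleyDatum.rank.eq_1
  have := (fun _ => trivial : _ → True) @Cfsg.Lie.ChevalleyDatum.rank.eq_def
  have := (fun _ => trivial : _ → True) @Cfsg.Lie.ChevalleyDatum.rank.congr_simp
  have := (fun _ => trivial : _ → True) @Cfsg.Lie.ChevalleyDatum.xMat.eq_1.{0}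
  have := (fun _ => trivial : _ → True) @Cfsg.Lie.ChevalleyDatum.xMat.eq_def.{0}
  have := (fun _ => trivial : _ → True) @Cfsg.Lie.ChevalleyDatum.xMat.congr_simp.{0}
  have := (fun _ => trivial : _ → True) @Cfsg.Lie.ChevalleyDatum.nroots.eq_1
  have := (fun _ => trivial : _ → True) @Cfsg.Lie.ChevalleyDatum.nroots.eq_def
  have := (fun _ => trivial : _ → True) @Cfsg.Lie.ChevalleyDatum.nroots.congr_simp
  have := (fun _ => trivial : _ → True) @Cfsg.Lie.ChevalleyDatum.casesOn.eq_1.{0}
  have := (fun _ => trivial : _ → True) @Cfsg.Lie.ChevalleyDatum.casesOn.eq_def.{0}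
  have := (fun _ => trivial : _ → True) @Cfsg.Lie.ChevalleyDatum.casesOn.congr_simp.{0}
  have := (fun _ => trivial : _ → True) @Cfsg.Lie.ChevalleyDatum.cartanSR.eq_1
  have := (fun _ => trivial : _ → True) @Cfsg.Lie.ChevalleyDatum.cartanSR.eq_def
  have := (fun _ => trivial : _ → True) @Cfsg.Lie.ChevalleyDatum.cartanSR.congr_simp
  have := (fun _ => trivial : _ → True) @Cfsg.Lie.ChevalleyDatum.chain.eq_1
  have := (fun _ => trivial : _ → True) @Cfsg.Lie.ChevalleyDatum.chain.eq_def
  have := (fun _ => trivial : _ → True) @Cfsg.Lie.ChevalleyDatum.chain.congr_simp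
  trivial
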