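import Cfsg.Prelude.Def_ChevE8
import Cfsg.Agent.Eq.Def_Chevalley

/-! Pre-generates on-demand lemmas for the definitions, so that importers share one copy. -/

theorem CfsgLib.Eq.Def_ChevE8.touch : True := by
  have := (fun _ => trivial : _ → True) @Cfsg.Lie.chevE8Chain155.eq_1
  have := (fun _ => trivial : _ → True) @Cfsg.Lie.chevE8Chain155.eq_def
  have := (fun _ => trivial : _ → True) @Cfsg.Lie.chevE8Chain155.congr_simp
  have := (fun _ => trivial : _ → True) @Cfsg.Lie.chevE8Chain78.eq_1
  have := (fun _ => trivial : _ → True) @Cfsg.Lie.chevE8Chain78.eq_def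
  have := (fun _ => trivial : _ → True) @Cfsg.Lie.chevE8Chain78.congr_simp
  have := (fun _ => trivial : _ → True) @Cfsg.Lie.chevE8Chain130.eq_1
  have := (fun _ => trivial : _ → True) @Cfsg.Lie.chevE8Chain130.eq_def
  have := (fun _ => trivial : _ → True) @Cfsg.Lie.chevE8Chain130.congr_simp
  have := (fun _ => trivial : _ → True) @Cfsg.Lie.chevE8Chain88.eq_1
  have := (fun _ => trivial : _ → True) @Cfsg.Lie.chevE8Chain88.eq_def
  have := (fun _ => trivial : _ → True) @Cfsg.Lie.chevE8Chain88.congr_simp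
  have := (fun _ => trivial : _ → True) @Cfsg.Lie.chevE8Chain98.eq_1
  have := (fun _ => trivial : _ → True) @Cfsg.Lie.chevE8Chain98.eq_def
  have := (fun _ => trivial : _ → True) @Cfsg.Lie.chevE8Chain98.congr_simp
  have := (fun _ => trivial : _ → True) @Cfsg.Lie.chevE8Chain131.eq_1
  have := (fun _ => trivial : _ → True) @Cfsg.Lie.chevE8Chain131.eq_def
  have := (fun _ => trivial : _ → True) @Cfsg.Lie.chevE8Chain131.congr_simp
  have := (fun _ => trivial : _ → True) @Cfsg.Lie.chevE8Chain5.eq_1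
  have := (fun _ => trivial : _ → True) @Cfsg.Lie.chevE8Chain5.eq_def
  have := (fun _ => trivial : _ → True) @Cfsg.Lie.chevE8Chain5.congr_simp
  have := (fun _ => trivial : _ → True) @Cfsg.Lie.chevE8Chain174.eq_1
  have := (fun _ => trivial : _ → True) @Cfsg.Lie.chevE8Chain174.eq_def
  have := (fun _ => trivial : _ → True) @Cfsg.Lie.chevE8Chain174.congr_simp
  have := (fun _ => trivial : _ → True) @Cfsg.Lie.chevE8Chain217.eq_1
  have := (fun _ => trivial : _ → True) @Cfsg.Lie.chevE8Chain217.eq_def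
  have := (fun _ => trivial : _ → True) @Cfsg.Lie.chevE8Chain217.congr_simp
  have := (fun _ => trivial : _ → True) @Cfsg.Lie.chevE8Chain192.eq_1
  have := (fun _ => trivial : _ → True) @Cfsg.Lie.chevE8Chain192.eq_def
  have := (fun _ => trivial : _ → True) @Cfsg.Lie.chevE8Chain192.congr_simp
  have := (fun _ => trivial : _ → True) @Cfsg.Lie.chevE8Chain33.eq_1
  have := (fun _ => trivial : _ → True) @Cfsg.Lie.chevE8Chain33.eq_def
  have := (fun _ => trivial : _ → True) @Cfsg.Lie.chevE8Chain33.congr_simp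
  have := (fun _ => trivial : _ → True) @Cfsg.Lie.chevE8Chain47.eq_1
  have := (fun _ => trivial : _ → True) @Cfsg.Lie.chevE8Chain47.eq_def
  have := (fun _ => trivial : _ → True) @Cfsg.Lie.chevE8Chain47.congr_simp
  have := (fun _ => trivial : _ → True) @Cfsg.Lie.chevE8Chain103.eq_1
  have := (fun _ => trivial : _ → True) @Cfsg.Lie.chevE8Chain103.eq_def
  have := (fun _ => trivial : _ → True) @Cfsg.Lie.chevE8Chain103.congr_simp
  have := (fun _ => trivial : _ → True) @Cfsg.Lie.chevE8Chain19.eq_1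
  have := (fun _ => trivial : _ → True) @Cfsg.Lie.chevE8Chain19.eq_def
  have := (fun _ => trivial : _ → True) @Cfsg.Lie.chevE8Chain19.congr_simp
  have := (fun _ => trivial : _ → True) @Cfsg.Lie.chevE8Chain221.eq_1
  have := (fun _ => trivial : _ → True) @Cfsg.Lie.chevE8Chain221.eq_def
  have := (fun _ => trivial : _ → True) @Cfsg.Lie.chevE8Chain221.congr_simp
  have := (fun _ => trivial : _ → True) @Cfsg.Lie.chevE8Chain42.eq_1
  have := (fun _ => trivial : _ → True) @Cfsg.Lie.chevE8Chain42.eq_def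
  have := (fun _ => trivial : _ → True) @Cfsg.Lie.chevE8Chain42.congr_simp
  have := (fun _ => trivial : _ → True) @Cfsg.Lie.chevE8Chain149.eq_1
  have := (fun _ => trivial : _ → True) @Cfsg.Lie.chevE8Chain149.eq_def
  have := (fun _ => trivial : _ → True) @Cfsg.Lie.chevE8Chain149.congr_simp
  have := (fun _ => trivial : _ → True) @Cfsg.Lie.chevE8Chain121.eq_1
  have := (fun _ => trivial : _ → True) @Cfsg.Lie.chevE8Chain121.eq_def
  have := (fun _ => trivial : _ → True) @Cfsg.Lie.chevE8Chain121.congr_simp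
  have := (fun _ => trivial : _ → True) @Cfsg.Lie.chevE8Chain27.eq_1
  have := (fun _ => trivial : _ → True) @Cfsg.Lie.chevE8Chain27.eq_def
  have := (fun _ => trivial : _ → True) @Cfsg.Lie.chevE8Chain27.congr_simp
  have := (fun _ => trivial : _ → True) @Cfsg.Lie.chevE8SimpleIdx.eq_1
  have := (fun _ => trivial : _ → True) @Cfsg.Lie.chevE8SimpleIdx.eq_def
  have := (fun _ => trivial : _ → True) @Cfsg.Lie.chevE8SimpleIdx.congr_simp
  have := (fun _ => trivial : _ → True) @Cfsg.Lie.chevE8Chain15.eq_1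
  have := (fun _ => trivial : _ → True) @Cfsg.Lie.chevE8Chain15.eq_def
  have := (fun _ => trivial : _ → True) @Cfsg.Lie.chevE8Chain15.congr_simp
  have := (fun _ => trivial : _ → True) @Cfsg.Lie.chevE8Chain31.eq_1
  have := (fun _ => trivial : _ → True) @Cfsg.Lie.chevE8Chain31.eq_def
  have := (fun _ => trivial : _ → True) @Cfsg.Lie.chevE8Chain31.congr_simp
  have := (fun _ => trivial : _ → True) @Cfsg.Lie.chevE8Chain20.eq_1
  have := (fun _ => trivial : _ → True) @Cfsg.Lie.chevE8Chain20.eq_def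
  have := (fun _ => trivial : _ → True) @Cfsg.Lie.chevE8Chain20.congr_simp
  have := (fun _ => trivial : _ → True) @Cfsg.Lie.chevE8Chain208.eq_1
  have := (fun _ => trivial : _ → True) @Cfsg.Lie.chevE8Chain208.eq_def
  have := (fun _ => trivial : _ → True) @Cfsg.Lie.chevE8Chain208.congr_simp
  have := (fun _ => trivial : _ → True) @Cfsg.Lie.chevE8Chain70.eq_1
  have := (fun _ => trivial : _ → True) @Cfsg.Lie.chevE8Chain70.eq_def
  have := (fun _ => trivial : _ → True) @Cfsg.Lie.chevE8Chain70.congr_simp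
  have := (fun _ => trivial : _ → True) @Cfsg.Lie.chevE8Chain199.eq_1
  have := (fun _ => trivial : _ → True) @Cfsg.Lie.chevE8Chain199.eq_def
  have := (fun _ => trivial : _ → True) @Cfsg.Lie.chevE8Chain199.congr_simp
  have := (fun _ => trivial : _ → True) @Cfsg.Lie.chevE8Chain188.eq_1
  have := (fun _ => trivial : _ → True) @Cfsg.Lie.chevE8Chain188.eq_def
  have := (fun _ => trivial : _ → True) @Cfsg.Lie.chevE8Chain188.congr_simp
  have := (fun _ => trivial : _ → True) @Cfsg.Lie.chevE8Chain224.eq_1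
  have := (fun _ => trivial : _ → True) @Cfsg.Lie.chevE8Chain224.eq_def
  have := (fun _ => trivial : _ → True) @Cfsg.Lie.chevE8Chain224.congr_simp
  have := (fun _ => trivial : _ → True) @Cfsg.Lie.chevE8Chain162.eq_1
  have := (fun _ => trivial : _ → True) @Cfsg.Lie.chevE8Chain162.eq_def
  have := (fun _ => trivial : _ → True) @Cfsg.Lie.chevE8Chain162.congr_simp
  have := (fun _ => trivial : _ → True) @Cfsg.Lie.chevE8Chain116.eq_1
  have := (fun _ => trivial : _ → True) @Cfsg.Lie.chevE8Chain116.eq_def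
  have := (fun _ => trivial : _ → True) @Cfsg.Lie.chevE8Chain116.congr_simp
  have := (fun _ => trivial : _ → True) @Cfsg.Lie.chevE8Chain129.eq_1
  have := (fun _ => trivial : _ → True) @Cfsg.Lie.chevE8Chain129.eq_def
  have := (fun _ => trivial : _ → True) @Cfsg.Lie.chevE8Chain129.congr_simp
  have := (fun _ => trivial : _ → True) @Cfsg.Lie.chevE8Chain143.eq_1
  have := (fun _ => trivial : _ → True) @Cfsg.Lie.chevE8Chain143.eq_def
  have := (fun _ => trivial : _ → True) @Cfsg.Lie.chevE8Chain143.congr_simp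
  have := (fun _ => trivial : _ → True) @Cfsg.Lie.chevE8Chain74.eq_1
  have := (fun _ => trivial : _ → True) @Cfsg.Lie.chevE8Chain74.eq_def
  have := (fun _ => trivial : _ → True) @Cfsg.Lie.chevE8Chain74.congr_simp
  have := (fun _ => trivial : _ → True) @Cfsg.Lie.chevE8Chain64.eq_1
  have := (fun _ => trivial : _ → True) @Cfsg.Lie.chevE8Chain64.eq_def
  have := (fun _ => trivial : _ → True) @Cfsg.Lie.chevE8Chain64.congr_simp
  have := (fun _ => trivial : _ → True) @Cfsg.Lie.chevE8Chain86.eq_1
  have := (fun _ => trivial : _ → True) @Cfsg.Lie.chevE8Chain86.eq_def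
  have := (fun _ => trivial : _ → True) @Cfsg.Lie.chevE8Chain86.congr_simp
  have := (fun _ => trivial : _ → True) @Cfsg.Lie.chevE8Chain213.eq_1
  have := (fun _ => trivial : _ → True) @Cfsg.Lie.chevE8Chain213.eq_def
  have := (fun _ => trivial : _ → True) @Cfsg.Lie.chevE8Chain213.congr_simp
  have := (fun _ => trivial : _ → True) @Cfsg.Lie.chevE8Chain226.eq_1
  have := (fun _ => trivial : _ → True) @Cfsg.Lie.chevE8Chain226.eq_def
  have := (fun _ => trivial : _ → True) @Cfsg.Lie.chevE8Chain226.congr_simp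
  have := (fun _ => trivial : _ → True) @Cfsg.Lie.chevE8Chain3.eq_1
  have := (fun _ => trivial : _ → True) @Cfsg.Lie.chevE8Chain3.eq_def
  have := (fun _ => trivial : _ → True) @Cfsg.Lie.chevE8Chain3.congr_simp
  have := (fun _ => trivial : _ → True) @Cfsg.Lie.chevE8Chain87.eq_1
  have := (fun _ => trivial : _ → True) @Cfsg.Lie.chevE8Chain87.eq_def
  have := (fun _ => trivial : _ → True) @Cfsg.Lie.chevE8Chain87.congr_simp
  have := (fun _ => trivial : _ → True) @Cfsg.Lie.chevE8Chain148.eq_1
  have := (fun _ => trivial : _ → True) @Cfsg.Lie.chevE8Chain148.eq_def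
  have := (fun _ => trivial : _ → True) @Cfsg.Lie.chevE8Chain148.congr_simp
  have := (fun _ => trivial : _ → True) @Cfsg.Lie.chevE8Chain239.eq_1
  have := (fun _ => trivial : _ → True) @Cfsg.Lie.chevE8Chain239.eq_def
  have := (fun _ => trivial : _ → True) @Cfsg.Lie.chevE8Chain239.congr_simp
  have := (fun _ => trivial : _ → True) @Cfsg.Lie.chevE8Chain117.eq_1
  have := (fun _ => trivial : _ → True) @Cfsg.Lie.chevE8Chain117.eq_def
  have := (fun _ => trivial : _ → True) @Cfsg.Lie.chevE8Chain117.congr_simp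
  have := (fun _ => trivial : _ → True) @Cfsg.Lie.chevE8Chain195.eq_1
  have := (fun _ => trivial : _ → True) @Cfsg.Lie.chevE8Chain195.eq_def
  have := (fun _ => trivial : _ → True) @Cfsg.Lie.chevE8Chain195.congr_simp
  have := (fun _ => trivial : _ → True) @Cfsg.Lie.chevE8Chain95.eq_1
  have := (fun _ => trivial : _ → True) @Cfsg.Lie.chevE8Chain95.eq_def
  have := (fun _ => trivial : _ → True) @Cfsg.Lie.chevE8Chain95.congr_simp
  have := (fun _ => trivial : _ → True) @Cfsg.Lie.chevE8Chain206.eq_1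
  have := (fun _ => trivial : _ → True) @Cfsg.Lie.chevE8Chain206.eq_def
  have := (fun _ => trivial : _ → True) @Cfsg.Lie.chevE8Chain206.congr_simp
  have := (fun _ => trivial : _ → True) @Cfsg.Lie.chevE8Chain52.eq_1
  have := (fun _ => trivial : _ → True) @Cfsg.Lie.chevE8Chain52.eq_def
  have := (fun _ => trivial : _ → True) @Cfsg.Lie.chevE8Chain52.congr_simp
  have := (fun _ => trivial : _ → True) @Cfsg.Lie.chevE8Chain30.eq_1
  have := (fun _ => trivial : _ → True) @Cfsg.Lie.chevE8Chain30.eq_def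
  have := (fun _ => trivial : _ → True) @Cfsg.Lie.chevE8Chain30.congr_simp
  have := (fun _ => trivial : _ → True) @Cfsg.Lie.chevE8Chain17.eq_1
  have := (fun _ => trivial : _ → True) @Cfsg.Lie.chevE8Chain17.eq_def
  have := (fun _ => trivial : _ → True) @Cfsg.Lie.chevE8Chain17.congr_simp
  have := (fun _ => trivial : _ → True) @Cfsg.Lie.chevE8Chain12.eq_1
  have := (fun _ => trivial : _ → True) @Cfsg.Lie.chevE8Chain12.eq_def
  have := (fun _ => trivial : _ → True) @Cfsg.Lie.chevE8Chain12.congr_simp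
  have := (fun _ => trivial : _ → True) @Cfsg.Lie.chevE8Chain207.eq_1
  have := (fun _ => trivial : _ → True) @Cfsg.Lie.chevE8Chain207.eq_def
  have := (fun _ => trivial : _ → True) @Cfsg.Lie.chevE8Chain207.congr_simp
  have := (fun _ => trivial : _ → True) @Cfsg.Lie.chevE8Chain122.eq_1
  have := (fun _ => trivial : _ → True) @Cfsg.Lie.chevE8Chain122.eq_def
  have := (fun _ => trivial : _ → True) @Cfsg.Lie.chevE8Chain122.congr_simp
  have := (fun _ => trivial : _ → True) @Cfsg.Lie.chevE8Chain48.eq_1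
  have := (fun _ => trivial : _ → True) @Cfsg.Lie.chevE8Chain48.eq_def
  have := (fun _ => trivial : _ → True) @Cfsg.Lie.chevE8Chain48.congr_simp
  have := (fun _ => trivial : _ → True) @Cfsg.Lie.chevE8Chain197.eq_1
  have := (fun _ => trivial : _ → True) @Cfsg.Lie.chevE8Chain197.eq_def
  have := (fun _ => trivial : _ → True) @Cfsg.Lie.chevE8Chain197.congr_simp
  have := (fun _ => trivial : _ → True) @Cfsg.Lie.chevE8Chain62.eq_1
  have := (fun _ => trivial : _ → True) @Cfsg.Lie.chevE8Chain62.eq_def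
  have := (fun _ => trivial : _ → True) @Cfsg.Lie.chevE8Chain62.congr_simp
  have := (fun _ => trivial : _ → True) @Cfsg.Lie.chevE8Chain210.eq_1
  have := (fun _ => trivial : _ → True) @Cfsg.Lie.chevE8Chain210.eq_def
  have := (fun _ => trivial : _ → True) @Cfsg.Lie.chevE8Chain210.congr_simp
  have := (fun _ => trivial : _ → True) @Cfsg.Lie.chevE8Chain71.eq_1
  have := (fun _ => trivial : _ → True) @Cfsg.Lie.chevE8Chain71.eq_def
  have := (fun _ => trivial : _ → True) @Cfsg.Lie.chevE8Chain71.congr_simp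
  have := (fun _ => trivial : _ → True) @Cfsg.Lie.chevE8Chain185.eq_1
  have := (fun _ => trivial : _ → True) @Cfsg.Lie.chevE8Chain185.eq_def
  have := (fun _ => trivial : _ → True) @Cfsg.Lie.chevE8Chain185.congr_simp
  have := (fun _ => trivial : _ → True) @Cfsg.Lie.chevE8Chain32.eq_1
  have := (fun _ => trivial : _ → True) @Cfsg.Lie.chevE8Chain32.eq_def
  have := (fun _ => trivial : _ → True) @Cfsg.Lie.chevE8Chain32.congr_simp
  have := (fun _ => trivial : _ → True) @Cfsg.Lie.chevE8Chain34.eq_1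
  have := (fun _ => trivial : _ → True) @Cfsg.Lie.chevE8Chain34.eq_def
  have := (fun _ => trivial : _ → True) @Cfsg.Lie.chevE8Chain34.congr_simp
  have := (fun _ => trivial : _ → True) @Cfsg.Lie.chevE8Chain165.eq_1
  have := (fun _ => trivial : _ → True) @Cfsg.Lie.chevE8Chain165.eq_def
  have := (fun _ => trivial : _ → True) @Cfsg.Lie.chevE8Chain165.congr_simp
  have := (fun _ => trivial : _ → True) @Cfsg.Lie.chevE8Chain6.eq_1
  have := (fun _ => trivial : _ → True) @Cfsg.Lie.chevE8Chain6.eq_def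
  have := (fun _ => trivial : _ → True) @Cfsg.Lie.chevE8Chain6.congr_simp
  have := (fun _ => trivial : _ → True) @Cfsg.Lie.chevE8Chain97.eq_1
  have := (fun _ => trivial : _ → True) @Cfsg.Lie.chevE8Chain97.eq_def
  have := (fun _ => trivial : _ → True) @Cfsg.Lie.chevE8Chain97.congr_simp
  have := (fun _ => trivial : _ → True) @Cfsg.Lie.chevE8Chain50.eq_1
  have := (fun _ => trivial : _ → True) @Cfsg.Lie.chevE8Chain50.eq_def
  have := (fun _ => trivial : _ → True) @Cfsg.Lie.chevE8Chain50.congr_simp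
  have := (fun _ => trivial : _ → True) @Cfsg.Lie.chevE8Chain227.eq_1
  have := (fun _ => trivial : _ → True) @Cfsg.Lie.chevE8Chain227.eq_def
  have := (fun _ => trivial : _ → True) @Cfsg.Lie.chevE8Chain227.congr_simp
  have := (fun _ => trivial : _ → True) @Cfsg.Lie.chevE8Chain75.eq_1
  have := (fun _ => trivial : _ → True) @Cfsg.Lie.chevE8Chain75.eq_def
  have := (fun _ => trivial : _ → True) @Cfsg.Lie.chevE8Chain75.congr_simp
  have := (fun _ => trivial : _ → True) @Cfsg.Lie.chevE8Chain156.eq_1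
  have := (fun _ => trivial : _ → True) @Cfsg.Lie.chevE8Chain156.eq_def
  have := (fun _ => trivial : _ → True) @Cfsg.Lie.chevE8Chain156.congr_simp
  have := (fun _ => trivial : _ → True) @Cfsg.Lie.chevE8Chain171.eq_1
  have := (fun _ => trivial : _ → True) @Cfsg.Lie.chevE8Chain171.eq_def
  have := (fun _ => trivial : _ → True) @Cfsg.Lie.chevE8Chain171.congr_simp
  have := (fun _ => trivial : _ → True) @Cfsg.Lie.chevE8Chain218.eq_1
  have := (fun _ => trivial : _ → True) @Cfsg.Lie.chevE8Chain218.eq_def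
  have := (fun _ => trivial : _ → True) @Cfsg.Lie.chevE8Chain218.congr_simp
  have := (fun _ => trivial : _ → True) @Cfsg.Lie.chevE8Chain76.eq_1
  have := (fun _ => trivial : _ → True) @Cfsg.Lie.chevE8Chain76.eq_def
  have := (fun _ => trivial : _ → True) @Cfsg.Lie.chevE8Chain76.congr_simp
  have := (fun _ => trivial : _ → True) @Cfsg.Lie.chevE8Chain125.eq_1
  have := (fun _ => trivial : _ → True) @Cfsg.Lie.chevE8Chain125.eq_def
  have := (fun _ => trivial : _ → True) @Cfsg.Lie.chevE8Chain125.congr_simp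
  have := (fun _ => trivial : _ → True) @Cfsg.Lie.chevE8Chain212.eq_1
  have := (fun _ => trivial : _ → True) @Cfsg.Lie.chevE8Chain212.eq_def
  have := (fun _ => trivial : _ → True) @Cfsg.Lie.chevE8Chain212.congr_simp
  have := (fun _ => trivial : _ → True) @Cfsg.Lie.chevE8Chain191.eq_1
  have := (fun _ => trivial : _ → True) @Cfsg.Lie.chevE8Chain191.eq_def
  have := (fun _ => trivial : _ → True) @Cfsg.Lie.chevE8Chain191.congr_simp
  have := (fun _ => trivial : _ → True) @Cfsg.Lie.chevE8Coroot.eq_1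
  have := (fun _ => trivial : _ → True) @Cfsg.Lie.chevE8Coroot.eq_def
  have := (fun _ => trivial : _ → True) @Cfsg.Lie.chevE8Coroot.congr_simp
  have := (fun _ => trivial : _ → True) @Cfsg.Lie.chevE8Chain53.eq_1
  have := (fun _ => trivial : _ → True) @Cfsg.Lie.chevE8Chain53.eq_def
  have := (fun _ => trivial : _ → True) @Cfsg.Lie.chevE8Chain53.congr_simp
  have := (fun _ => trivial : _ → True) @Cfsg.Lie.chevE8Chain37.eq_1
  have := (fun _ => trivial : _ → True) @Cfsg.Lie.chevE8Chain37.eq_def
  have := (fun _ => trivial : _ → True) @Cfsg.Lie.chevE8Chain37.congr_simp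
  have := (fun _ => trivial : _ → True) @Cfsg.Lie.chevE8Chain92.eq_1
  have := (fun _ => trivial : _ → True) @Cfsg.Lie.chevE8Chain92.eq_def
  have := (fun _ => trivial : _ → True) @Cfsg.Lie.chevE8Chain92.congr_simp
  have := (fun _ => trivial : _ → True) @Cfsg.Lie.chevE8Chain110.eq_1
  have := (fun _ => trivial : _ → True) @Cfsg.Lie.chevE8Chain110.eq_def
  have := (fun _ => trivial : _ → True) @Cfsg.Lie.chevE8Chain110.congr_simp
  have := (fun _ => trivial : _ → True) @Cfsg.Lie.chevE8Chain201.eq_1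
  have := (fun _ => trivial : _ → True) @Cfsg.Lie.chevE8Chain201.eq_def
  have := (fun _ => trivial : _ → True) @Cfsg.Lie.chevE8Chain201.congr_simp
  have := (fun _ => trivial : _ → True) @Cfsg.Lie.chevE8Chain222.eq_1
  have := (fun _ => trivial : _ → True) @Cfsg.Lie.chevE8Chain222.eq_def
  have := (fun _ => trivial : _ → True) @Cfsg.Lie.chevE8Chain222.congr_simp
  have := (fun _ => trivial : _ → True) @Cfsg.Lie.chevE8Chain82.eq_1
  have := (fun _ => trivial : _ → True) @Cfsg.Lie.chevE8Chain82.eq_def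
  have := (fun _ => trivial : _ → True) @Cfsg.Lie.chevE8Chain82.congr_simp
  have := (fun _ => trivial : _ → True) @Cfsg.Lie.chevE8Chain144.eq_1
  have := (fun _ => trivial : _ → True) @Cfsg.Lie.chevE8Chain144.eq_def
  have := (fun _ => trivial : _ → True) @Cfsg.Lie.chevE8Chain144.congr_simp
  have := (fun _ => trivial : _ → True) @Cfsg.Lie.chevE8Chain138.eq_1
  have := (fun _ => trivial : _ → True) @Cfsg.Lie.chevE8Chain138.eq_def
  have := (fun _ => trivial : _ → True) @Cfsg.Lie.chevE8Chain138.congr_simp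
  have := (fun _ => trivial : _ → True) @Cfsg.Lie.chevE8Chain228.eq_1
  have := (fun _ => trivial : _ → True) @Cfsg.Lie.chevE8Chain228.eq_def
  have := (fun _ => trivial : _ → True) @Cfsg.Lie.chevE8Chain228.congr_simp
  have := (fun _ => trivial : _ → True) @Cfsg.Lie.chevE8Chain230.eq_1
  have := (fun _ => trivial : _ → True) @Cfsg.Lie.chevE8Chain230.eq_def
  have := (fun _ => trivial : _ → True) @Cfsg.Lie.chevE8Chain230.congr_simp
  have := (fun _ => trivial : _ → True) @Cfsg.Lie.chevE8Chain55.eq_1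
  have := (fun _ => trivial : _ → True) @Cfsg.Lie.chevE8Chain55.eq_def
  have := (fun _ => trivial : _ → True) @Cfsg.Lie.chevE8Chain55.congr_simp
  have := (fun _ => trivial : _ → True) @Cfsg.Lie.chevE8Chain99.eq_1
  have := (fun _ => trivial : _ → True) @Cfsg.Lie.chevE8Chain99.eq_def
  have := (fun _ => trivial : _ → True) @Cfsg.Lie.chevE8Chain99.congr_simp
  have := (fun _ => trivial : _ → True) @Cfsg.Lie.chevE8Chain119.eq_1
  have := (fun _ => trivial : _ → True) @Cfsg.Lie.chevE8Chain119.eq_def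
  have := (fun _ => trivial : _ → True) @Cfsg.Lie.chevE8Chain119.congr_simp
  have := (fun _ => trivial : _ → True) @Cfsg.Lie.chevE8Chain225.eq_1
  have := (fun _ => trivial : _ → True) @Cfsg.Lie.chevE8Chain225.eq_def
  have := (fun _ => trivial : _ → True) @Cfsg.Lie.chevE8Chain225.congr_simp
  have := (fun _ => trivial : _ → True) @Cfsg.Lie.chevE8Chain100.eq_1
  have := (fun _ => trivial : _ → True) @Cfsg.Lie.chevE8Chain100.eq_def
  have := (fun _ => trivial : _ → True) @Cfsg.Lie.chevE8Chain100.congr_simp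
  have := (fun _ => trivial : _ → True) @Cfsg.Lie.chevE8Chain164.eq_1
  have := (fun _ => trivial : _ → True) @Cfsg.Lie.chevE8Chain164.eq_def
  have := (fun _ => trivial : _ → True) @Cfsg.Lie.chevE8Chain164.congr_simp
  have := (fun _ => trivial : _ → True) @Cfsg.Lie.chevE8Chain145.eq_1
  have := (fun _ => trivial : _ → True) @Cfsg.Lie.chevE8Chain145.eq_def
  have := (fun _ => trivial : _ → True) @Cfsg.Lie.chevE8Chain145.congr_simp
  have := (fun _ => trivial : _ → True) @Cfsg.Lie.chevE8Chain104.eq_1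
  have := (fun _ => trivial : _ → True) @Cfsg.Lie.chevE8Chain104.eq_def
  have := (fun _ => trivial : _ → True) @Cfsg.Lie.chevE8Chain104.congr_simp
  have := (fun _ => trivial : _ → True) @Cfsg.Lie.chevE8Chain11.eq_1
  have := (fun _ => trivial : _ → True) @Cfsg.Lie.chevE8Chain11.eq_def
  have := (fun _ => trivial : _ → True) @Cfsg.Lie.chevE8Chain11.congr_simp
  have := (fun _ => trivial : _ → True) @Cfsg.Lie.chevE8Chain170.eq_1
  have := (fun _ => trivial : _ → True) @Cfsg.Lie.chevE8Chain170.eq_def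
  have := (fun _ => trivial : _ → True) @Cfsg.Lie.chevE8Chain170.congr_simp
  have := (fun _ => trivial : _ → True) @Cfsg.Lie.chevE8Chain126.eq_1
  have := (fun _ => trivial : _ → True) @Cfsg.Lie.chevE8Chain126.eq_def
  have := (fun _ => trivial : _ → True) @Cfsg.Lie.chevE8Chain126.congr_simp
  have := (fun _ => trivial : _ → True) @Cfsg.Lie.chevE8Chain166.eq_1
  have := (fun _ => trivial : _ → True) @Cfsg.Lie.chevE8Chain166.eq_def
  have := (fun _ => trivial : _ → True) @Cfsg.Lie.chevE8Chain166.congr_simp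
  have := (fun _ => trivial : _ → True) @Cfsg.Lie.chevE8Chain28.eq_1
  have := (fun _ => trivial : _ → True) @Cfsg.Lie.chevE8Chain28.eq_def
  have := (fun _ => trivial : _ → True) @Cfsg.Lie.chevE8Chain28.congr_simp
  have := (fun _ => trivial : _ → True) @Cfsg.Lie.chevE8Chain128.eq_1
  have := (fun _ => trivial : _ → True) @Cfsg.Lie.chevE8Chain128.eq_def
  have := (fun _ => trivial : _ → True) @Cfsg.Lie.chevE8Chain128.congr_simp
  have := (fun _ => trivial : _ → True) @Cfsg.Lie.chevE8Chain66.eq_1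
  have := (fun _ => trivial : _ → True) @Cfsg.Lie.chevE8Chain66.eq_def
  have := (fun _ => trivial : _ → True) @Cfsg.Lie.chevE8Chain66.congr_simp
  have := (fun _ => trivial : _ → True) @Cfsg.Lie.chevE8Chain180.eq_1
  have := (fun _ => trivial : _ → True) @Cfsg.Lie.chevE8Chain180.eq_def
  have := (fun _ => trivial : _ → True) @Cfsg.Lie.chevE8Chain180.congr_simp
  have := (fun _ => trivial : _ → True) @Cfsg.Lie.chevE8Chain21.eq_1
  have := (fun _ => trivial : _ → True) @Cfsg.Lie.chevE8Chain21.eq_def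
  have := (fun _ => trivial : _ → True) @Cfsg.Lie.chevE8Chain21.congr_simp
  have := (fun _ => trivial : _ → True) @Cfsg.Lie.chevE8Chain18.eq_1
  have := (fun _ => trivial : _ → True) @Cfsg.Lie.chevE8Chain18.eq_def
  have := (fun _ => trivial : _ → True) @Cfsg.Lie.chevE8Chain18.congr_simp
  have := (fun _ => trivial : _ → True) @Cfsg.Lie.chevE8Chain22.eq_1
  have := (fun _ => trivial : _ → True) @Cfsg.Lie.chevE8Chain22.eq_def
  have := (fun _ => trivial : _ → True) @Cfsg.Lie.chevE8Chain22.congr_simp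
  have := (fun _ => trivial : _ → True) @Cfsg.Lie.chevE8Chain233.eq_1
  have := (fun _ => trivial : _ → True) @Cfsg.Lie.chevE8Chain233.eq_def
  have := (fun _ => trivial : _ → True) @Cfsg.Lie.chevE8Chain233.congr_simp
  have := (fun _ => trivial : _ → True) @Cfsg.Lie.chevE8Chain9.eq_1
  have := (fun _ => trivial : _ → True) @Cfsg.Lie.chevE8Chain9.eq_def
  have := (fun _ => trivial : _ → True) @Cfsg.Lie.chevE8Chain9.congr_simp
  have := (fun _ => trivial : _ → True) @Cfsg.Lie.chevE8Chain120.eq_1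
  have := (fun _ => trivial : _ → True) @Cfsg.Lie.chevE8Chain120.eq_def
  have := (fun _ => trivial : _ → True) @Cfsg.Lie.chevE8Chain120.congr_simp
  have := (fun _ => trivial : _ → True) @Cfsg.Lie.chevE8Chain209.eq_1
  have := (fun _ => trivial : _ → True) @Cfsg.Lie.chevE8Chain209.eq_def
  have := (fun _ => trivial : _ → True) @Cfsg.Lie.chevE8Chain209.congr_simp
  have := (fun _ => trivial : _ → True) @Cfsg.Lie.chevE8Chain127.eq_1
  have := (fun _ => trivial : _ → True) @Cfsg.Lie.chevE8Chain127.eq_def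
  have := (fun _ => trivial : _ → True) @Cfsg.Lie.chevE8Chain127.congr_simp
  have := (fun _ => trivial : _ → True) @Cfsg.Lie.chevE8Chain159.eq_1
  have := (fun _ => trivial : _ → True) @Cfsg.Lie.chevE8Chain159.eq_def
  have := (fun _ => trivial : _ → True) @Cfsg.Lie.chevE8Chain159.congr_simp
  have := (fun _ => trivial : _ → True) @Cfsg.Lie.chevE8Chain198.eq_1
  have := (fun _ => trivial : _ → True) @Cfsg.Lie.chevE8Chain198.eq_def
  have := (fun _ => trivial : _ → True) @Cfsg.Lie.chevE8Chain198.congr_simp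
  have := (fun _ => trivial : _ → True) @Cfsg.Lie.chevE8Chain68.eq_1
  have := (fun _ => trivial : _ → True) @Cfsg.Lie.chevE8Chain68.eq_def
  have := (fun _ => trivial : _ → True) @Cfsg.Lie.chevE8Chain68.congr_simp
  have := (fun _ => trivial : _ → True) @Cfsg.Lie.chevE8Chain158.eq_1
  have := (fun _ => trivial : _ → True) @Cfsg.Lie.chevE8Chain158.eq_def
  have := (fun _ => trivial : _ → True) @Cfsg.Lie.chevE8Chain158.congr_simp
  have := (fun _ => trivial : _ → True) @Cfsg.Lie.chevE8Chain151.eq_1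
  have := (fun _ => trivial : _ → True) @Cfsg.Lie.chevE8Chain151.eq_def
  have := (fun _ => trivial : _ → True) @Cfsg.Lie.chevE8Chain151.congr_simp
  have := (fun _ => trivial : _ → True) @Cfsg.Lie.chevE8Chain160.eq_1
  have := (fun _ => trivial : _ → True) @Cfsg.Lie.chevE8Chain160.eq_def
  have := (fun _ => trivial : _ → True) @Cfsg.Lie.chevE8Chain160.congr_simp
  have := (fun _ => trivial : _ → True) @Cfsg.Lie.chevE8Chain187.eq_1
  have := (fun _ => trivial : _ → True) @Cfsg.Lie.chevE8Chain187.eq_def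
  have := (fun _ => trivial : _ → True) @Cfsg.Lie.chevE8Chain187.congr_simp
  have := (fun _ => trivial : _ → True) @Cfsg.Lie.chevE8Chain45.eq_1
  have := (fun _ => trivial : _ → True) @Cfsg.Lie.chevE8Chain45.eq_def
  have := (fun _ => trivial : _ → True) @Cfsg.Lie.chevE8Chain45.congr_simp
  have := (fun _ => trivial : _ → True) @Cfsg.Lie.chevE8Chain63.eq_1
  have := (fun _ => trivial : _ → True) @Cfsg.Lie.chevE8Chain63.eq_def
  have := (fun _ => trivial : _ → True) @Cfsg.Lie.chevE8Chain63.congr_simp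
  have := (fun _ => trivial : _ → True) @Cfsg.Lie.chevE8Chain73.eq_1
  have := (fun _ => trivial : _ → True) @Cfsg.Lie.chevE8Chain73.eq_def
  have := (fun _ => trivial : _ → True) @Cfsg.Lie.chevE8Chain73.congr_simp
  have := (fun _ => trivial : _ → True) @Cfsg.Lie.chevE8Chain26.eq_1
  have := (fun _ => trivial : _ → True) @Cfsg.Lie.chevE8Chain26.eq_def
  have := (fun _ => trivial : _ → True) @Cfsg.Lie.chevE8Chain26.congr_simp
  have := (fun _ => trivial : _ → True) @Cfsg.Lie.chevE8Chain114.eq_1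
  have := (fun _ => trivial : _ → True) @Cfsg.Lie.chevE8Chain114.eq_def
  have := (fun _ => trivial : _ → True) @Cfsg.Lie.chevE8Chain114.congr_simp
  have := (fun _ => trivial : _ → True) @Cfsg.Lie.chevE8Chain178.eq_1
  have := (fun _ => trivial : _ → True) @Cfsg.Lie.chevE8Chain178.eq_def
  have := (fun _ => trivial : _ → True) @Cfsg.Lie.chevE8Chain178.congr_simp
  have := (fun _ => trivial : _ → True) @Cfsg.Lie.chevE8Chain132.eq_1
  have := (fun _ => trivial : _ → True) @Cfsg.Lie.chevE8Chain132.eq_def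
  have := (fun _ => trivial : _ → True) @Cfsg.Lie.chevE8Chain132.congr_simp
  have := (fun _ => trivial : _ → True) @Cfsg.Lie.chevE8Chain184.eq_1
  have := (fun _ => trivial : _ → True) @Cfsg.Lie.chevE8Chain184.eq_def
  have := (fun _ => trivial : _ → True) @Cfsg.Lie.chevE8Chain184.congr_simp
  have := (fun _ => trivial : _ → True) @Cfsg.Lie.chevE8Chain157.eq_1
  have := (fun _ => trivial : _ → True) @Cfsg.Lie.chevE8Chain157.eq_def
  have := (fun _ => trivial : _ → True) @Cfsg.Lie.chevE8Chain157.congr_simp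
  have := (fun _ => trivial : _ → True) @Cfsg.Lie.chevE8Chain81.eq_1
  have := (fun _ => trivial : _ → True) @Cfsg.Lie.chevE8Chain81.eq_def
  have := (fun _ => trivial : _ → True) @Cfsg.Lie.chevE8Chain81.congr_simp
  have := (fun _ => trivial : _ → True) @Cfsg.Lie.chevE8Chain43.eq_1
  have := (fun _ => trivial : _ → True) @Cfsg.Lie.chevE8Chain43.eq_def
  have := (fun _ => trivial : _ → True) @Cfsg.Lie.chevE8Chain43.congr_simp
  have := (fun _ => trivial : _ → True) @Cfsg.Lie.chevE8Chain24.eq_1
  have := (fun _ => trivial : _ → True) @Cfsg.Lie.chevE8Chain24.eq_def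
  have := (fun _ => trivial : _ → True) @Cfsg.Lie.chevE8Chain24.congr_simp
  have := (fun _ => trivial : _ → True) @Cfsg.Lie.chevE8Chain10.eq_1
  have := (fun _ => trivial : _ → True) @Cfsg.Lie.chevE8Chain10.eq_def
  have := (fun _ => trivial : _ → True) @Cfsg.Lie.chevE8Chain10.congr_simp
  have := (fun _ => trivial : _ → True) @Cfsg.Lie.chevE8Chain8.eq_1
  have := (fun _ => trivial : _ → True) @Cfsg.Lie.chevE8Chain8.eq_def
  have := (fun _ => trivial : _ → True) @Cfsg.Lie.chevE8Chain8.congr_simp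
  have := (fun _ => trivial : _ → True) @Cfsg.Lie.chevE8Chain186.eq_1
  have := (fun _ => trivial : _ → True) @Cfsg.Lie.chevE8Chain186.eq_def
  have := (fun _ => trivial : _ → True) @Cfsg.Lie.chevE8Chain186.congr_simp
  have := (fun _ => trivial : _ → True) @Cfsg.Lie.chevE8Chain214.eq_1
  have := (fun _ => trivial : _ → True) @Cfsg.Lie.chevE8Chain214.eq_def
  have := (fun _ => trivial : _ → True) @Cfsg.Lie.chevE8Chain214.congr_simp
  have := (fun _ => trivial : _ → True) @Cfsg.Lie.chevE8Chain216.eq_1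
  have := (fun _ => trivial : _ → True) @Cfsg.Lie.chevE8Chain216.eq_def
  have := (fun _ => trivial : _ → True) @Cfsg.Lie.chevE8Chain216.congr_simp
  have := (fun _ => trivial : _ → True) @Cfsg.Lie.chevE8Chain40.eq_1
  have := (fun _ => trivial : _ → True) @Cfsg.Lie.chevE8Chain40.eq_def
  have := (fun _ => trivial : _ → True) @Cfsg.Lie.chevE8Chain40.congr_simp
  have := (fun _ => trivial : _ → True) @Cfsg.Lie.chevE8Chain154.eq_1
  have := (fun _ => trivial : _ → True) @Cfsg.Lie.chevE8Chain154.eq_def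
  have := (fun _ => trivial : _ → True) @Cfsg.Lie.chevE8Chain154.congr_simp
  have := (fun _ => trivial : _ → True) @Cfsg.Lie.chevE8Chain219.eq_1
  have := (fun _ => trivial : _ → True) @Cfsg.Lie.chevE8Chain219.eq_def
  have := (fun _ => trivial : _ → True) @Cfsg.Lie.chevE8Chain219.congr_simp
  have := (fun _ => trivial : _ → True) @Cfsg.Lie.chevE8NegIdx.eq_1
  have := (fun _ => trivial : _ → True) @Cfsg.Lie.chevE8NegIdx.eq_def
  have := (fun _ => trivial : _ → True) @Cfsg.Lie.chevE8NegIdx.congr_simp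
  have := (fun _ => trivial : _ → True) @Cfsg.Lie.chevE8Chain140.eq_1
  have := (fun _ => trivial : _ → True) @Cfsg.Lie.chevE8Chain140.eq_def
  have := (fun _ => trivial : _ → True) @Cfsg.Lie.chevE8Chain140.congr_simp
  have := (fun _ => trivial : _ → True) @Cfsg.Lie.chevE8Chain146.eq_1
  have := (fun _ => trivial : _ → True) @Cfsg.Lie.chevE8Chain146.eq_def
  have := (fun _ => trivial : _ → True) @Cfsg.Lie.chevE8Chain146.congr_simp
  have := (fun _ => trivial : _ → True) @Cfsg.Lie.chevE8Chain238.eq_1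
  have := (fun _ => trivial : _ → True) @Cfsg.Lie.chevE8Chain238.eq_def
  have := (fun _ => trivial : _ → True) @Cfsg.Lie.chevE8Chain238.congr_simp
  have := (fun _ => trivial : _ → True) @Cfsg.Lie.chevE8Chain232.eq_1
  have := (fun _ => trivial : _ → True) @Cfsg.Lie.chevE8Chain232.eq_def
  have := (fun _ => trivial : _ → True) @Cfsg.Lie.chevE8Chain232.congr_simp
  have := (fun _ => trivial : _ → True) @Cfsg.Lie.chevE8Chain167.eq_1
  have := (fun _ => trivial : _ → True) @Cfsg.Lie.chevE8Chain167.eq_def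
  have := (fun _ => trivial : _ → True) @Cfsg.Lie.chevE8Chain167.congr_simp
  have := (fun _ => trivial : _ → True) @Cfsg.Lie.chevE8Chain236.eq_1
  have := (fun _ => trivial : _ → True) @Cfsg.Lie.chevE8Chain236.eq_def
  have := (fun _ => trivial : _ → True) @Cfsg.Lie.chevE8Chain236.congr_simp
  have := (fun _ => trivial : _ → True) @Cfsg.Lie.chevE8Chain118.eq_1
  have := (fun _ => trivial : _ → True) @Cfsg.Lie.chevE8Chain118.eq_def
  have := (fun _ => trivial : _ → True) @Cfsg.Lie.chevE8Chain118.congr_simp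
  have := (fun _ => trivial : _ → True) @Cfsg.Lie.chevE8Chain49.eq_1
  have := (fun _ => trivial : _ → True) @Cfsg.Lie.chevE8Chain49.eq_def
  have := (fun _ => trivial : _ → True) @Cfsg.Lie.chevE8Chain49.congr_simp
  have := (fun _ => trivial : _ → True) @Cfsg.Lie.chevE8Chain101.eq_1
  have := (fun _ => trivial : _ → True) @Cfsg.Lie.chevE8Chain101.eq_def
  have := (fun _ => trivial : _ → True) @Cfsg.Lie.chevE8Chain101.congr_simp
  have := (fun _ => trivial : _ → True) @Cfsg.Lie.chevE8Chain203.eq_1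
  have := (fun _ => trivial : _ → True) @Cfsg.Lie.chevE8Chain203.eq_def
  have := (fun _ => trivial : _ → True) @Cfsg.Lie.chevE8Chain203.congr_simp
  have := (fun _ => trivial : _ → True) @Cfsg.Lie.chevE8Chain220.eq_1
  have := (fun _ => trivial : _ → True) @Cfsg.Lie.chevE8Chain220.eq_def
  have := (fun _ => trivial : _ → True) @Cfsg.Lie.chevE8Chain220.congr_simp
  have := (fun _ => trivial : _ → True) @Cfsg.Lie.chevE8Chain35.eq_1
  have := (fun _ => trivial : _ → True) @Cfsg.Lie.chevE8Chain35.eq_def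
  have := (fun _ => trivial : _ → True) @Cfsg.Lie.chevE8Chain35.congr_simp
  have := (fun _ => trivial : _ → True) @Cfsg.Lie.chevE8Chain51.eq_1
  have := (fun _ => trivial : _ → True) @Cfsg.Lie.chevE8Chain51.eq_def
  have := (fun _ => trivial : _ → True) @Cfsg.Lie.chevE8Chain51.congr_simp
  have := (fun _ => trivial : _ → True) @Cfsg.Lie.chevE8Chain83.eq_1
  have := (fun _ => trivial : _ → True) @Cfsg.Lie.chevE8Chain83.eq_def
  have := (fun _ => trivial : _ → True) @Cfsg.Lie.chevE8Chain83.congr_simp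
  have := (fun _ => trivial : _ → True) @Cfsg.Lie.chevE8Chain168.eq_1
  have := (fun _ => trivial : _ → True) @Cfsg.Lie.chevE8Chain168.eq_def
  have := (fun _ => trivial : _ → True) @Cfsg.Lie.chevE8Chain168.congr_simp
  have := (fun _ => trivial : _ → True) @Cfsg.Lie.chevE8Chain44.eq_1
  have := (fun _ => trivial : _ → True) @Cfsg.Lie.chevE8Chain44.eq_def
  have := (fun _ => trivial : _ → True) @Cfsg.Lie.chevE8Chain44.congr_simp
  have := (fun _ => trivial : _ → True) @Cfsg.Lie.chevE8Chain237.eq_1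
  have := (fun _ => trivial : _ → True) @Cfsg.Lie.chevE8Chain237.eq_def
  have := (fun _ => trivial : _ → True) @Cfsg.Lie.chevE8Chain237.congr_simp
  have := (fun _ => trivial : _ → True) @Cfsg.Lie.chevE8Chain183.eq_1
  have := (fun _ => trivial : _ → True) @Cfsg.Lie.chevE8Chain183.eq_def
  have := (fun _ => trivial : _ → True) @Cfsg.Lie.chevE8Chain183.congr_simp
  have := (fun _ => trivial : _ → True) @Cfsg.Lie.chevE8Chain39.eq_1
  have := (fun _ => trivial : _ → True) @Cfsg.Lie.chevE8Chain39.eq_def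
  have := (fun _ => trivial : _ → True) @Cfsg.Lie.chevE8Chain39.congr_simp
  have := (fun _ => trivial : _ → True) @Cfsg.Lie.chevE8Chain200.eq_1
  have := (fun _ => trivial : _ → True) @Cfsg.Lie.chevE8Chain200.eq_def
  have := (fun _ => trivial : _ → True) @Cfsg.Lie.chevE8Chain200.congr_simp
  have := (fun _ => trivial : _ → True) @Cfsg.Lie.chevE8Chain112.eq_1
  have := (fun _ => trivial : _ → True) @Cfsg.Lie.chevE8Chain112.eq_def
  have := (fun _ => trivial : _ → True) @Cfsg.Lie.chevE8Chain112.congr_simp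
  have := (fun _ => trivial : _ → True) @Cfsg.Lie.chevE8Chain153.eq_1
  have := (fun _ => trivial : _ → True) @Cfsg.Lie.chevE8Chain153.eq_def
  have := (fun _ => trivial : _ → True) @Cfsg.Lie.chevE8Chain153.congr_simp
  have := (fun _ => trivial : _ → True) @Cfsg.Lie.chevE8Chain134.eq_1
  have := (fun _ => trivial : _ → True) @Cfsg.Lie.chevE8Chain134.eq_def
  have := (fun _ => trivial : _ → True) @Cfsg.Lie.chevE8Chain134.congr_simp
  have := (fun _ => trivial : _ → True) @Cfsg.Lie.chevE8Chain16.eq_1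
  have := (fun _ => trivial : _ → True) @Cfsg.Lie.chevE8Chain16.eq_def
  have := (fun _ => trivial : _ → True) @Cfsg.Lie.chevE8Chain16.congr_simp
  have := (fun _ => trivial : _ → True) @Cfsg.Lie.chevE8Chain23.eq_1
  have := (fun _ => trivial : _ → True) @Cfsg.Lie.chevE8Chain23.eq_def
  have := (fun _ => trivial : _ → True) @Cfsg.Lie.chevE8Chain23.congr_simp
  have := (fun _ => trivial : _ → True) @Cfsg.Lie.chevE8Chain46.eq_1
  have := (fun _ => trivial : _ → True) @Cfsg.Lie.chevE8Chain46.eq_def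
  have := (fun _ => trivial : _ → True) @Cfsg.Lie.chevE8Chain46.congr_simp
  have := (fun _ => trivial : _ → True) @Cfsg.Lie.chevE8Chain89.eq_1
  have := (fun _ => trivial : _ → True) @Cfsg.Lie.chevE8Chain89.eq_def
  have := (fun _ => trivial : _ → True) @Cfsg.Lie.chevE8Chain89.congr_simp
  have := (fun _ => trivial : _ → True) @Cfsg.Lie.chevE8Chain58.eq_1
  have := (fun _ => trivial : _ → True) @Cfsg.Lie.chevE8Chain58.eq_def
  have := (fun _ => trivial : _ → True) @Cfsg.Lie.chevE8Chain58.congr_simp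
  have := (fun _ => trivial : _ → True) @Cfsg.Lie.chevE8Chain96.eq_1
  have := (fun _ => trivial : _ → True) @Cfsg.Lie.chevE8Chain96.eq_def
  have := (fun _ => trivial : _ → True) @Cfsg.Lie.chevE8Chain96.congr_simp
  have := (fun _ => trivial : _ → True) @Cfsg.Lie.chevE8Chain139.eq_1
  have := (fun _ => trivial : _ → True) @Cfsg.Lie.chevE8Chain139.eq_def
  have := (fun _ => trivial : _ → True) @Cfsg.Lie.chevE8Chain139.congr_simp
  have := (fun _ => trivial : _ → True) @Cfsg.Lie.chevE8Chain0.eq_1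
  have := (fun _ => trivial : _ → True) @Cfsg.Lie.chevE8Chain0.eq_def
  have := (fun _ => trivial : _ → True) @Cfsg.Lie.chevE8Chain0.congr_simp
  have := (fun _ => trivial : _ → True) @Cfsg.Lie.chevE8CartanSR.eq_1
  have := (fun _ => trivial : _ → True) @Cfsg.Lie.chevE8CartanSR.eq_def
  have := (fun _ => trivial : _ → True) @Cfsg.Lie.chevE8CartanSR.congr_simp
  have := (fun _ => trivial : _ → True) @Cfsg.Lie.chevE8Chain231.eq_1
  have := (fun _ => trivial : _ → True) @Cfsg.Lie.chevE8Chain231.eq_def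
  have := (fun _ => trivial : _ → True) @Cfsg.Lie.chevE8Chain231.congr_simp
  have := (fun _ => trivial : _ → True) @Cfsg.Lie.chevE8Chain123.eq_1
  have := (fun _ => trivial : _ → True) @Cfsg.Lie.chevE8Chain123.eq_def
  have := (fun _ => trivial : _ → True) @Cfsg.Lie.chevE8Chain123.congr_simp
  have := (fun _ => trivial : _ → True) @Cfsg.Lie.chevE8Chain93.eq_1
  have := (fun _ => trivial : _ → True) @Cfsg.Lie.chevE8Chain93.eq_def
  have := (fun _ => trivial : _ → True) @Cfsg.Lie.chevE8Chain93.congr_simp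
  have := (fun _ => trivial : _ → True) @Cfsg.Lie.chevE8Chain176.eq_1
  have := (fun _ => trivial : _ → True) @Cfsg.Lie.chevE8Chain176.eq_def
  have := (fun _ => trivial : _ → True) @Cfsg.Lie.chevE8Chain176.congr_simp
  have := (fun _ => trivial : _ → True) @Cfsg.Lie.chevE8Chain182.eq_1
  have := (fun _ => trivial : _ → True) @Cfsg.Lie.chevE8Chain182.eq_def
  have := (fun _ => trivial : _ → True) @Cfsg.Lie.chevE8Chain182.congr_simp
  have := (fun _ => trivial : _ → True) @Cfsg.Lie.chevE8Chain84.eq_1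
  have := (fun _ => trivial : _ → True) @Cfsg.Lie.chevE8Chain84.eq_def
  have := (fun _ => trivial : _ → True) @Cfsg.Lie.chevE8Chain84.congr_simp
  have := (fun _ => trivial : _ → True) @Cfsg.Lie.chevE8Chain94.eq_1
  have := (fun _ => trivial : _ → True) @Cfsg.Lie.chevE8Chain94.eq_def
  have := (fun _ => trivial : _ → True) @Cfsg.Lie.chevE8Chain94.congr_simp
  have := (fun _ => trivial : _ → True) @Cfsg.Lie.chevE8Chain29.eq_1
  have := (fun _ => trivial : _ → True) @Cfsg.Lie.chevE8Chain29.eq_def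
  have := (fun _ => trivial : _ → True) @Cfsg.Lie.chevE8Chain29.congr_simp
  have := (fun _ => trivial : _ → True) @Cfsg.Lie.chevE8Chain13.eq_1
  have := (fun _ => trivial : _ → True) @Cfsg.Lie.chevE8Chain13.eq_def
  have := (fun _ => trivial : _ → True) @Cfsg.Lie.chevE8Chain13.congr_simp
  have := (fun _ => trivial : _ → True) @Cfsg.Lie.chevE8Chain113.eq_1
  have := (fun _ => trivial : _ → True) @Cfsg.Lie.chevE8Chain113.eq_def
  have := (fun _ => trivial : _ → True) @Cfsg.Lie.chevE8Chain113.congr_simp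
  have := (fun _ => trivial : _ → True) @Cfsg.Lie.chevE8Chain163.eq_1
  have := (fun _ => trivial : _ → True) @Cfsg.Lie.chevE8Chain163.eq_def
  have := (fun _ => trivial : _ → True) @Cfsg.Lie.chevE8Chain163.congr_simp
  have := (fun _ => trivial : _ → True) @Cfsg.Lie.chevE8Chain85.eq_1
  have := (fun _ => trivial : _ → True) @Cfsg.Lie.chevE8Chain85.eq_def
  have := (fun _ => trivial : _ → True) @Cfsg.Lie.chevE8Chain85.congr_simp
  have := (fun _ => trivial : _ → True) @Cfsg.Lie.chevE8Chain107.eq_1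
  have := (fun _ => trivial : _ → True) @Cfsg.Lie.chevE8Chain107.eq_def
  have := (fun _ => trivial : _ → True) @Cfsg.Lie.chevE8Chain107.congr_simp
  have := (fun _ => trivial : _ → True) @Cfsg.Lie.chevE8Chain7.eq_1
  have := (fun _ => trivial : _ → True) @Cfsg.Lie.chevE8Chain7.eq_def
  have := (fun _ => trivial : _ → True) @Cfsg.Lie.chevE8Chain7.congr_simp
  have := (fun _ => trivial : _ → True) @Cfsg.Lie.chevE8Chain59.eq_1
  have := (fun _ => trivial : _ → True) @Cfsg.Lie.chevE8Chain59.eq_def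
  have := (fun _ => trivial : _ → True) @Cfsg.Lie.chevE8Chain59.congr_simp
  have := (fun _ => trivial : _ → True) @Cfsg.Lie.chevE8Chain72.eq_1
  have := (fun _ => trivial : _ → True) @Cfsg.Lie.chevE8Chain72.eq_def
  have := (fun _ => trivial : _ → True) @Cfsg.Lie.chevE8Chain72.congr_simp
  have := (fun _ => trivial : _ → True) @Cfsg.Lie.chevE8Chain135.eq_1
  have := (fun _ => trivial : _ → True) @Cfsg.Lie.chevE8Chain135.eq_def
  have := (fun _ => trivial : _ → True) @Cfsg.Lie.chevE8Chain135.congr_simp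
  have := (fun _ => trivial : _ → True) @Cfsg.Lie.chevE8Chain152.eq_1
  have := (fun _ => trivial : _ → True) @Cfsg.Lie.chevE8Chain152.eq_def
  have := (fun _ => trivial : _ → True) @Cfsg.Lie.chevE8Chain152.congr_simp
  have := (fun _ => trivial : _ → True) @Cfsg.Lie.chevE8Chain141.eq_1
  have := (fun _ => trivial : _ → True) @Cfsg.Lie.chevE8Chain141.eq_def
  have := (fun _ => trivial : _ → True) @Cfsg.Lie.chevE8Chain141.congr_simp
  have := (fun _ => trivial : _ → True) @Cfsg.Lie.chevE8Chain41.eq_1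
  have := (fun _ => trivial : _ → True) @Cfsg.Lie.chevE8Chain41.eq_def
  have := (fun _ => trivial : _ → True) @Cfsg.Lie.chevE8Chain41.congr_simp
  have := (fun _ => trivial : _ → True) @Cfsg.Lie.chevE8Chain77.eq_1
  have := (fun _ => trivial : _ → True) @Cfsg.Lie.chevE8Chain77.eq_def
  have := (fun _ => trivial : _ → True) @Cfsg.Lie.chevE8Chain77.congr_simp
  have := (fun _ => trivial : _ → True) @Cfsg.Lie.chevE8Chain196.eq_1
  have := (fun _ => trivial : _ → True) @Cfsg.Lie.chevE8Chain196.eq_def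
  have := (fun _ => trivial : _ → True) @Cfsg.Lie.chevE8Chain196.congr_simp
  have := (fun _ => trivial : _ → True) @Cfsg.Lie.chevE8Chain60.eq_1
  have := (fun _ => trivial : _ → True) @Cfsg.Lie.chevE8Chain60.eq_def
  have := (fun _ => trivial : _ → True) @Cfsg.Lie.chevE8Chain60.congr_simp
  have := (fun _ => trivial : _ → True) @Cfsg.Lie.chevE8Chain105.eq_1
  have := (fun _ => trivial : _ → True) @Cfsg.Lie.chevE8Chain105.eq_def
  have := (fun _ => trivial : _ → True) @Cfsg.Lie.chevE8Chain105.congr_simp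
  have := (fun _ => trivial : _ → True) @Cfsg.Lie.chevE8Chain235.eq_1
  have := (fun _ => trivial : _ → True) @Cfsg.Lie.chevE8Chain235.eq_def
  have := (fun _ => trivial : _ → True) @Cfsg.Lie.chevE8Chain235.congr_simp
  have := (fun _ => trivial : _ → True) @Cfsg.Lie.chevE8Chain38.eq_1
  have := (fun _ => trivial : _ → True) @Cfsg.Lie.chevE8Chain38.eq_def
  have := (fun _ => trivial : _ → True) @Cfsg.Lie.chevE8Chain38.congr_simp
  have := (fun _ => trivial : _ → True) @Cfsg.Lie.chevE8Chain147.eq_1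
  have := (fun _ => trivial : _ → True) @Cfsg.Lie.chevE8Chain147.eq_def
  have := (fun _ => trivial : _ → True) @Cfsg.Lie.chevE8Chain147.congr_simp
  have := (fun _ => trivial : _ → True) @Cfsg.Lie.chevE8Chain177.eq_1
  have := (fun _ => trivial : _ → True) @Cfsg.Lie.chevE8Chain177.eq_def
  have := (fun _ => trivial : _ → True) @Cfsg.Lie.chevE8Chain177.congr_simp
  have := (fun _ => trivial : _ → True) @Cfsg.Lie.chevE8Chain150.eq_1
  have := (fun _ => trivial : _ → True) @Cfsg.Lie.chevE8Chain150.eq_def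
  have := (fun _ => trivial : _ → True) @Cfsg.Lie.chevE8Chain150.congr_simp
  have := (fun _ => trivial : _ → True) @Cfsg.Lie.chevE8Chain194.eq_1
  have := (fun _ => trivial : _ → True) @Cfsg.Lie.chevE8Chain194.eq_def
  have := (fun _ => trivial : _ → True) @Cfsg.Lie.chevE8Chain194.congr_simp
  have := (fun _ => trivial : _ → True) @Cfsg.Lie.chevE8Chain202.eq_1
  have := (fun _ => trivial : _ → True) @Cfsg.Lie.chevE8Chain202.eq_def
  have := (fun _ => trivial : _ → True) @Cfsg.Lie.chevE8Chain202.congr_simp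
  have := (fun _ => trivial : _ → True) @Cfsg.Lie.chevE8Chain80.eq_1
  have := (fun _ => trivial : _ → True) @Cfsg.Lie.chevE8Chain80.eq_def
  have := (fun _ => trivial : _ → True) @Cfsg.Lie.chevE8Chain80.congr_simp
  have := (fun _ => trivial : _ → True) @Cfsg.Lie.chevE8Chain108.eq_1
  have := (fun _ => trivial : _ → True) @Cfsg.Lie.chevE8Chain108.eq_def
  have := (fun _ => trivial : _ → True) @Cfsg.Lie.chevE8Chain108.congr_simp
  have := (fun _ => trivial : _ → True) @Cfsg.Lie.chevE8Chain106.eq_1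
  have := (fun _ => trivial : _ → True) @Cfsg.Lie.chevE8Chain106.eq_def
  have := (fun _ => trivial : _ → True) @Cfsg.Lie.chevE8Chain106.congr_simp
  have := (fun _ => trivial : _ → True) @Cfsg.Lie.chevE8Chain211.eq_1
  have := (fun _ => trivial : _ → True) @Cfsg.Lie.chevE8Chain211.eq_def
  have := (fun _ => trivial : _ → True) @Cfsg.Lie.chevE8Chain211.congr_simp
  have := (fun _ => trivial : _ → True) @Cfsg.Lie.chevE8Chain169.eq_1
  have := (fun _ => trivial : _ → True) @Cfsg.Lie.chevE8Chain169.eq_def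
  have := (fun _ => trivial : _ → True) @Cfsg.Lie.chevE8Chain169.congr_simp
  have := (fun _ => trivial : _ → True) @Cfsg.Lie.chevE8Chain133.eq_1
  have := (fun _ => trivial : _ → True) @Cfsg.Lie.chevE8Chain133.eq_def
  have := (fun _ => trivial : _ → True) @Cfsg.Lie.chevE8Chain133.congr_simp
  have := (fun _ => trivial : _ → True) @Cfsg.Lie.chevE8Chain136.eq_1
  have := (fun _ => trivial : _ → True) @Cfsg.Lie.chevE8Chain136.eq_def
  have := (fun _ => trivial : _ → True) @Cfsg.Lie.chevE8Chain136.congr_simp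
  have := (fun _ => trivial : _ → True) @Cfsg.Lie.chevE8Chain234.eq_1
  have := (fun _ => trivial : _ → True) @Cfsg.Lie.chevE8Chain234.eq_def
  have := (fun _ => trivial : _ → True) @Cfsg.Lie.chevE8Chain234.congr_simp
  have := (fun _ => trivial : _ → True) @Cfsg.Lie.chevE8Chain25.eq_1
  have := (fun _ => trivial : _ → True) @Cfsg.Lie.chevE8Chain25.eq_def
  have := (fun _ => trivial : _ → True) @Cfsg.Lie.chevE8Chain25.congr_simp
  have := (fun _ => trivial : _ → True) @Cfsg.Lie.chevE8Chain90.eq_1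
  have := (fun _ => trivial : _ → True) @Cfsg.Lie.chevE8Chain90.eq_def
  have := (fun _ => trivial : _ → True) @Cfsg.Lie.chevE8Chain90.congr_simp
  have := (fun _ => trivial : _ → True) @Cfsg.Lie.chevE8Chain204.eq_1
  have := (fun _ => trivial : _ → True) @Cfsg.Lie.chevE8Chain204.eq_def
  have := (fun _ => trivial : _ → True) @Cfsg.Lie.chevE8Chain204.congr_simp
  have := (fun _ => trivial : _ → True) @Cfsg.Lie.chevE8Chain102.eq_1
  have := (fun _ => trivial : _ → True) @Cfsg.Lie.chevE8Chain102.eq_def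
  have := (fun _ => trivial : _ → True) @Cfsg.Lie.chevE8Chain102.congr_simp
  have := (fun _ => trivial : _ → True) @Cfsg.Lie.chevE8Chain229.eq_1
  have := (fun _ => trivial : _ → True) @Cfsg.Lie.chevE8Chain229.eq_def
  have := (fun _ => trivial : _ → True) @Cfsg.Lie.chevE8Chain229.congr_simp
  have := (fun _ => trivial : _ → True) @Cfsg.Lie.chevE8Chain173.eq_1
  have := (fun _ => trivial : _ → True) @Cfsg.Lie.chevE8Chain173.eq_def
  have := (fun _ => trivial : _ → True) @Cfsg.Lie.chevE8Chain173.congr_simp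
  have := (fun _ => trivial : _ → True) @Cfsg.Lie.chevE8Chain193.eq_1
  have := (fun _ => trivial : _ → True) @Cfsg.Lie.chevE8Chain193.eq_def
  have := (fun _ => trivial : _ → True) @Cfsg.Lie.chevE8Chain193.congr_simp
  have := (fun _ => trivial : _ → True) @Cfsg.Lie.chevE8Chain172.eq_1
  have := (fun _ => trivial : _ → True) @Cfsg.Lie.chevE8Chain172.eq_def
  have := (fun _ => trivial : _ → True) @Cfsg.Lie.chevE8Chain172.congr_simp
  have := (fun _ => trivial : _ → True) @Cfsg.Lie.chevE8Chain179.eq_1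
  have := (fun _ => trivial : _ → True) @Cfsg.Lie.chevE8Chain179.eq_def
  have := (fun _ => trivial : _ → True) @Cfsg.Lie.chevE8Chain179.congr_simp
  have := (fun _ => trivial : _ → True) @Cfsg.Lie.chevE8Chain79.eq_1
  have := (fun _ => trivial : _ → True) @Cfsg.Lie.chevE8Chain79.eq_def
  have := (fun _ => trivial : _ → True) @Cfsg.Lie.chevE8Chain79.congr_simp
  have := (fun _ => trivial : _ → True) @Cfsg.Lie.chevE8Chain36.eq_1
  have := (fun _ => trivial : _ → True) @Cfsg.Lie.chevE8Chain36.eq_def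
  have := (fun _ => trivial : _ → True) @Cfsg.Lie.chevE8Chain36.congr_simp
  have := (fun _ => trivial : _ → True) @Cfsg.Lie.chevE8Chain91.eq_1
  have := (fun _ => trivial : _ → True) @Cfsg.Lie.chevE8Chain91.eq_def
  have := (fun _ => trivial : _ → True) @Cfsg.Lie.chevE8Chain91.congr_simp
  have := (fun _ => trivial : _ → True) @Cfsg.Lie.chevE8Chain124.eq_1
  have := (fun _ => trivial : _ → True) @Cfsg.Lie.chevE8Chain124.eq_def
  have := (fun _ => trivial : _ → True) @Cfsg.Lie.chevE8Chain124.congr_simp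
  have := (fun _ => trivial : _ → True) @Cfsg.Lie.chevE8Chain61.eq_1
  have := (fun _ => trivial : _ → True) @Cfsg.Lie.chevE8Chain61.eq_def
  have := (fun _ => trivial : _ → True) @Cfsg.Lie.chevE8Chain61.congr_simp
  have := (fun _ => trivial : _ → True) @Cfsg.Lie.chevE8Chain115.eq_1
  have := (fun _ => trivial : _ → True) @Cfsg.Lie.chevE8Chain115.eq_def
  have := (fun _ => trivial : _ → True) @Cfsg.Lie.chevE8Chain115.congr_simp
  have := (fun _ => trivial : _ → True) @Cfsg.Lie.chevE8Chain190.eq_1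
  have := (fun _ => trivial : _ → True) @Cfsg.Lie.chevE8Chain190.eq_def
  have := (fun _ => trivial : _ → True) @Cfsg.Lie.chevE8Chain190.congr_simp
  have := (fun _ => trivial : _ → True) @Cfsg.Lie.chevE8Chain65.eq_1
  have := (fun _ => trivial : _ → True) @Cfsg.Lie.chevE8Chain65.eq_def
  have := (fun _ => trivial : _ → True) @Cfsg.Lie.chevE8Chain65.congr_simp
  have := (fun _ => trivial : _ → True) @Cfsg.Lie.chevE8Chain67.eq_1
  have := (fun _ => trivial : _ → True) @Cfsg.Lie.chevE8Chain67.eq_def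
  have := (fun _ => trivial : _ → True) @Cfsg.Lie.chevE8Chain67.congr_simp
  have := (fun _ => trivial : _ → True) @Cfsg.Lie.chevE8Chain142.eq_1
  have := (fun _ => trivial : _ → True) @Cfsg.Lie.chevE8Chain142.eq_def
  have := (fun _ => trivial : _ → True) @Cfsg.Lie.chevE8Chain142.congr_simp
  have := (fun _ => trivial : _ → True) @Cfsg.Lie.chevE8Chain175.eq_1
  have := (fun _ => trivial : _ → True) @Cfsg.Lie.chevE8Chain175.eq_def
  have := (fun _ => trivial : _ → True) @Cfsg.Lie.chevE8Chain175.congr_simp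
  have := (fun _ => trivial : _ → True) @Cfsg.Lie.chevE8Chain.eq_1
  have := (fun _ => trivial : _ → True) @Cfsg.Lie.chevE8Chain.eq_def
  have := (fun _ => trivial : _ → True) @Cfsg.Lie.chevE8Chain.congr_simp
  have := (fun _ => trivial : _ → True) @Cfsg.Lie.chevE8Chain56.eq_1
  have := (fun _ => trivial : _ → True) @Cfsg.Lie.chevE8Chain56.eq_def
  have := (fun _ => trivial : _ → True) @Cfsg.Lie.chevE8Chain56.congr_simp
  have := (fun _ => trivial : _ → True) @Cfsg.Lie.chevE8Chain14.eq_1
  have := (fun _ => trivial : _ → True) @Cfsg.Lie.chevE8Chain14.eq_def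
  have := (fun _ => trivial : _ → True) @Cfsg.Lie.chevE8Chain14.congr_simp
  have := (fun _ => trivial : _ → True) @Cfsg.Lie.chevE8Chain54.eq_1
  have := (fun _ => trivial : _ → True) @Cfsg.Lie.chevE8Chain54.eq_def
  have := (fun _ => trivial : _ → True) @Cfsg.Lie.chevE8Chain54.congr_simp
  have := (fun _ => trivial : _ → True) @Cfsg.Lie.chevE8Chain161.eq_1
  have := (fun _ => trivial : _ → True) @Cfsg.Lie.chevE8Chain161.eq_def
  have := (fun _ => trivial : _ → True) @Cfsg.Lie.chevE8Chain161.congr_simp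
  have := (fun _ => trivial : _ → True) @Cfsg.Lie.chevE8Chain109.eq_1
  have := (fun _ => trivial : _ → True) @Cfsg.Lie.chevE8Chain109.eq_def
  have := (fun _ => trivial : _ → True) @Cfsg.Lie.chevE8Chain109.congr_simp
  have := (fun _ => trivial : _ → True) @Cfsg.Lie.chevE8Chain57.eq_1
  have := (fun _ => trivial : _ → True) @Cfsg.Lie.chevE8Chain57.eq_def
  have := (fun _ => trivial : _ → True) @Cfsg.Lie.chevE8Chain57.congr_simp
  have := (fun _ => trivial : _ → True) @Cfsg.Lie.chevE8Chain1.eq_1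
  have := (fun _ => trivial : _ → True) @Cfsg.Lie.chevE8Chain1.eq_def
  have := (fun _ => trivial : _ → True) @Cfsg.Lie.chevE8Chain1.congr_simp
  have := (fun _ => trivial : _ → True) @Cfsg.Lie.chevE8Chain215.eq_1
  have := (fun _ => trivial : _ → True) @Cfsg.Lie.chevE8Chain215.eq_def
  have := (fun _ => trivial : _ → True) @Cfsg.Lie.chevE8Chain215.congr_simp
  have := (fun _ => trivial : _ → True) @Cfsg.Lie.chevE8Chain205.eq_1
  have := (fun _ => trivial : _ → True) @Cfsg.Lie.chevE8Chain205.eq_def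
  have := (fun _ => trivial : _ → True) @Cfsg.Lie.chevE8Chain205.congr_simp
  have := (fun _ => trivial : _ → True) @Cfsg.Lie.chevE8Chain111.eq_1
  have := (fun _ => trivial : _ → True) @Cfsg.Lie.chevE8Chain111.eq_def
  have := (fun _ => trivial : _ → True) @Cfsg.Lie.chevE8Chain111.congr_simp
  have := (fun _ => trivial : _ → True) @Cfsg.Lie.chevE8Chain189.eq_1
  have := (fun _ => trivial : _ → True) @Cfsg.Lie.chevE8Chain189.eq_def
  have := (fun _ => trivial : _ → True) @Cfsg.Lie.chevE8Chain189.congr_simp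
  have := (fun _ => trivial : _ → True) @Cfsg.Lie.chevE8Chain137.eq_1
  have := (fun _ => trivial : _ → True) @Cfsg.Lie.chevE8Chain137.eq_def
  have := (fun _ => trivial : _ → True) @Cfsg.Lie.chevE8Chain137.congr_simp
  have := (fun _ => trivial : _ → True) @Cfsg.Lie.chevE8Chain181.eq_1
  have := (fun _ => trivial : _ → True) @Cfsg.Lie.chevE8Chain181.eq_def
  have := (fun _ => trivial : _ → True) @Cfsg.Lie.chevE8Chain181.congr_simp
  have := (fun _ => trivial : _ → True) @Cfsg.Lie.chevE8Chain223.eq_1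
  have := (fun _ => trivial : _ → True) @Cfsg.Lie.chevE8Chain223.eq_def
  have := (fun _ => trivial : _ → True) @Cfsg.Lie.chevE8Chain223.congr_simp
  have := (fun _ => trivial : _ → True) @Cfsg.Lie.chevE8Chain2.eq_1
  have := (fun _ => trivial : _ → True) @Cfsg.Lie.chevE8Chain2.eq_def
  have := (fun _ => trivial : _ → True) @Cfsg.Lie.chevE8Chain2.congr_simp
  have := (fun _ => trivial : _ → True) @Cfsg.Lie.chevE8Chain4.eq_1
  have := (fun _ => trivial : _ → True) @Cfsg.Lie.chevE8Chain4.eq_def
  have := (fun _ => trivial : _ → True) @Cfsg.Lie.chevE8Chain4.congr_simp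
  have := (fun _ => trivial : _ → True) @Cfsg.Lie.chevE8.eq_1
  have := (fun _ => trivial : _ → True) @Cfsg.Lie.chevE8.eq_def
  have := (fun _ => trivial : _ → True) @Cfsg.Lie.chevE8.congr_simp
  have := (fun _ => trivial : _ → True) @Cfsg.Lie.chevE8Chain69.eq_1
  have := (fun _ => trivial : _ → True) @Cfsg.Lie.chevE8Chain69.eq_def
  have := (fun _ => trivial : _ → True) @Cfsg.Lie.chevE8Chain69.congr_simp
  trivial
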