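import Cfsg.Prelude.Def_ChevG2
import Cfsg.Agent.Eq.Def_Chevalley

/-! Pre-generates on-demand lemmas for the definitions, so that importers share one copy. -/

theorem CfsgLib.Eq.Def_ChevG2.touch : True := by
  have := (fun _ => trivial : _ → True) @Cfsg.Lie.chevG2Coroot.eq_1
  have := (fun _ => trivial : _ → True) @Cfsg.Lie.chevG2Coroot.eq_def
  have := (fun _ => trivial : _ → True) @Cfsg.Lie.chevG2Coroot.congr_simp
  have := (fun _ => trivial : _ → True) @Cfsg.Lie.chevG2Chain8.eq_1
  have := (fun _ => trivial : _ → True) @Cfsg.Lie.chevG2Chain8.eq_def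
  have := (fun _ => trivial : _ → True) @Cfsg.Lie.chevG2Chain8.congr_simp
  have := (fun _ => trivial : _ → True) @Cfsg.Lie.chevG2Chain6.eq_1
  have := (fun _ => trivial : _ → True) @Cfsg.Lie.chevG2Chain6.eq_def
  have := (fun _ => trivial : _ → True) @Cfsg.Lie.chevG2Chain6.congr_simp
  have := (fun _ => trivial : _ → True) @Cfsg.Lie.chevG2Chain0.eq_1
  have := (fun _ => trivial : _ → True) @Cfsg.Lie.chevG2Chain0.eq_def
  have := (fun _ => trivial : _ → True) @Cfsg.Lie.chevG2Chain0.congr_simp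
  have := (fun _ => trivial : _ → True) @Cfsg.Lie.chevG2SimpleIdx.eq_1
  have := (fun _ => trivial : _ → True) @Cfsg.Lie.chevG2SimpleIdx.eq_def
  have := (fun _ => trivial : _ → True) @Cfsg.Lie.chevG2SimpleIdx.congr_simp
  have := (fun _ => trivial : _ → True) @Cfsg.Lie.chevG2Chain3.eq_1
  have := (fun _ => trivial : _ → True) @Cfsg.Lie.chevG2Chain3.eq_def
  have := (fun _ => trivial : _ → True) @Cfsg.Lie.chevG2Chain3.congr_simp
  have := (fun _ => trivial : _ → True) @Cfsg.Lie.chevG2Chain.eq_1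
  have := (fun _ => trivial : _ → True) @Cfsg.Lie.chevG2Chain.eq_def
  have := (fun _ => trivial : _ → True) @Cfsg.Lie.chevG2Chain.congr_simp
  have := (fun _ => trivial : _ → True) @Cfsg.Lie.chevG2Chain11.eq_1
  have := (fun _ => trivial : _ → True) @Cfsg.Lie.chevG2Chain11.eq_def
  have := (fun _ => trivial : _ → True) @Cfsg.Lie.chevG2Chain11.congr_simp
  have := (fun _ => trivial : _ → True) @Cfsg.Lie.chevG2Chain2.eq_1
  have := (fun _ => trivial : _ → True) @Cfsg.Lie.chevG2Chain2.eq_def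
  have := (fun _ => trivial : _ → True) @Cfsg.Lie.chevG2Chain2.congr_simp
  have := (fun _ => trivial : _ → True) @Cfsg.Lie.chevG2NegIdx.eq_1
  have := (fun _ => trivial : _ → True) @Cfsg.Lie.chevG2NegIdx.eq_def
  have := (fun _ => trivial : _ → True) @Cfsg.Lie.chevG2NegIdx.congr_simp
  have := (fun _ => trivial : _ → True) @Cfsg.Lie.chevG2Chain7.eq_1
  have := (fun _ => trivial : _ → True) @Cfsg.Lie.chevG2Chain7.eq_def
  have := (fun _ => trivial : _ → True) @Cfsg.Lie.chevG2Chain7.congr_simp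
  have := (fun _ => trivial : _ → True) @Cfsg.Lie.chevG2Chain5.eq_1
  have := (fun _ => trivial : _ → True) @Cfsg.Lie.chevG2Chain5.eq_def
  have := (fun _ => trivial : _ → True) @Cfsg.Lie.chevG2Chain5.congr_simp
  have := (fun _ => trivial : _ → True) @Cfsg.Lie.chevG2Chain9.eq_1
  have := (fun _ => trivial : _ → True) @Cfsg.Lie.chevG2Chain9.eq_def
  have := (fun _ => trivial : _ → True) @Cfsg.Lie.chevG2Chain9.congr_simp
  have := (fun _ => trivial : _ → True) @Cfsg.Lie.chevG2.eq_1
  have := (fun _ => trivial : _ → True) @Cfsg.Lie.chevG2.eq_def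
  have := (fun _ => trivial : _ → True) @Cfsg.Lie.chevG2.congr_simp
  have := (fun _ => trivial : _ → True) @Cfsg.Lie.chevG2CartanSR.eq_1
  have := (fun _ => trivial : _ → True) @Cfsg.Lie.chevG2CartanSR.eq_def
  have := (fun _ => trivial : _ → True) @Cfsg.Lie.chevG2CartanSR.congr_simp
  have := (fun _ => trivial : _ → True) @Cfsg.Lie.chevG2Chain1.eq_1
  have := (fun _ => trivial : _ → True) @Cfsg.Lie.chevG2Chain1.eq_def
  have := (fun _ => trivial : _ → True) @Cfsg.Lie.chevG2Chain1.congr_simp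
  have := (fun _ => trivial : _ → True) @Cfsg.Lie.chevG2Chain10.eq_1
  have := (fun _ => trivial : _ → True) @Cfsg.Lie.chevG2Chain10.eq_def
  have := (fun _ => trivial : _ → True) @Cfsg.Lie.chevG2Chain10.congr_simp
  have := (fun _ => trivial : _ → True) @Cfsg.Lie.chevG2Chain4.eq_1
  have := (fun _ => trivial : _ → True) @Cfsg.Lie.chevG2Chain4.eq_def
  have := (fun _ => trivial : _ → True) @Cfsg.Lie.chevG2Chain4.congr_simp
  trivial
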