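import Cfsg.Prelude.Def_ChevD4
import Cfsg.Agent.Eq.Def_Chevalley

/-! Pre-generates on-demand lemmas for the definitions, so that importers share one copy. -/

theorem CfsgLib.Eq.Def_ChevD4.touch : True := by
  have := (fun _ => trivial : _ → True) @Cfsg.Lie.chevD4Chain4.eq_1
  have := (fun _ => trivial : _ → True) @Cfsg.Lie.chevD4Chain4.eq_def
  have := (fun _ => trivial : _ → True) @Cfsg.Lie.chevD4Chain4.congr_simp
  have := (fun _ => trivial : _ → True) @Cfsg.Lie.chevD4Chain10.eq_1
  have := (fun _ => trivial : _ → True) @Cfsg.Lie.chevD4Chain10.eq_def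
  have := (fun _ => trivial : _ → True) @Cfsg.Lie.chevD4Chain10.congr_simp
  have := (fun _ => trivial : _ → True) @Cfsg.Lie.chevD4Chain22.eq_1
  have := (fun _ => trivial : _ → True) @Cfsg.Lie.chevD4Chain22.eq_def
  have := (fun _ => trivial : _ → True) @Cfsg.Lie.chevD4Chain22.congr_simp
  have := (fun _ => trivial : _ → True) @Cfsg.Lie.chevD4CartanSR.eq_1
  have := (fun _ => trivial : _ → True) @Cfsg.Lie.chevD4CartanSR.eq_def
  have := (fun _ => trivial : _ → True) @Cfsg.Lie.chevD4CartanSR.congr_simp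
  have := (fun _ => trivial : _ → True) @Cfsg.Lie.chevD4Chain3.eq_1
  have := (fun _ => trivial : _ → True) @Cfsg.Lie.chevD4Chain3.eq_def
  have := (fun _ => trivial : _ → True) @Cfsg.Lie.chevD4Chain3.congr_simp
  have := (fun _ => trivial : _ → True) @Cfsg.Lie.chevD4Chain14.eq_1
  have := (fun _ => trivial : _ → True) @Cfsg.Lie.chevD4Chain14.eq_def
  have := (fun _ => trivial : _ → True) @Cfsg.Lie.chevD4Chain14.congr_simp
  have := (fun _ => trivial : _ → True) @Cfsg.Lie.chevD4Chain2.eq_1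
  have := (fun _ => trivial : _ → True) @Cfsg.Lie.chevD4Chain2.eq_def
  have := (fun _ => trivial : _ → True) @Cfsg.Lie.chevD4Chain2.congr_simp
  have := (fun _ => trivial : _ → True) @Cfsg.Lie.chevD4Chain5.eq_1
  have := (fun _ => trivial : _ → True) @Cfsg.Lie.chevD4Chain5.eq_def
  have := (fun _ => trivial : _ → True) @Cfsg.Lie.chevD4Chain5.congr_simp
  have := (fun _ => trivial : _ → True) @Cfsg.Lie.chevD4Chain21.eq_1
  have := (fun _ => trivial : _ → True) @Cfsg.Lie.chevD4Chain21.eq_def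
  have := (fun _ => trivial : _ → True) @Cfsg.Lie.chevD4Chain21.congr_simp
  have := (fun _ => trivial : _ → True) @Cfsg.Lie.chevD4Chain20.eq_1
  have := (fun _ => trivial : _ → True) @Cfsg.Lie.chevD4Chain20.eq_def
  have := (fun _ => trivial : _ → True) @Cfsg.Lie.chevD4Chain20.congr_simp
  have := (fun _ => trivial : _ → True) @Cfsg.Lie.chevD4Chain23.eq_1
  have := (fun _ => trivial : _ → True) @Cfsg.Lie.chevD4Chain23.eq_def
  have := (fun _ => trivial : _ → True) @Cfsg.Lie.chevD4Chain23.congr_simp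
  have := (fun _ => trivial : _ → True) @Cfsg.Lie.chevD4Chain9.eq_1
  have := (fun _ => trivial : _ → True) @Cfsg.Lie.chevD4Chain9.eq_def
  have := (fun _ => trivial : _ → True) @Cfsg.Lie.chevD4Chain9.congr_simp
  have := (fun _ => trivial : _ → True) @Cfsg.Lie.chevD4Chain.eq_1
  have := (fun _ => trivial : _ → True) @Cfsg.Lie.chevD4Chain.eq_def
  have := (fun _ => trivial : _ → True) @Cfsg.Lie.chevD4Chain.congr_simp
  have := (fun _ => trivial : _ → True) @Cfsg.Lie.chevD4Chain13.eq_1
  have := (fun _ => trivial : _ → True) @Cfsg.Lie.chevD4Chain13.eq_def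
  have := (fun _ => trivial : _ → True) @Cfsg.Lie.chevD4Chain13.congr_simp
  have := (fun _ => trivial : _ → True) @Cfsg.Lie.chevD4Coroot.eq_1
  have := (fun _ => trivial : _ → True) @Cfsg.Lie.chevD4Coroot.eq_def
  have := (fun _ => trivial : _ → True) @Cfsg.Lie.chevD4Coroot.congr_simp
  have := (fun _ => trivial : _ → True) @Cfsg.Lie.chevD4Chain0.eq_1
  have := (fun _ => trivial : _ → True) @Cfsg.Lie.chevD4Chain0.eq_def
  have := (fun _ => trivial : _ → True) @Cfsg.Lie.chevD4Chain0.congr_simp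
  have := (fun _ => trivial : _ → True) @Cfsg.Lie.chevD4Chain17.eq_1
  have := (fun _ => trivial : _ → True) @Cfsg.Lie.chevD4Chain17.eq_def
  have := (fun _ => trivial : _ → True) @Cfsg.Lie.chevD4Chain17.congr_simp
  have := (fun _ => trivial : _ → True) @Cfsg.Lie.chevD4Chain18.eq_1
  have := (fun _ => trivial : _ → True) @Cfsg.Lie.chevD4Chain18.eq_def
  have := (fun _ => trivial : _ → True) @Cfsg.Lie.chevD4Chain18.congr_simp
  have := (fun _ => trivial : _ → True) @Cfsg.Lie.chevD4Chain12.eq_1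
  have := (fun _ => trivial : _ → True) @Cfsg.Lie.chevD4Chain12.eq_def
  have := (fun _ => trivial : _ → True) @Cfsg.Lie.chevD4Chain12.congr_simp
  have := (fun _ => trivial : _ → True) @Cfsg.Lie.chevD4NegIdx.eq_1
  have := (fun _ => trivial : _ → True) @Cfsg.Lie.chevD4NegIdx.eq_def
  have := (fun _ => trivial : _ → True) @Cfsg.Lie.chevD4NegIdx.congr_simp
  have := (fun _ => trivial : _ → True) @Cfsg.Lie.chevD4SimpleIdx.eq_1
  have := (fun _ => trivial : _ → True) @Cfsg.Lie.chevD4SimpleIdx.eq_def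
  have := (fun _ => trivial : _ → True) @Cfsg.Lie.chevD4SimpleIdx.congr_simp
  have := (fun _ => trivial : _ → True) @Cfsg.Lie.chevD4Chain8.eq_1
  have := (fun _ => trivial : _ → True) @Cfsg.Lie.chevD4Chain8.eq_def
  have := (fun _ => trivial : _ → True) @Cfsg.Lie.chevD4Chain8.congr_simp
  have := (fun _ => trivial : _ → True) @Cfsg.Lie.chevD4Chain19.eq_1
  have := (fun _ => trivial : _ → True) @Cfsg.Lie.chevD4Chain19.eq_def
  have := (fun _ => trivial : _ → True) @Cfsg.Lie.chevD4Chain19.congr_simp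
  have := (fun _ => trivial : _ → True) @Cfsg.Lie.chevD4Chain7.eq_1
  have := (fun _ => trivial : _ → True) @Cfsg.Lie.chevD4Chain7.eq_def
  have := (fun _ => trivial : _ → True) @Cfsg.Lie.chevD4Chain7.congr_simp
  have := (fun _ => trivial : _ → True) @Cfsg.Lie.chevD4.eq_1
  have := (fun _ => trivial : _ → True) @Cfsg.Lie.chevD4.eq_def
  have := (fun _ => trivial : _ → True) @Cfsg.Lie.chevD4.congr_simp
  have := (fun _ => trivial : _ → True) @Cfsg.Lie.chevD4Chain16.eq_1
  have := (fun _ => trivial : _ → True) @Cfsg.Lie.chevD4Chain16.eq_def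
  have := (fun _ => trivial : _ → True) @Cfsg.Lie.chevD4Chain16.congr_simp
  have := (fun _ => trivial : _ → True) @Cfsg.Lie.chevD4Chain1.eq_1
  have := (fun _ => trivial : _ → True) @Cfsg.Lie.chevD4Chain1.eq_def
  have := (fun _ => trivial : _ → True) @Cfsg.Lie.chevD4Chain1.congr_simp
  have := (fun _ => trivial : _ → True) @Cfsg.Lie.chevD4Chain6.eq_1
  have := (fun _ => trivial : _ → True) @Cfsg.Lie.chevD4Chain6.eq_def
  have := (fun _ => trivial : _ → True) @Cfsg.Lie.chevD4Chain6.congr_simp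
  have := (fun _ => trivial : _ → True) @Cfsg.Lie.chevD4Chain11.eq_1
  have := (fun _ => trivial : _ → True) @Cfsg.Lie.chevD4Chain11.eq_def
  have := (fun _ => trivial : _ → True) @Cfsg.Lie.chevD4Chain11.congr_simp
  have := (fun _ => trivial : _ → True) @Cfsg.Lie.chevD4Chain15.eq_1
  have := (fun _ => trivial : _ → True) @Cfsg.Lie.chevD4Chain15.eq_def
  have := (fun _ => trivial : _ → True) @Cfsg.Lie.chevD4Chain15.congr_simp
  trivial
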