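import Cfsg.Prelude.Def_LieTwisted
import Cfsg.Agent.Eq.Def_ChevWords
import Cfsg.Agent.Eq.Def_ChevG2
import Cfsg.Agent.Eq.Def_ChevF4
import Cfsg.Agent.Eq.Def_ChevD4
import Cfsg.Agent.Eq.Def_ChevE6

/-! Pre-generates on-demand lemmas for the definitions, so that importers share one copy. -/

theorem CfsgLib.Eq.Def_LieTwisted.touch : True := by
  have := (fun _ => trivial : _ → True) @Cfsg.Lie.f4m1.eq_1
  have := (fun _ => trivial : _ → True) @Cfsg.Lie.f4m1.eq_def
  have := (fun _ => trivial : _ → True) @Cfsg.Lie.f4m1.congr_simp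
  have := (fun _ => trivial : _ → True) @Cfsg.Lie.f4b.eq_1
  have := (fun _ => trivial : _ → True) @Cfsg.Lie.f4b.eq_def
  have := (fun _ => trivial : _ → True) @Cfsg.Lie.f4b.congr_simp
  have := (fun _ => trivial : _ → True) @Cfsg.Lie.e6m3.eq_1
  have := (fun _ => trivial : _ → True) @Cfsg.Lie.e6m3.eq_def
  have := (fun _ => trivial : _ → True) @Cfsg.Lie.e6m3.congr_simp
  have := (fun _ => trivial : _ → True) @Cfsg.Lie.IsoRee.eq_1.{0}
  have := (fun _ => trivial : _ → True) @Cfsg.Lie.IsoRee.eq_def.{0}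
  have := (fun _ => trivial : _ → True) @Cfsg.Lie.IsoRee.congr_simp.{0}
  have := (fun _ => trivial : _ → True) @Cfsg.Lie.f4Words.eq_1.{0}
  have := (fun _ => trivial : _ → True) @Cfsg.Lie.f4Words.eq_def.{0}
  have := (fun _ => trivial : _ → True) @Cfsg.Lie.f4Words.congr_simp.{0}
  have := (fun _ => trivial : _ → True) @Cfsg.Lie.g2maab.eq_1
  have := (fun _ => trivial : _ → True) @Cfsg.Lie.g2maab.eq_def
  have := (fun _ => trivial : _ → True) @Cfsg.Lie.g2maab.congr_simp
  have := (fun _ => trivial : _ → True) @Cfsg.Lie.reeWordU.eq_1.{0}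
  have := (fun _ => trivial : _ → True) @Cfsg.Lie.reeWordU.eq_def.{0}
  have := (fun _ => trivial : _ → True) @Cfsg.Lie.reeWordU.congr_simp.{0}
  have := (fun _ => trivial : _ → True) @Cfsg.Lie.f4p1.eq_1
  have := (fun _ => trivial : _ → True) @Cfsg.Lie.f4p1.eq_def
  have := (fun _ => trivial : _ → True) @Cfsg.Lie.f4p1.congr_simp
  have := (fun _ => trivial : _ → True) @Cfsg.Lie.g2maaab.eq_1
  have := (fun _ => trivial : _ → True) @Cfsg.Lie.g2maaab.eq_def
  have := (fun _ => trivial : _ → True) @Cfsg.Lie.g2maaab.congr_simp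
  have := (fun _ => trivial : _ → True) @Cfsg.Lie.e6m1.eq_1
  have := (fun _ => trivial : _ → True) @Cfsg.Lie.e6m1.eq_def
  have := (fun _ => trivial : _ → True) @Cfsg.Lie.e6m1.congr_simp
  have := (fun _ => trivial : _ → True) @Cfsg.Lie.e6m4.eq_1
  have := (fun _ => trivial : _ → True) @Cfsg.Lie.e6m4.eq_def
  have := (fun _ => trivial : _ → True) @Cfsg.Lie.e6m4.congr_simp
  have := (fun _ => trivial : _ → True) @Cfsg.Lie.f4aab.eq_1
  have := (fun _ => trivial : _ → True) @Cfsg.Lie.f4aab.eq_def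
  have := (fun _ => trivial : _ → True) @Cfsg.Lie.f4aab.congr_simp
  have := (fun _ => trivial : _ → True) @Cfsg.Lie.f4ab.eq_1
  have := (fun _ => trivial : _ → True) @Cfsg.Lie.f4ab.eq_def
  have := (fun _ => trivial : _ → True) @Cfsg.Lie.f4ab.congr_simp
  have := (fun _ => trivial : _ → True) @Cfsg.Lie.Iso2F4.eq_1.{0}
  have := (fun _ => trivial : _ → True) @Cfsg.Lie.Iso2F4.eq_def.{0}
  have := (fun _ => trivial : _ → True) @Cfsg.Lie.Iso2F4.congr_simp.{0}
  have := (fun _ => trivial : _ → True) @Cfsg.Lie.f4mb.eq_1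
  have := (fun _ => trivial : _ → True) @Cfsg.Lie.f4mb.eq_def
  have := (fun _ => trivial : _ → True) @Cfsg.Lie.f4mb.congr_simp
  have := (fun _ => trivial : _ → True) @Cfsg.Lie.b2ClassWord.eq_1.{0}
  have := (fun _ => trivial : _ → True) @Cfsg.Lie.b2ClassWord.eq_def.{0}
  have := (fun _ => trivial : _ → True) @Cfsg.Lie.b2ClassWord.congr_simp.{0}
  have := (fun _ => trivial : _ → True) @Cfsg.Lie.twistedF4.eq_1.{0}
  have := (fun _ => trivial : _ → True) @Cfsg.Lie.twistedF4.eq_def.{0}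
  have := (fun _ => trivial : _ → True) @Cfsg.Lie.twistedF4.congr_simp.{0}
  have := (fun _ => trivial : _ → True) @Cfsg.Lie.f4ma.eq_1
  have := (fun _ => trivial : _ → True) @Cfsg.Lie.f4ma.eq_def
  have := (fun _ => trivial : _ → True) @Cfsg.Lie.f4ma.congr_simp
  have := (fun _ => trivial : _ → True) @Cfsg.Lie.g2aaab.eq_1
  have := (fun _ => trivial : _ → True) @Cfsg.Lie.g2aaab.eq_def
  have := (fun _ => trivial : _ → True) @Cfsg.Lie.g2aaab.congr_simp
  have := (fun _ => trivial : _ → True) @Cfsg.Lie.Iso2E6.eq_1.{0}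
  have := (fun _ => trivial : _ → True) @Cfsg.Lie.Iso2E6.eq_def.{0}
  have := (fun _ => trivial : _ → True) @Cfsg.Lie.Iso2E6.congr_simp.{0}
  have := (fun _ => trivial : _ → True) @Cfsg.Lie.f4p4.eq_1
  have := (fun _ => trivial : _ → True) @Cfsg.Lie.f4p4.eq_def
  have := (fun _ => trivial : _ → True) @Cfsg.Lie.f4p4.congr_simp
  have := (fun _ => trivial : _ → True) @Cfsg.Lie.g2ma.eq_1
  have := (fun _ => trivial : _ → True) @Cfsg.Lie.g2ma.eq_def
  have := (fun _ => trivial : _ → True) @Cfsg.Lie.g2ma.congr_simp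
  have := (fun _ => trivial : _ → True) @Cfsg.Lie.Iso3D4.eq_1.{0}
  have := (fun _ => trivial : _ → True) @Cfsg.Lie.Iso3D4.eq_def.{0}
  have := (fun _ => trivial : _ → True) @Cfsg.Lie.Iso3D4.congr_simp.{0}
  have := (fun _ => trivial : _ → True) @Cfsg.Lie.g2Words.eq_1.{0}
  have := (fun _ => trivial : _ → True) @Cfsg.Lie.g2Words.eq_def.{0}
  have := (fun _ => trivial : _ → True) @Cfsg.Lie.g2Words.congr_simp.{0}
  have := (fun _ => trivial : _ → True) @Cfsg.Lie.g2mab.eq_1
  have := (fun _ => trivial : _ → True) @Cfsg.Lie.g2mab.eq_def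
  have := (fun _ => trivial : _ → True) @Cfsg.Lie.g2mab.congr_simp
  have := (fun _ => trivial : _ → True) @Cfsg.Lie.d4p2.eq_1
  have := (fun _ => trivial : _ → True) @Cfsg.Lie.d4p2.eq_def
  have := (fun _ => trivial : _ → True) @Cfsg.Lie.d4p2.congr_simp
  have := (fun _ => trivial : _ → True) @Cfsg.Lie.e6m5.eq_1
  have := (fun _ => trivial : _ → True) @Cfsg.Lie.e6m5.eq_def
  have := (fun _ => trivial : _ → True) @Cfsg.Lie.e6m5.congr_simp
  have := (fun _ => trivial : _ → True) @Cfsg.Lie.d4m4.eq_1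
  have := (fun _ => trivial : _ → True) @Cfsg.Lie.d4m4.eq_def
  have := (fun _ => trivial : _ → True) @Cfsg.Lie.d4m4.congr_simp
  have := (fun _ => trivial : _ → True) @Cfsg.Lie.f4maab.eq_1
  have := (fun _ => trivial : _ → True) @Cfsg.Lie.f4maab.eq_def
  have := (fun _ => trivial : _ → True) @Cfsg.Lie.f4maab.congr_simp
  have := (fun _ => trivial : _ → True) @Cfsg.Lie.e6p3.eq_1
  have := (fun _ => trivial : _ → True) @Cfsg.Lie.e6p3.eq_def
  have := (fun _ => trivial : _ → True) @Cfsg.Lie.e6p3.congr_simp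
  have := (fun _ => trivial : _ → True) @Cfsg.Lie.e6p1.eq_1
  have := (fun _ => trivial : _ → True) @Cfsg.Lie.e6p1.eq_def
  have := (fun _ => trivial : _ → True) @Cfsg.Lie.e6p1.congr_simp
  have := (fun _ => trivial : _ → True) @Cfsg.Lie.d4m2.eq_1
  have := (fun _ => trivial : _ → True) @Cfsg.Lie.d4m2.eq_def
  have := (fun _ => trivial : _ → True) @Cfsg.Lie.d4m2.congr_simp
  have := (fun _ => trivial : _ → True) @Cfsg.Lie.f4PairWord.eq_1.{0}
  have := (fun _ => trivial : _ → True) @Cfsg.Lie.f4PairWord.eq_def.{0}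
  have := (fun _ => trivial : _ → True) @Cfsg.Lie.f4PairWord.congr_simp.{0}
  have := (fun _ => trivial : _ → True) @Cfsg.Lie.g2a.eq_1
  have := (fun _ => trivial : _ → True) @Cfsg.Lie.g2a.eq_def
  have := (fun _ => trivial : _ → True) @Cfsg.Lie.g2a.congr_simp
  have := (fun _ => trivial : _ → True) @Cfsg.Lie.d4m3.eq_1
  have := (fun _ => trivial : _ → True) @Cfsg.Lie.d4m3.eq_def
  have := (fun _ => trivial : _ → True) @Cfsg.Lie.d4m3.congr_simp
  have := (fun _ => trivial : _ → True) @Cfsg.Lie.e6p2.eq_1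
  have := (fun _ => trivial : _ → True) @Cfsg.Lie.e6p2.eq_def
  have := (fun _ => trivial : _ → True) @Cfsg.Lie.e6p2.congr_simp
  have := (fun _ => trivial : _ → True) @Cfsg.Lie.e6p6.eq_1
  have := (fun _ => trivial : _ → True) @Cfsg.Lie.e6p6.eq_def
  have := (fun _ => trivial : _ → True) @Cfsg.Lie.e6p6.congr_simp
  have := (fun _ => trivial : _ → True) @Cfsg.Lie.g2b.eq_1
  have := (fun _ => trivial : _ → True) @Cfsg.Lie.g2b.eq_def
  have := (fun _ => trivial : _ → True) @Cfsg.Lie.g2b.congr_simp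
  have := (fun _ => trivial : _ → True) @Cfsg.Lie.TitsGroup.eq_1
  have := (fun _ => trivial : _ → True) @Cfsg.Lie.TitsGroup.eq_def
  have := (fun _ => trivial : _ → True) @Cfsg.Lie.TitsGroup.congr_simp
  have := (fun _ => trivial : _ → True) @Cfsg.Lie.d4p1.eq_1
  have := (fun _ => trivial : _ → True) @Cfsg.Lie.d4p1.eq_def
  have := (fun _ => trivial : _ → True) @Cfsg.Lie.d4p1.congr_simp
  have := (fun _ => trivial : _ → True) @Cfsg.Lie.d4p3.eq_1
  have := (fun _ => trivial : _ → True) @Cfsg.Lie.d4p3.eq_def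
  have := (fun _ => trivial : _ → True) @Cfsg.Lie.d4p3.congr_simp
  have := (fun _ => trivial : _ → True) @Cfsg.Lie.twistedD4.eq_1.{0}
  have := (fun _ => trivial : _ → True) @Cfsg.Lie.twistedD4.eq_def.{0}
  have := (fun _ => trivial : _ → True) @Cfsg.Lie.twistedD4.congr_simp.{0}
  have := (fun _ => trivial : _ → True) @Cfsg.Lie.f4a.eq_1
  have := (fun _ => trivial : _ → True) @Cfsg.Lie.f4a.eq_def
  have := (fun _ => trivial : _ → True) @Cfsg.Lie.f4a.congr_simp
  have := (fun _ => trivial : _ → True) @Cfsg.Lie.g2mb.eq_1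
  have := (fun _ => trivial : _ → True) @Cfsg.Lie.g2mb.eq_def
  have := (fun _ => trivial : _ → True) @Cfsg.Lie.g2mb.congr_simp
  have := (fun _ => trivial : _ → True) @Cfsg.Lie.e6m6.eq_1
  have := (fun _ => trivial : _ → True) @Cfsg.Lie.e6m6.eq_def
  have := (fun _ => trivial : _ → True) @Cfsg.Lie.e6m6.congr_simp
  have := (fun _ => trivial : _ → True) @Cfsg.Lie.e6Words.eq_1.{0}
  have := (fun _ => trivial : _ → True) @Cfsg.Lie.e6Words.eq_def.{0}
  have := (fun _ => trivial : _ → True) @Cfsg.Lie.e6Words.congr_simp.{0}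
  have := (fun _ => trivial : _ → True) @Cfsg.Lie.e6m2.eq_1
  have := (fun _ => trivial : _ → True) @Cfsg.Lie.e6m2.eq_def
  have := (fun _ => trivial : _ → True) @Cfsg.Lie.e6m2.congr_simp
  have := (fun _ => trivial : _ → True) @Cfsg.Lie.twistedE6.eq_1.{0}
  have := (fun _ => trivial : _ → True) @Cfsg.Lie.twistedE6.eq_def.{0}
  have := (fun _ => trivial : _ → True) @Cfsg.Lie.twistedE6.congr_simp.{0}
  have := (fun _ => trivial : _ → True) @Cfsg.Lie.d4m1.eq_1
  have := (fun _ => trivial : _ → True) @Cfsg.Lie.d4m1.eq_def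
  have := (fun _ => trivial : _ → True) @Cfsg.Lie.d4m1.congr_simp
  have := (fun _ => trivial : _ → True) @Cfsg.Lie.IsoTits.eq_1.{0}
  have := (fun _ => trivial : _ → True) @Cfsg.Lie.IsoTits.eq_def.{0}
  have := (fun _ => trivial : _ → True) @Cfsg.Lie.IsoTits.congr_simp.{0}
  have := (fun _ => trivial : _ → True) @Cfsg.Lie.g2aab.eq_1
  have := (fun _ => trivial : _ → True) @Cfsg.Lie.g2aab.eq_def
  have := (fun _ => trivial : _ → True) @Cfsg.Lie.g2aab.congr_simp
  have := (fun _ => trivial : _ → True) @Cfsg.Lie.twistedG2.eq_1.{0}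
  have := (fun _ => trivial : _ → True) @Cfsg.Lie.twistedG2.eq_def.{0}
  have := (fun _ => trivial : _ → True) @Cfsg.Lie.twistedG2.congr_simp.{0}
  have := (fun _ => trivial : _ → True) @Cfsg.Lie.f4mab.eq_1
  have := (fun _ => trivial : _ → True) @Cfsg.Lie.f4mab.eq_def
  have := (fun _ => trivial : _ → True) @Cfsg.Lie.f4mab.congr_simp
  have := (fun _ => trivial : _ → True) @Cfsg.Lie.g2aaabb.eq_1
  have := (fun _ => trivial : _ → True) @Cfsg.Lie.g2aaabb.eq_def
  have := (fun _ => trivial : _ → True) @Cfsg.Lie.g2aaabb.congr_simp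
  have := (fun _ => trivial : _ → True) @Cfsg.Lie.e6p5.eq_1
  have := (fun _ => trivial : _ → True) @Cfsg.Lie.e6p5.eq_def
  have := (fun _ => trivial : _ → True) @Cfsg.Lie.e6p5.congr_simp
  have := (fun _ => trivial : _ → True) @Cfsg.Lie.d4Words.eq_1.{0}
  have := (fun _ => trivial : _ → True) @Cfsg.Lie.d4Words.eq_def.{0}
  have := (fun _ => trivial : _ → True) @Cfsg.Lie.d4Words.congr_simp.{0}
  have := (fun _ => trivial : _ → True) @Cfsg.Lie.reeWordV.eq_1.{0}
  have := (fun _ => trivial : _ → True) @Cfsg.Lie.reeWordV.eq_def.{0}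
  have := (fun _ => trivial : _ → True) @Cfsg.Lie.reeWordV.congr_simp.{0}
  have := (fun _ => trivial : _ → True) @Cfsg.Lie.g2ab.eq_1
  have := (fun _ => trivial : _ → True) @Cfsg.Lie.g2ab.eq_def
  have := (fun _ => trivial : _ → True) @Cfsg.Lie.g2ab.congr_simp
  have := (fun _ => trivial : _ → True) @Cfsg.Lie.e6p4.eq_1
  have := (fun _ => trivial : _ → True) @Cfsg.Lie.e6p4.eq_def
  have := (fun _ => trivial : _ → True) @Cfsg.Lie.e6p4.congr_simp
  have := (fun _ => trivial : _ → True) @Cfsg.Lie.f4m4.eq_1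
  have := (fun _ => trivial : _ → True) @Cfsg.Lie.f4m4.eq_def
  have := (fun _ => trivial : _ → True) @Cfsg.Lie.f4m4.congr_simp
  have := (fun _ => trivial : _ → True) @Cfsg.Lie.d4p4.eq_1
  have := (fun _ => trivial : _ → True) @Cfsg.Lie.d4p4.eq_def
  have := (fun _ => trivial : _ → True) @Cfsg.Lie.d4p4.congr_simp
  have := (fun _ => trivial : _ → True) @Cfsg.Lie.g2maaabb.eq_1
  have := (fun _ => trivial : _ → True) @Cfsg.Lie.g2maaabb.eq_def
  have := (fun _ => trivial : _ → True) @Cfsg.Lie.g2maaabb.congr_simp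
  trivial
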