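import Cfsg.Prelude.Def_Spor_B
import Cfsg.Agent.Eq.Def_SporCoxeter

/-! Pre-generates on-demand lemmas for the definitions, so that importers share one copy. -/

theorem CfsgLib.Eq.Def_Spor_B.touch : True := by
  have := (fun _ => trivial : _ → True) @Cfsg.Spor.BabyMonster.Gen.ctorElim.eq_1.{0}
  have := (fun _ => trivial : _ → True) @Cfsg.Spor.BabyMonster.Gen.ctorElim.eq_def.{0}
  have := (fun _ => trivial : _ → True) @Cfsg.Spor.BabyMonster.Gen.ctorElim.congr_simp.{0}
  have := (fun _ => trivial : _ → True) @Cfsg.Spor.IsoB.eq_1.{0}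
  have := (fun _ => trivial : _ → True) @Cfsg.Spor.IsoB.eq_def.{0}
  have := (fun _ => trivial : _ → True) @Cfsg.Spor.IsoB.congr_simp.{0}
  have := (fun _ => trivial : _ → True) @Cfsg.Spor.BabyMonster.Gen.t10.elim.eq_1.{0}
  have := (fun _ => trivial : _ → True) @Cfsg.Spor.BabyMonster.Gen.t10.elim.eq_def.{0}
  have := (fun _ => trivial : _ → True) @Cfsg.Spor.BabyMonster.Gen.t10.elim.congr_simp.{0}
  have := (fun _ => trivial : _ → True) @Cfsg.Spor.BabyMonster.edges.eq_1
  have := (fun _ => trivial : _ → True) @Cfsg.Spor.BabyMonster.edges.eq_def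
  have := (fun _ => trivial : _ → True) @Cfsg.Spor.BabyMonster.edges.congr_simp
  have := (fun _ => trivial : _ → True) @Cfsg.Spor.BabyMonster.extra.eq_1
  have := (fun _ => trivial : _ → True) @Cfsg.Spor.BabyMonster.extra.eq_def
  have := (fun _ => trivial : _ → True) @Cfsg.Spor.BabyMonster.extra.congr_simp
  have := (fun _ => trivial : _ → True) @Cfsg.Spor.BabyMonster.t11.eq_1
  have := (fun _ => trivial : _ → True) @Cfsg.Spor.BabyMonster.t11.eq_def
  have := (fun _ => trivial : _ → True) @Cfsg.Spor.BabyMonster.t11.congr_simp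
  have := (fun _ => trivial : _ → True) @Cfsg.Spor.BabyMonster.Gen.t11.elim.eq_1.{0}
  have := (fun _ => trivial : _ → True) @Cfsg.Spor.BabyMonster.Gen.t11.elim.eq_def.{0}
  have := (fun _ => trivial : _ → True) @Cfsg.Spor.BabyMonster.Gen.t11.elim.congr_simp.{0}
  have := (fun _ => trivial : _ → True) @Cfsg.Spor.BabyMonster.t3.eq_1
  have := (fun _ => trivial : _ → True) @Cfsg.Spor.BabyMonster.t3.eq_def
  have := (fun _ => trivial : _ → True) @Cfsg.Spor.BabyMonster.t3.congr_simp
  have := (fun _ => trivial : _ → True) @Cfsg.Spor.BabyMonster.t2.eq_1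
  have := (fun _ => trivial : _ → True) @Cfsg.Spor.BabyMonster.t2.eq_def
  have := (fun _ => trivial : _ → True) @Cfsg.Spor.BabyMonster.t2.congr_simp
  have := (fun _ => trivial : _ → True) @Cfsg.Spor.BabyMonster.t6.eq_1
  have := (fun _ => trivial : _ → True) @Cfsg.Spor.BabyMonster.t6.eq_def
  have := (fun _ => trivial : _ → True) @Cfsg.Spor.BabyMonster.t6.congr_simp
  have := (fun _ => trivial : _ → True) @Cfsg.Spor.BabyMonster.Gen.t4.elim.eq_1.{0}
  have := (fun _ => trivial : _ → True) @Cfsg.Spor.BabyMonster.Gen.t4.elim.eq_def.{0}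
  have := (fun _ => trivial : _ → True) @Cfsg.Spor.BabyMonster.Gen.t4.elim.congr_simp.{0}
  have := (fun _ => trivial : _ → True) @Cfsg.Spor.BabyMonster.Gen.recOn.eq_1.{0}
  have := (fun _ => trivial : _ → True) @Cfsg.Spor.BabyMonster.Gen.recOn.eq_def.{0}
  have := (fun _ => trivial : _ → True) @Cfsg.Spor.BabyMonster.Gen.recOn.congr_simp.{0}
  have := (fun _ => trivial : _ → True) @Cfsg.Spor.BabyMonster.Gen.t2.elim.eq_1.{0}
  have := (fun _ => trivial : _ → True) @Cfsg.Spor.BabyMonster.Gen.t2.elim.eq_def.{0}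
  have := (fun _ => trivial : _ → True) @Cfsg.Spor.BabyMonster.Gen.t2.elim.congr_simp.{0}
  have := (fun _ => trivial : _ → True) @Cfsg.Spor.BabyMonster.Gen.t6.elim.eq_1.{0}
  have := (fun _ => trivial : _ → True) @Cfsg.Spor.BabyMonster.Gen.t6.elim.eq_def.{0}
  have := (fun _ => trivial : _ → True) @Cfsg.Spor.BabyMonster.Gen.t6.elim.congr_simp.{0}
  have := (fun _ => trivial : _ → True) @Cfsg.Spor.BabyMonster.t10.eq_1
  have := (fun _ => trivial : _ → True) @Cfsg.Spor.BabyMonster.t10.eq_def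
  have := (fun _ => trivial : _ → True) @Cfsg.Spor.BabyMonster.t10.congr_simp
  have := (fun _ => trivial : _ → True) @Cfsg.Spor.BabyMonster.Gen.t3.elim.eq_1.{0}
  have := (fun _ => trivial : _ → True) @Cfsg.Spor.BabyMonster.Gen.t3.elim.eq_def.{0}
  have := (fun _ => trivial : _ → True) @Cfsg.Spor.BabyMonster.Gen.t3.elim.congr_simp.{0}
  have := (fun _ => trivial : _ → True) @Cfsg.Spor.BabyMonster.t9.eq_1
  have := (fun _ => trivial : _ → True) @Cfsg.Spor.BabyMonster.t9.eq_def
  have := (fun _ => trivial : _ → True) @Cfsg.Spor.BabyMonster.t9.congr_simp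
  have := (fun _ => trivial : _ → True) @Cfsg.Spor.BabyMonster.Gen.t1.elim.eq_1.{0}
  have := (fun _ => trivial : _ → True) @Cfsg.Spor.BabyMonster.Gen.t1.elim.eq_def.{0}
  have := (fun _ => trivial : _ → True) @Cfsg.Spor.BabyMonster.Gen.t1.elim.congr_simp.{0}
  have := (fun _ => trivial : _ → True) @Cfsg.Spor.BabyMonster.t4.eq_1
  have := (fun _ => trivial : _ → True) @Cfsg.Spor.BabyMonster.t4.eq_def
  have := (fun _ => trivial : _ → True) @Cfsg.Spor.BabyMonster.t4.congr_simp
  have := (fun _ => trivial : _ → True) @Cfsg.Spor.BabyMonster.t7.eq_1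
  have := (fun _ => trivial : _ → True) @Cfsg.Spor.BabyMonster.t7.eq_def
  have := (fun _ => trivial : _ → True) @Cfsg.Spor.BabyMonster.t7.congr_simp
  have := (fun _ => trivial : _ → True) @Cfsg.Spor.BabyMonster.eq_1
  have := (fun _ => trivial : _ → True) @Cfsg.Spor.BabyMonster.eq_def
  have := (fun _ => trivial : _ → True) @Cfsg.Spor.BabyMonster.congr_simp
  have := (fun _ => trivial : _ → True) @Cfsg.Spor.BabyMonster.instDecidableEqGen.eq_1
  have := (fun _ => trivial : _ → True) @Cfsg.Spor.BabyMonster.instDecidableEqGen.eq_def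
  have := (fun _ => trivial : _ → True) @Cfsg.Spor.BabyMonster.instDecidableEqGen.congr_simp
  have := (fun _ => trivial : _ → True) @Cfsg.Spor.BabyMonster.Gen.t8.elim.eq_1.{0}
  have := (fun _ => trivial : _ → True) @Cfsg.Spor.BabyMonster.Gen.t8.elim.eq_def.{0}
  have := (fun _ => trivial : _ → True) @Cfsg.Spor.BabyMonster.Gen.t8.elim.congr_simp.{0}
  have := (fun _ => trivial : _ → True) @Cfsg.Spor.BabyMonster.t8.eq_1
  have := (fun _ => trivial : _ → True) @Cfsg.Spor.BabyMonster.t8.eq_def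
  have := (fun _ => trivial : _ → True) @Cfsg.Spor.BabyMonster.t8.congr_simp
  have := (fun _ => trivial : _ → True) @Cfsg.Spor.BabyMonster.Gen.toCtorIdx.eq_1
  have := (fun _ => trivial : _ → True) @Cfsg.Spor.BabyMonster.Gen.toCtorIdx.eq_def
  have := (fun _ => trivial : _ → True) @Cfsg.Spor.BabyMonster.Gen.toCtorIdx.congr_simp
  have := (fun _ => trivial : _ → True) @Cfsg.Spor.BabyMonster.Gen.ofNat.eq_1
  have := (fun _ => trivial : _ → True) @Cfsg.Spor.BabyMonster.Gen.ofNat.eq_def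
  have := (fun _ => trivial : _ → True) @Cfsg.Spor.BabyMonster.Gen.ofNat.congr_simp
  have := (fun _ => trivial : _ → True) @Cfsg.Spor.BabyMonster.Gen.casesOn.eq_1.{0}
  have := (fun _ => trivial : _ → True) @Cfsg.Spor.BabyMonster.Gen.casesOn.eq_def.{0}
  have := (fun _ => trivial : _ → True) @Cfsg.Spor.BabyMonster.Gen.casesOn.congr_simp.{0}
  have := (fun _ => trivial : _ → True) @Cfsg.Spor.BabyMonster.Gen.t9.elim.eq_1.{0}
  have := (fun _ => trivial : _ → True) @Cfsg.Spor.BabyMonster.Gen.t9.elim.eq_def.{0}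
  have := (fun _ => trivial : _ → True) @Cfsg.Spor.BabyMonster.Gen.t9.elim.congr_simp.{0}
  have := (fun _ => trivial : _ → True) @Cfsg.Spor.BabyMonster.Gen.ctorElimType.eq_1.{0}
  have := (fun _ => trivial : _ → True) @Cfsg.Spor.BabyMonster.Gen.ctorElimType.eq_def.{0}
  have := (fun _ => trivial : _ → True) @Cfsg.Spor.BabyMonster.Gen.ctorElimType.congr_simp.{0}
  have := (fun _ => trivial : _ → True) @Cfsg.Spor.BabyMonster.t1.eq_1
  have := (fun _ => trivial : _ → True) @Cfsg.Spor.BabyMonster.t1.eq_def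
  have := (fun _ => trivial : _ → True) @Cfsg.Spor.BabyMonster.t1.congr_simp
  have := (fun _ => trivial : _ → True) @Cfsg.Spor.BabyMonster.Gen.t5.elim.eq_1.{0}
  have := (fun _ => trivial : _ → True) @Cfsg.Spor.BabyMonster.Gen.t5.elim.eq_def.{0}
  have := (fun _ => trivial : _ → True) @Cfsg.Spor.BabyMonster.Gen.t5.elim.congr_simp.{0}
  have := (fun _ => trivial : _ → True) @Cfsg.Spor.BabyMonster.t5.eq_1
  have := (fun _ => trivial : _ → True) @Cfsg.Spor.BabyMonster.t5.eq_def
  have := (fun _ => trivial : _ → True) @Cfsg.Spor.BabyMonster.t5.congr_simp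
  have := (fun _ => trivial : _ → True) @Cfsg.Spor.BabyMonster.Gen.t7.elim.eq_1.{0}
  have := (fun _ => trivial : _ → True) @Cfsg.Spor.BabyMonster.Gen.t7.elim.eq_def.{0}
  have := (fun _ => trivial : _ → True) @Cfsg.Spor.BabyMonster.Gen.t7.elim.congr_simp.{0}
  trivial
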