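import Cfsg.Prelude.Def_Sporadic_a

/-! Pre-generates on-demand lemmas for the definitions, so that importers share one copy. -/

theorem CfsgLib.Eq.Def_Sporadic_a.touch : True := by
  have := (fun _ => trivial : _ → True) @Cfsg.blockGraph.eq_1.{0}
  have := (fun _ => trivial : _ → True) @Cfsg.blockGraph.eq_def.{0}
  have := (fun _ => trivial : _ → True) @Cfsg.blockGraph.congr_simp.{0}
  have := (fun _ => trivial : _ → True) @Cfsg.golayCode.eq_1
  have := (fun _ => trivial : _ → True) @Cfsg.golayCode.eq_def
  have := (fun _ => trivial : _ → True) @Cfsg.golayCode.congr_simp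
  have := (fun _ => trivial : _ → True) @Cfsg.cubeTwistFun.eq_1
  have := (fun _ => trivial : _ → True) @Cfsg.cubeTwistFun.eq_2
  have := (fun _ => trivial : _ → True) @Cfsg.cubeTwistFun.eq_def
  have := (fun _ => trivial : _ → True) @Cfsg.cubeTwistFun.congr_simp
  have := (fun _ => trivial : _ → True) @Cfsg.cubeTwistFun.fun_cases
  have := (fun _ => trivial : _ → True) @Cfsg.cubeTwistFun.fun_cases_unfolding
  have := (fun _ => trivial : _ → True) @Cfsg.projInv.eq_1
  have := (fun _ => trivial : _ → True) @Cfsg.projInv.eq_def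
  have := (fun _ => trivial : _ → True) @Cfsg.projInv.congr_simp
  have := (fun _ => trivial : _ → True) @Cfsg.M24.eq_1
  have := (fun _ => trivial : _ → True) @Cfsg.M24.eq_def
  have := (fun _ => trivial : _ → True) @Cfsg.M24.congr_simp
  have := (fun _ => trivial : _ → True) @Cfsg.SetSystemIso.eq_1.{0,0}
  have := (fun _ => trivial : _ → True) @Cfsg.SetSystemIso.eq_def.{0,0}
  have := (fun _ => trivial : _ → True) @Cfsg.SetSystemIso.congr_simp.{0,0}
  have := (fun _ => trivial : _ → True) @Cfsg.leechLattice.eq_1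
  have := (fun _ => trivial : _ → True) @Cfsg.leechLattice.eq_def
  have := (fun _ => trivial : _ → True) @Cfsg.leechLattice.congr_simp
  have := (fun _ => trivial : _ → True) @Cfsg.projInvFun.eq_1
  have := (fun _ => trivial : _ → True) @Cfsg.projInvFun.eq_2
  have := (fun _ => trivial : _ → True) @Cfsg.projInvFun.eq_def
  have := (fun _ => trivial : _ → True) @Cfsg.projInvFun.congr_simp
  have := (fun _ => trivial : _ → True) @Cfsg.projInvFun.fun_cases
  have := (fun _ => trivial : _ → True) @Cfsg.projInvFun.fun_cases_unfolding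
  have := (fun _ => trivial : _ → True) @Cfsg.leechSet.eq_1
  have := (fun _ => trivial : _ → True) @Cfsg.leechSet.eq_def
  have := (fun _ => trivial : _ → True) @Cfsg.leechSet.congr_simp
  have := (fun _ => trivial : _ → True) @Cfsg.dodecads.eq_1
  have := (fun _ => trivial : _ → True) @Cfsg.dodecads.eq_def
  have := (fun _ => trivial : _ → True) @Cfsg.dodecads.congr_simp
  have := (fun _ => trivial : _ → True) @Cfsg.support₂.eq_1.{0}
  have := (fun _ => trivial : _ → True) @Cfsg.support₂.eq_def.{0}
  have := (fun _ => trivial : _ → True) @Cfsg.support₂.congr_simp.{0}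
  have := (fun _ => trivial : _ → True) @Cfsg.supports.eq_1.{0}
  have := (fun _ => trivial : _ → True) @Cfsg.supports.eq_def.{0}
  have := (fun _ => trivial : _ → True) @Cfsg.supports.congr_simp.{0}
  have := (fun _ => trivial : _ → True) @Cfsg.sqNorm.eq_1.{0}
  have := (fun _ => trivial : _ → True) @Cfsg.sqNorm.eq_def.{0}
  have := (fun _ => trivial : _ → True) @Cfsg.sqNorm.congr_simp.{0}
  have := (fun _ => trivial : _ → True) @Cfsg.GolayPt.eq_1
  have := (fun _ => trivial : _ → True) @Cfsg.GolayPt.eq_def
  have := (fun _ => trivial : _ → True) @Cfsg.GolayPt.congr_simp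
  have := (fun _ => trivial : _ → True) @Cfsg.wordsOfWeight.eq_1.{0}
  have := (fun _ => trivial : _ → True) @Cfsg.wordsOfWeight.eq_def.{0}
  have := (fun _ => trivial : _ → True) @Cfsg.wordsOfWeight.congr_simp.{0}
  have := (fun _ => trivial : _ → True) @Cfsg.pointBlockRel.eq_1.{0}
  have := (fun _ => trivial : _ → True) @Cfsg.pointBlockRel.eq_2.{0}
  have := (fun _ => trivial : _ → True) @Cfsg.pointBlockRel.eq_3.{0}
  have := (fun _ => trivial : _ → True) @Cfsg.pointBlockRel.eq_4.{0}
  have := (fun _ => trivial : _ → True) @Cfsg.pointBlockRel.eq_def.{0}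
  have := (fun _ => trivial : _ → True) @Cfsg.pointBlockRel.congr_simp.{0}
  have := (fun _ => trivial : _ → True) @Cfsg.pointBlockRel.fun_cases.{0}
  have := (fun _ => trivial : _ → True) @Cfsg.pointBlockRel.fun_cases_unfolding.{0}
  have := (fun _ => trivial : _ → True) @Cfsg.octads.eq_1
  have := (fun _ => trivial : _ → True) @Cfsg.octads.eq_def
  have := (fun _ => trivial : _ → True) @Cfsg.octads.congr_simp
  have := (fun _ => trivial : _ → True) @Cfsg.cubeTwist.eq_1
  have := (fun _ => trivial : _ → True) @Cfsg.cubeTwist.eq_def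
  have := (fun _ => trivial : _ → True) @Cfsg.cubeTwist.congr_simp
  have := (fun _ => trivial : _ → True) @Cfsg.Co0.eq_1
  have := (fun _ => trivial : _ → True) @Cfsg.Co0.eq_def
  have := (fun _ => trivial : _ → True) @Cfsg.Co0.congr_simp
  have := (fun _ => trivial : _ → True) @Cfsg.IsSteinerSystem.eq_1.{0}
  have := (fun _ => trivial : _ → True) @Cfsg.IsSteinerSystem.eq_def.{0}
  have := (fun _ => trivial : _ → True) @Cfsg.IsSteinerSystem.congr_simp.{0}
  have := (fun _ => trivial : _ → True) @Cfsg.qrWord.eq_1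
  have := (fun _ => trivial : _ → True) @Cfsg.qrWord.eq_2
  have := (fun _ => trivial : _ → True) @Cfsg.qrWord.eq_def
  have := (fun _ => trivial : _ → True) @Cfsg.qrWord.congr_simp
  have := (fun _ => trivial : _ → True) @Cfsg.qrWord.fun_cases
  have := (fun _ => trivial : _ → True) @Cfsg.qrWord.fun_cases_unfolding
  have := (fun _ => trivial : _ → True) @Cfsg.setSystemAut.eq_1.{0}
  have := (fun _ => trivial : _ → True) @Cfsg.setSystemAut.eq_def.{0}
  have := (fun _ => trivial : _ → True) @Cfsg.setSystemAut.congr_simp.{0}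
  have := (fun _ => trivial : _ → True) @Cfsg.dotInt.eq_1.{0}
  have := (fun _ => trivial : _ → True) @Cfsg.dotInt.eq_def.{0}
  have := (fun _ => trivial : _ → True) @Cfsg.dotInt.congr_simp.{0}
  have := (fun _ => trivial : _ → True) @Cfsg.pointBlockGraph.eq_1.{0}
  have := (fun _ => trivial : _ → True) @Cfsg.pointBlockGraph.eq_def.{0}
  have := (fun _ => trivial : _ → True) @Cfsg.pointBlockGraph.congr_simp.{0}
  trivial
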