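import Cfsg.Prelude.Def_Spor_Conway
import Cfsg.Agent.Eq.Def_Sporadic_a

/-! Pre-generates on-demand lemmas for the definitions, so that importers share one copy. -/

theorem CfsgLib.Eq.Def_Spor_Conway.touch : True := by
  have := (fun _ => trivial : _ → True) @Cfsg.Spor.leechU'.eq_1
  have := (fun _ => trivial : _ → True) @Cfsg.Spor.leechU'.eq_def
  have := (fun _ => trivial : _ → True) @Cfsg.Spor.leechU'.congr_simp
  have := (fun _ => trivial : _ → True) @Cfsg.Spor.IsoCo1.eq_1.{0}
  have := (fun _ => trivial : _ → True) @Cfsg.Spor.IsoCo1.eq_def.{0}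
  have := (fun _ => trivial : _ → True) @Cfsg.Spor.IsoCo1.congr_simp.{0}
  have := (fun _ => trivial : _ → True) @Cfsg.Spor.vecU.eq_1
  have := (fun _ => trivial : _ → True) @Cfsg.Spor.vecU.eq_def
  have := (fun _ => trivial : _ → True) @Cfsg.Spor.vecU.congr_simp
  have := (fun _ => trivial : _ → True) @Cfsg.Spor.McL.eq_1
  have := (fun _ => trivial : _ → True) @Cfsg.Spor.McL.eq_def
  have := (fun _ => trivial : _ → True) @Cfsg.Spor.McL.congr_simp
  have := (fun _ => trivial : _ → True) @Cfsg.Spor.vecU'.eq_1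
  have := (fun _ => trivial : _ → True) @Cfsg.Spor.vecU'.eq_def
  have := (fun _ => trivial : _ → True) @Cfsg.Spor.vecU'.congr_simp
  have := (fun _ => trivial : _ → True) @Cfsg.Spor.leechU.eq_1
  have := (fun _ => trivial : _ → True) @Cfsg.Spor.leechU.eq_def
  have := (fun _ => trivial : _ → True) @Cfsg.Spor.leechU.congr_simp
  have := (fun _ => trivial : _ → True) @Cfsg.Spor.Co1.eq_1
  have := (fun _ => trivial : _ → True) @Cfsg.Spor.Co1.eq_def
  have := (fun _ => trivial : _ → True) @Cfsg.Spor.Co1.congr_simp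
  have := (fun _ => trivial : _ → True) @Cfsg.Spor.HS.eq_1
  have := (fun _ => trivial : _ → True) @Cfsg.Spor.HS.eq_def
  have := (fun _ => trivial : _ → True) @Cfsg.Spor.HS.congr_simp
  have := (fun _ => trivial : _ → True) @Cfsg.Spor.vecV.eq_1
  have := (fun _ => trivial : _ → True) @Cfsg.Spor.vecV.eq_def
  have := (fun _ => trivial : _ → True) @Cfsg.Spor.vecV.congr_simp
  have := (fun _ => trivial : _ → True) @Cfsg.Spor.leechV.eq_1
  have := (fun _ => trivial : _ → True) @Cfsg.Spor.leechV.eq_def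
  have := (fun _ => trivial : _ → True) @Cfsg.Spor.leechV.congr_simp
  have := (fun _ => trivial : _ → True) @Cfsg.Spor.Co2.eq_1
  have := (fun _ => trivial : _ → True) @Cfsg.Spor.Co2.eq_def
  have := (fun _ => trivial : _ → True) @Cfsg.Spor.Co2.congr_simp
  have := (fun _ => trivial : _ → True) @Cfsg.Spor.IsoCo2.eq_1.{0}
  have := (fun _ => trivial : _ → True) @Cfsg.Spor.IsoCo2.eq_def.{0}
  have := (fun _ => trivial : _ → True) @Cfsg.Spor.IsoCo2.congr_simp.{0}
  have := (fun _ => trivial : _ → True) @Cfsg.Spor.IsoCo3.eq_1.{0}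
  have := (fun _ => trivial : _ → True) @Cfsg.Spor.IsoCo3.eq_def.{0}
  have := (fun _ => trivial : _ → True) @Cfsg.Spor.IsoCo3.congr_simp.{0}
  have := (fun _ => trivial : _ → True) @Cfsg.Spor.Co3.eq_1
  have := (fun _ => trivial : _ → True) @Cfsg.Spor.Co3.eq_def
  have := (fun _ => trivial : _ → True) @Cfsg.Spor.Co3.congr_simp
  have := (fun _ => trivial : _ → True) @Cfsg.Spor.IsoMcL.eq_1.{0}
  have := (fun _ => trivial : _ → True) @Cfsg.Spor.IsoMcL.eq_def.{0}
  have := (fun _ => trivial : _ → True) @Cfsg.Spor.IsoMcL.congr_simp.{0}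
  have := (fun _ => trivial : _ → True) @Cfsg.Spor.IsoHS.eq_1.{0}
  have := (fun _ => trivial : _ → True) @Cfsg.Spor.IsoHS.eq_def.{0}
  have := (fun _ => trivial : _ → True) @Cfsg.Spor.IsoHS.congr_simp.{0}
  trivial
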