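import Cfsg.Prelude.Def_Spor_Fi24
import Cfsg.Agent.Eq.Def_SporCoxeter

/-! Pre-generates on-demand lemmas for the definitions, so that importers share one copy. -/

theorem CfsgLib.Eq.Def_Spor_Fi24.touch : True := by
  have := (fun _ => trivial : _ → True) @Cfsg.Spor.Fi24.extra.eq_1
  have := (fun _ => trivial : _ → True) @Cfsg.Spor.Fi24.extra.eq_def
  have := (fun _ => trivial : _ → True) @Cfsg.Spor.Fi24.extra.congr_simp
  have := (fun _ => trivial : _ → True) @Cfsg.Spor.Fi24.Gen.h.elim.eq_1.{0}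
  have := (fun _ => trivial : _ → True) @Cfsg.Spor.Fi24.Gen.h.elim.eq_def.{0}
  have := (fun _ => trivial : _ → True) @Cfsg.Spor.Fi24.Gen.h.elim.congr_simp.{0}
  have := (fun _ => trivial : _ → True) @Cfsg.Spor.Fi24.Gen.d.elim.eq_1.{0}
  have := (fun _ => trivial : _ → True) @Cfsg.Spor.Fi24.Gen.d.elim.eq_def.{0}
  have := (fun _ => trivial : _ → True) @Cfsg.Spor.Fi24.Gen.d.elim.congr_simp.{0}
  have := (fun _ => trivial : _ → True) @Cfsg.Spor.Fi24.l.eq_1
  have := (fun _ => trivial : _ → True) @Cfsg.Spor.Fi24.l.eq_def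
  have := (fun _ => trivial : _ → True) @Cfsg.Spor.Fi24.l.congr_simp
  have := (fun _ => trivial : _ → True) @Cfsg.Spor.Fi24.edges.eq_1
  have := (fun _ => trivial : _ → True) @Cfsg.Spor.Fi24.edges.eq_def
  have := (fun _ => trivial : _ → True) @Cfsg.Spor.Fi24.edges.congr_simp
  have := (fun _ => trivial : _ → True) @Cfsg.Spor.Fi24.g.eq_1
  have := (fun _ => trivial : _ → True) @Cfsg.Spor.Fi24.g.eq_def
  have := (fun _ => trivial : _ → True) @Cfsg.Spor.Fi24.g.congr_simp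
  have := (fun _ => trivial : _ → True) @Cfsg.Spor.Fi24.j.eq_1
  have := (fun _ => trivial : _ → True) @Cfsg.Spor.Fi24.j.eq_def
  have := (fun _ => trivial : _ → True) @Cfsg.Spor.Fi24.j.congr_simp
  have := (fun _ => trivial : _ → True) @Cfsg.Spor.Fi24.Gen.g.elim.eq_1.{0}
  have := (fun _ => trivial : _ → True) @Cfsg.Spor.Fi24.Gen.g.elim.eq_def.{0}
  have := (fun _ => trivial : _ → True) @Cfsg.Spor.Fi24.Gen.g.elim.congr_simp.{0}
  have := (fun _ => trivial : _ → True) @Cfsg.Spor.Fi24.e.eq_1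
  have := (fun _ => trivial : _ → True) @Cfsg.Spor.Fi24.e.eq_def
  have := (fun _ => trivial : _ → True) @Cfsg.Spor.Fi24.e.congr_simp
  have := (fun _ => trivial : _ → True) @Cfsg.Spor.Fi24.eq_1
  have := (fun _ => trivial : _ → True) @Cfsg.Spor.Fi24.eq_def
  have := (fun _ => trivial : _ → True) @Cfsg.Spor.Fi24.congr_simp
  have := (fun _ => trivial : _ → True) @Cfsg.Spor.Fi24.Gen.ofNat.eq_1
  have := (fun _ => trivial : _ → True) @Cfsg.Spor.Fi24.Gen.ofNat.eq_def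
  have := (fun _ => trivial : _ → True) @Cfsg.Spor.Fi24.Gen.ofNat.congr_simp
  have := (fun _ => trivial : _ → True) @Cfsg.Spor.Fi24.Gen.casesOn.eq_1.{0}
  have := (fun _ => trivial : _ → True) @Cfsg.Spor.Fi24.Gen.casesOn.eq_def.{0}
  have := (fun _ => trivial : _ → True) @Cfsg.Spor.Fi24.Gen.casesOn.congr_simp.{0}
  have := (fun _ => trivial : _ → True) @Cfsg.Spor.Fi24.Gen.toCtorIdx.eq_1
  have := (fun _ => trivial : _ → True) @Cfsg.Spor.Fi24.Gen.toCtorIdx.eq_def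
  have := (fun _ => trivial : _ → True) @Cfsg.Spor.Fi24.Gen.toCtorIdx.congr_simp
  have := (fun _ => trivial : _ → True) @Cfsg.Spor.Fi24.Gen.j.elim.eq_1.{0}
  have := (fun _ => trivial : _ → True) @Cfsg.Spor.Fi24.Gen.j.elim.eq_def.{0}
  have := (fun _ => trivial : _ → True) @Cfsg.Spor.Fi24.Gen.j.elim.congr_simp.{0}
  have := (fun _ => trivial : _ → True) @Cfsg.Spor.Fi24.Gen.ctorElim.eq_1.{0}
  have := (fun _ => trivial : _ → True) @Cfsg.Spor.Fi24.Gen.ctorElim.eq_def.{0}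
  have := (fun _ => trivial : _ → True) @Cfsg.Spor.Fi24.Gen.ctorElim.congr_simp.{0}
  have := (fun _ => trivial : _ → True) @Cfsg.Spor.Fi24.Gen.l.elim.eq_1.{0}
  have := (fun _ => trivial : _ → True) @Cfsg.Spor.Fi24.Gen.l.elim.eq_def.{0}
  have := (fun _ => trivial : _ → True) @Cfsg.Spor.Fi24.Gen.l.elim.congr_simp.{0}
  have := (fun _ => trivial : _ → True) @Cfsg.Spor.IsoFi24'.eq_1.{0}
  have := (fun _ => trivial : _ → True) @Cfsg.Spor.IsoFi24'.eq_def.{0}
  have := (fun _ => trivial : _ → True) @Cfsg.Spor.IsoFi24'.congr_simp.{0}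
  have := (fun _ => trivial : _ → True) @Cfsg.Spor.Fi24.Gen.c.elim.eq_1.{0}
  have := (fun _ => trivial : _ → True) @Cfsg.Spor.Fi24.Gen.c.elim.eq_def.{0}
  have := (fun _ => trivial : _ → True) @Cfsg.Spor.Fi24.Gen.c.elim.congr_simp.{0}
  have := (fun _ => trivial : _ → True) @Cfsg.Spor.Fi24.instDecidableEqGen.eq_1
  have := (fun _ => trivial : _ → True) @Cfsg.Spor.Fi24.instDecidableEqGen.eq_def
  have := (fun _ => trivial : _ → True) @Cfsg.Spor.Fi24.instDecidableEqGen.congr_simp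
  have := (fun _ => trivial : _ → True) @Cfsg.Spor.Fi24.Gen.e.elim.eq_1.{0}
  have := (fun _ => trivial : _ → True) @Cfsg.Spor.Fi24.Gen.e.elim.eq_def.{0}
  have := (fun _ => trivial : _ → True) @Cfsg.Spor.Fi24.Gen.e.elim.congr_simp.{0}
  have := (fun _ => trivial : _ → True) @Cfsg.Spor.Fi24.i.eq_1
  have := (fun _ => trivial : _ → True) @Cfsg.Spor.Fi24.i.eq_def
  have := (fun _ => trivial : _ → True) @Cfsg.Spor.Fi24.i.congr_simp
  have := (fun _ => trivial : _ → True) @Cfsg.Spor.Fi24.Gen.b.elim.eq_1.{0}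
  have := (fun _ => trivial : _ → True) @Cfsg.Spor.Fi24.Gen.b.elim.eq_def.{0}
  have := (fun _ => trivial : _ → True) @Cfsg.Spor.Fi24.Gen.b.elim.congr_simp.{0}
  have := (fun _ => trivial : _ → True) @Cfsg.Spor.Fi24.a.eq_1
  have := (fun _ => trivial : _ → True) @Cfsg.Spor.Fi24.a.eq_def
  have := (fun _ => trivial : _ → True) @Cfsg.Spor.Fi24.a.congr_simp
  have := (fun _ => trivial : _ → True) @Cfsg.Spor.Fi24.Gen.ctorElimType.eq_1.{0}
  have := (fun _ => trivial : _ → True) @Cfsg.Spor.Fi24.Gen.ctorElimType.eq_def.{0}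
  have := (fun _ => trivial : _ → True) @Cfsg.Spor.Fi24.Gen.ctorElimType.congr_simp.{0}
  have := (fun _ => trivial : _ → True) @Cfsg.Spor.Fi24.k.eq_1
  have := (fun _ => trivial : _ → True) @Cfsg.Spor.Fi24.k.eq_def
  have := (fun _ => trivial : _ → True) @Cfsg.Spor.Fi24.k.congr_simp
  have := (fun _ => trivial : _ → True) @Cfsg.Spor.Fi24.Gen.i.elim.eq_1.{0}
  have := (fun _ => trivial : _ → True) @Cfsg.Spor.Fi24.Gen.i.elim.eq_def.{0}
  have := (fun _ => trivial : _ → True) @Cfsg.Spor.Fi24.Gen.i.elim.congr_simp.{0}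
  have := (fun _ => trivial : _ → True) @Cfsg.Spor.Fi24'.eq_1
  have := (fun _ => trivial : _ → True) @Cfsg.Spor.Fi24'.eq_def
  have := (fun _ => trivial : _ → True) @Cfsg.Spor.Fi24'.congr_simp
  have := (fun _ => trivial : _ → True) @Cfsg.Spor.Fi24.Gen.f.elim.eq_1.{0}
  have := (fun _ => trivial : _ → True) @Cfsg.Spor.Fi24.Gen.f.elim.eq_def.{0}
  have := (fun _ => trivial : _ → True) @Cfsg.Spor.Fi24.Gen.f.elim.congr_simp.{0}
  have := (fun _ => trivial : _ → True) @Cfsg.Spor.Fi24.f.eq_1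
  have := (fun _ => trivial : _ → True) @Cfsg.Spor.Fi24.f.eq_def
  have := (fun _ => trivial : _ → True) @Cfsg.Spor.Fi24.f.congr_simp
  have := (fun _ => trivial : _ → True) @Cfsg.Spor.Fi24.c.eq_1
  have := (fun _ => trivial : _ → True) @Cfsg.Spor.Fi24.c.eq_def
  have := (fun _ => trivial : _ → True) @Cfsg.Spor.Fi24.c.congr_simp
  have := (fun _ => trivial : _ → True) @Cfsg.Spor.Fi24.Gen.a.elim.eq_1.{0}
  have := (fun _ => trivial : _ → True) @Cfsg.Spor.Fi24.Gen.a.elim.eq_def.{0}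
  have := (fun _ => trivial : _ → True) @Cfsg.Spor.Fi24.Gen.a.elim.congr_simp.{0}
  have := (fun _ => trivial : _ → True) @Cfsg.Spor.Fi24.b.eq_1
  have := (fun _ => trivial : _ → True) @Cfsg.Spor.Fi24.b.eq_def
  have := (fun _ => trivial : _ → True) @Cfsg.Spor.Fi24.b.congr_simp
  have := (fun _ => trivial : _ → True) @Cfsg.Spor.Fi24.d.eq_1
  have := (fun _ => trivial : _ → True) @Cfsg.Spor.Fi24.d.eq_def
  have := (fun _ => trivial : _ → True) @Cfsg.Spor.Fi24.d.congr_simp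
  have := (fun _ => trivial : _ → True) @Cfsg.Spor.Fi24.h.eq_1
  have := (fun _ => trivial : _ → True) @Cfsg.Spor.Fi24.h.eq_def
  have := (fun _ => trivial : _ → True) @Cfsg.Spor.Fi24.h.congr_simp
  have := (fun _ => trivial : _ → True) @Cfsg.Spor.Fi24.Gen.k.elim.eq_1.{0}
  have := (fun _ => trivial : _ → True) @Cfsg.Spor.Fi24.Gen.k.elim.eq_def.{0}
  have := (fun _ => trivial : _ → True) @Cfsg.Spor.Fi24.Gen.k.elim.congr_simp.{0}
  have := (fun _ => trivial : _ → True) @Cfsg.Spor.Fi24.Gen.recOn.eq_1.{0}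
  have := (fun _ => trivial : _ → True) @Cfsg.Spor.Fi24.Gen.recOn.eq_def.{0}
  have := (fun _ => trivial : _ → True) @Cfsg.Spor.Fi24.Gen.recOn.congr_simp.{0}
  trivial
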