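import Cfsg.Prelude.Def_Spor_HN
import Cfsg.Agent.Eq.Def_SporCoxeter

/-! Pre-generates on-demand lemmas for the definitions, so that importers share one copy. -/

theorem CfsgLib.Eq.Def_Spor_HN.touch : True := by
  have := (fun _ => trivial : _ → True) @Cfsg.Spor.HN.Gen.ctorElimType.eq_1.{0}
  have := (fun _ => trivial : _ → True) @Cfsg.Spor.HN.Gen.ctorElimType.eq_def.{0}
  have := (fun _ => trivial : _ → True) @Cfsg.Spor.HN.Gen.ctorElimType.congr_simp.{0}
  have := (fun _ => trivial : _ → True) @Cfsg.Spor.HN.Gen.x.elim.eq_1.{0}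
  have := (fun _ => trivial : _ → True) @Cfsg.Spor.HN.Gen.x.elim.eq_def.{0}
  have := (fun _ => trivial : _ → True) @Cfsg.Spor.HN.Gen.x.elim.congr_simp.{0}
  have := (fun _ => trivial : _ → True) @Cfsg.Spor.IsoHN.eq_1.{0}
  have := (fun _ => trivial : _ → True) @Cfsg.Spor.IsoHN.eq_def.{0}
  have := (fun _ => trivial : _ → True) @Cfsg.Spor.IsoHN.congr_simp.{0}
  have := (fun _ => trivial : _ → True) @Cfsg.Spor.HN.Gen.ofNat.eq_1
  have := (fun _ => trivial : _ → True) @Cfsg.Spor.HN.Gen.ofNat.eq_def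
  have := (fun _ => trivial : _ → True) @Cfsg.Spor.HN.Gen.ofNat.congr_simp
  have := (fun _ => trivial : _ → True) @Cfsg.Spor.HN.Gen.casesOn.eq_1.{0}
  have := (fun _ => trivial : _ → True) @Cfsg.Spor.HN.Gen.casesOn.eq_def.{0}
  have := (fun _ => trivial : _ → True) @Cfsg.Spor.HN.Gen.casesOn.congr_simp.{0}
  have := (fun _ => trivial : _ → True) @Cfsg.Spor.HN.Gen.toCtorIdx.eq_1
  have := (fun _ => trivial : _ → True) @Cfsg.Spor.HN.Gen.toCtorIdx.eq_def
  have := (fun _ => trivial : _ → True) @Cfsg.Spor.HN.Gen.toCtorIdx.congr_simp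
  have := (fun _ => trivial : _ → True) @Cfsg.Spor.HN.y.eq_1
  have := (fun _ => trivial : _ → True) @Cfsg.Spor.HN.y.eq_def
  have := (fun _ => trivial : _ → True) @Cfsg.Spor.HN.y.congr_simp
  have := (fun _ => trivial : _ → True) @Cfsg.Spor.HN.edges.eq_1
  have := (fun _ => trivial : _ → True) @Cfsg.Spor.HN.edges.eq_def
  have := (fun _ => trivial : _ → True) @Cfsg.Spor.HN.edges.congr_simp
  have := (fun _ => trivial : _ → True) @Cfsg.Spor.HN.extra.eq_1
  have := (fun _ => trivial : _ → True) @Cfsg.Spor.HN.extra.eq_def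
  have := (fun _ => trivial : _ → True) @Cfsg.Spor.HN.extra.congr_simp
  have := (fun _ => trivial : _ → True) @Cfsg.Spor.HN.Gen.t.elim.eq_1.{0}
  have := (fun _ => trivial : _ → True) @Cfsg.Spor.HN.Gen.t.elim.eq_def.{0}
  have := (fun _ => trivial : _ → True) @Cfsg.Spor.HN.Gen.t.elim.congr_simp.{0}
  have := (fun _ => trivial : _ → True) @Cfsg.Spor.HN.Gen.recOn.eq_1.{0}
  have := (fun _ => trivial : _ → True) @Cfsg.Spor.HN.Gen.recOn.eq_def.{0}
  have := (fun _ => trivial : _ → True) @Cfsg.Spor.HN.Gen.recOn.congr_simp.{0}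
  have := (fun _ => trivial : _ → True) @Cfsg.Spor.HN.z.eq_1
  have := (fun _ => trivial : _ → True) @Cfsg.Spor.HN.z.eq_def
  have := (fun _ => trivial : _ → True) @Cfsg.Spor.HN.z.congr_simp
  have := (fun _ => trivial : _ → True) @Cfsg.Spor.HN.x.eq_1
  have := (fun _ => trivial : _ → True) @Cfsg.Spor.HN.x.eq_def
  have := (fun _ => trivial : _ → True) @Cfsg.Spor.HN.x.congr_simp
  have := (fun _ => trivial : _ → True) @Cfsg.Spor.HN.eq_1
  have := (fun _ => trivial : _ → True) @Cfsg.Spor.HN.eq_def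
  have := (fun _ => trivial : _ → True) @Cfsg.Spor.HN.congr_simp
  have := (fun _ => trivial : _ → True) @Cfsg.Spor.HN.Gen.ctorElim.eq_1.{0}
  have := (fun _ => trivial : _ → True) @Cfsg.Spor.HN.Gen.ctorElim.eq_def.{0}
  have := (fun _ => trivial : _ → True) @Cfsg.Spor.HN.Gen.ctorElim.congr_simp.{0}
  have := (fun _ => trivial : _ → True) @Cfsg.Spor.HN.Gen.y.elim.eq_1.{0}
  have := (fun _ => trivial : _ → True) @Cfsg.Spor.HN.Gen.y.elim.eq_def.{0}
  have := (fun _ => trivial : _ → True) @Cfsg.Spor.HN.Gen.y.elim.congr_simp.{0}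
  have := (fun _ => trivial : _ → True) @Cfsg.Spor.HN.instDecidableEqGen.eq_1
  have := (fun _ => trivial : _ → True) @Cfsg.Spor.HN.instDecidableEqGen.eq_def
  have := (fun _ => trivial : _ → True) @Cfsg.Spor.HN.instDecidableEqGen.congr_simp
  have := (fun _ => trivial : _ → True) @Cfsg.Spor.HN.t.eq_1
  have := (fun _ => trivial : _ → True) @Cfsg.Spor.HN.t.eq_def
  have := (fun _ => trivial : _ → True) @Cfsg.Spor.HN.t.congr_simp
  have := (fun _ => trivial : _ → True) @Cfsg.Spor.HN.Gen.z.elim.eq_1.{0}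
  have := (fun _ => trivial : _ → True) @Cfsg.Spor.HN.Gen.z.elim.eq_def.{0}
  have := (fun _ => trivial : _ → True) @Cfsg.Spor.HN.Gen.z.elim.congr_simp.{0}
  trivial
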