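import Cfsg.Prelude.Def_Spor_J3

/-! Pre-generates on-demand lemmas for the definitions, so that importers share one copy. -/

theorem CfsgLib.Eq.Def_Spor_J3.touch : True := by
  have := (fun _ => trivial : _ → True) @Cfsg.Spor.F9.eq_1
  have := (fun _ => trivial : _ → True) @Cfsg.Spor.F9.eq_def
  have := (fun _ => trivial : _ → True) @Cfsg.Spor.F9.congr_simp
  have := (fun _ => trivial : _ → True) @Cfsg.Spor.omegaPow.eq_1.{0}
  have := (fun _ => trivial : _ → True) @Cfsg.Spor.omegaPow.eq_def.{0}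
  have := (fun _ => trivial : _ → True) @Cfsg.Spor.omegaPow.congr_simp.{0}
  have := (fun _ => trivial : _ → True) @Cfsg.Spor.j3A.eq_1.{0}
  have := (fun _ => trivial : _ → True) @Cfsg.Spor.j3A.eq_def.{0}
  have := (fun _ => trivial : _ → True) @Cfsg.Spor.j3A.congr_simp.{0}
  have := (fun _ => trivial : _ → True) @Cfsg.Spor.F9.I.eq_1
  have := (fun _ => trivial : _ → True) @Cfsg.Spor.F9.I.eq_def
  have := (fun _ => trivial : _ → True) @Cfsg.Spor.F9.I.congr_simp
  have := (fun _ => trivial : _ → True) @Cfsg.Spor.F9.mul.eq_1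
  have := (fun _ => trivial : _ → True) @Cfsg.Spor.F9.mul.eq_def
  have := (fun _ => trivial : _ → True) @Cfsg.Spor.F9.mul.congr_simp
  have := (fun _ => trivial : _ → True) @Cfsg.Spor.j3D.eq_1.{0}
  have := (fun _ => trivial : _ → True) @Cfsg.Spor.j3D.eq_def.{0}
  have := (fun _ => trivial : _ → True) @Cfsg.Spor.j3D.congr_simp.{0}
  have := (fun _ => trivial : _ → True) @Cfsg.Spor.j3C.eq_1.{0}
  have := (fun _ => trivial : _ → True) @Cfsg.Spor.j3C.eq_def.{0}
  have := (fun _ => trivial : _ → True) @Cfsg.Spor.j3C.congr_simp.{0}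
  have := (fun _ => trivial : _ → True) @Cfsg.Spor.j3E.eq_1.{0}
  have := (fun _ => trivial : _ → True) @Cfsg.Spor.j3E.eq_def.{0}
  have := (fun _ => trivial : _ → True) @Cfsg.Spor.j3E.congr_simp.{0}
  have := (fun _ => trivial : _ → True) @Cfsg.Spor.F9.one.eq_1
  have := (fun _ => trivial : _ → True) @Cfsg.Spor.F9.one.eq_def
  have := (fun _ => trivial : _ → True) @Cfsg.Spor.F9.one.congr_simp
  have := (fun _ => trivial : _ → True) @Cfsg.Spor.F9.inv.eq_1
  have := (fun _ => trivial : _ → True) @Cfsg.Spor.F9.inv.eq_def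
  have := (fun _ => trivial : _ → True) @Cfsg.Spor.F9.inv.congr_simp
  have := (fun _ => trivial : _ → True) @Cfsg.Spor.j3Gens.eq_1.{0}
  have := (fun _ => trivial : _ → True) @Cfsg.Spor.j3Gens.eq_def.{0}
  have := (fun _ => trivial : _ → True) @Cfsg.Spor.j3Gens.congr_simp.{0}
  have := (fun _ => trivial : _ → True) @Cfsg.Spor.j3Lam.eq_1.{0}
  have := (fun _ => trivial : _ → True) @Cfsg.Spor.j3Lam.eq_def.{0}
  have := (fun _ => trivial : _ → True) @Cfsg.Spor.j3Lam.congr_simp.{0}
  have := (fun _ => trivial : _ → True) @Cfsg.Spor.j3B.eq_1.{0}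
  have := (fun _ => trivial : _ → True) @Cfsg.Spor.j3B.eq_def.{0}
  have := (fun _ => trivial : _ → True) @Cfsg.Spor.j3B.congr_simp.{0}
  have := (fun _ => trivial : _ → True) @Cfsg.Spor.threeJ3.eq_1.{0}
  have := (fun _ => trivial : _ → True) @Cfsg.Spor.threeJ3.eq_def.{0}
  have := (fun _ => trivial : _ → True) @Cfsg.Spor.threeJ3.congr_simp.{0}
  have := (fun _ => trivial : _ → True) @Cfsg.Spor.IsoJ3.eq_1.{0}
  have := (fun _ => trivial : _ → True) @Cfsg.Spor.IsoJ3.eq_def.{0}
  have := (fun _ => trivial : _ → True) @Cfsg.Spor.IsoJ3.congr_simp.{0}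
  have := (fun _ => trivial : _ → True) @Cfsg.Spor.F9.div.eq_1
  have := (fun _ => trivial : _ → True) @Cfsg.Spor.F9.div.eq_def
  have := (fun _ => trivial : _ → True) @Cfsg.Spor.F9.div.congr_simp
  have := (fun _ => trivial : _ → True) @Cfsg.Spor.J3.eq_1.{0}
  have := (fun _ => trivial : _ → True) @Cfsg.Spor.J3.eq_def.{0}
  have := (fun _ => trivial : _ → True) @Cfsg.Spor.J3.congr_simp.{0}
  trivial
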