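import Cfsg.Prelude.Def_Spor_J4
import Cfsg.Agent.Eq.Def_SporCoxeter

/-! Pre-generates on-demand lemmas for the definitions, so that importers share one copy. -/

theorem CfsgLib.Eq.Def_Spor_J4.touch : True := by
  have := (fun _ => trivial : _ → True) @Cfsg.Spor.J4.t.eq_1
  have := (fun _ => trivial : _ → True) @Cfsg.Spor.J4.t.eq_def
  have := (fun _ => trivial : _ → True) @Cfsg.Spor.J4.t.congr_simp
  have := (fun _ => trivial : _ → True) @Cfsg.Spor.J4.Gen.ctorElimType.eq_1.{0}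
  have := (fun _ => trivial : _ → True) @Cfsg.Spor.J4.Gen.ctorElimType.eq_def.{0}
  have := (fun _ => trivial : _ → True) @Cfsg.Spor.J4.Gen.ctorElimType.congr_simp.{0}
  have := (fun _ => trivial : _ → True) @Cfsg.Spor.J4.x.eq_1
  have := (fun _ => trivial : _ → True) @Cfsg.Spor.J4.x.eq_def
  have := (fun _ => trivial : _ → True) @Cfsg.Spor.J4.x.congr_simp
  have := (fun _ => trivial : _ → True) @Cfsg.Spor.IsoJ4.eq_1.{0}
  have := (fun _ => trivial : _ → True) @Cfsg.Spor.IsoJ4.eq_def.{0}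
  have := (fun _ => trivial : _ → True) @Cfsg.Spor.IsoJ4.congr_simp.{0}
  have := (fun _ => trivial : _ → True) @Cfsg.Spor.J4.extra.eq_1
  have := (fun _ => trivial : _ → True) @Cfsg.Spor.J4.extra.eq_def
  have := (fun _ => trivial : _ → True) @Cfsg.Spor.J4.extra.congr_simp
  have := (fun _ => trivial : _ → True) @Cfsg.Spor.J4.Gen.ctorElim.eq_1.{0}
  have := (fun _ => trivial : _ → True) @Cfsg.Spor.J4.Gen.ctorElim.eq_def.{0}
  have := (fun _ => trivial : _ → True) @Cfsg.Spor.J4.Gen.ctorElim.congr_simp.{0}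
  have := (fun _ => trivial : _ → True) @Cfsg.Spor.J4.edges.eq_1
  have := (fun _ => trivial : _ → True) @Cfsg.Spor.J4.edges.eq_def
  have := (fun _ => trivial : _ → True) @Cfsg.Spor.J4.edges.congr_simp
  have := (fun _ => trivial : _ → True) @Cfsg.Spor.J4.Gen.t.elim.eq_1.{0}
  have := (fun _ => trivial : _ → True) @Cfsg.Spor.J4.Gen.t.elim.eq_def.{0}
  have := (fun _ => trivial : _ → True) @Cfsg.Spor.J4.Gen.t.elim.congr_simp.{0}
  have := (fun _ => trivial : _ → True) @Cfsg.Spor.J4.Gen.casesOn.eq_1.{0}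
  have := (fun _ => trivial : _ → True) @Cfsg.Spor.J4.Gen.casesOn.eq_def.{0}
  have := (fun _ => trivial : _ → True) @Cfsg.Spor.J4.Gen.casesOn.congr_simp.{0}
  have := (fun _ => trivial : _ → True) @Cfsg.Spor.J4.Gen.toCtorIdx.eq_1
  have := (fun _ => trivial : _ → True) @Cfsg.Spor.J4.Gen.toCtorIdx.eq_def
  have := (fun _ => trivial : _ → True) @Cfsg.Spor.J4.Gen.toCtorIdx.congr_simp
  have := (fun _ => trivial : _ → True) @Cfsg.Spor.J4.Gen.ofNat.eq_1
  have := (fun _ => trivial : _ → True) @Cfsg.Spor.J4.Gen.ofNat.eq_def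
  have := (fun _ => trivial : _ → True) @Cfsg.Spor.J4.Gen.ofNat.congr_simp
  have := (fun _ => trivial : _ → True) @Cfsg.Spor.J4.y.eq_1
  have := (fun _ => trivial : _ → True) @Cfsg.Spor.J4.y.eq_def
  have := (fun _ => trivial : _ → True) @Cfsg.Spor.J4.y.congr_simp
  have := (fun _ => trivial : _ → True) @Cfsg.Spor.J4.eq_1
  have := (fun _ => trivial : _ → True) @Cfsg.Spor.J4.eq_def
  have := (fun _ => trivial : _ → True) @Cfsg.Spor.J4.congr_simp
  have := (fun _ => trivial : _ → True) @Cfsg.Spor.J4.Gen.y.elim.eq_1.{0}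
  have := (fun _ => trivial : _ → True) @Cfsg.Spor.J4.Gen.y.elim.eq_def.{0}
  have := (fun _ => trivial : _ → True) @Cfsg.Spor.J4.Gen.y.elim.congr_simp.{0}
  have := (fun _ => trivial : _ → True) @Cfsg.Spor.J4.Gen.x.elim.eq_1.{0}
  have := (fun _ => trivial : _ → True) @Cfsg.Spor.J4.Gen.x.elim.eq_def.{0}
  have := (fun _ => trivial : _ → True) @Cfsg.Spor.J4.Gen.x.elim.congr_simp.{0}
  have := (fun _ => trivial : _ → True) @Cfsg.Spor.J4.Gen.recOn.eq_1.{0}
  have := (fun _ => trivial : _ → True) @Cfsg.Spor.J4.Gen.recOn.eq_def.{0}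
  have := (fun _ => trivial : _ → True) @Cfsg.Spor.J4.Gen.recOn.congr_simp.{0}
  have := (fun _ => trivial : _ → True) @Cfsg.Spor.J4.instDecidableEqGen.eq_1
  have := (fun _ => trivial : _ → True) @Cfsg.Spor.J4.instDecidableEqGen.eq_def
  have := (fun _ => trivial : _ → True) @Cfsg.Spor.J4.instDecidableEqGen.congr_simp
  trivial
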