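import Cfsg.Prelude.Def_Spor_Ly
import Cfsg.Agent.Eq.Def_SporCoxeter

/-! Pre-generates on-demand lemmas for the definitions, so that importers share one copy. -/

theorem CfsgLib.Eq.Def_Spor_Ly.touch : True := by
  have := (fun _ => trivial : _ → True) @Cfsg.Spor.Ly.Gen.x23.elim.eq_1.{0}
  have := (fun _ => trivial : _ → True) @Cfsg.Spor.Ly.Gen.x23.elim.eq_def.{0}
  have := (fun _ => trivial : _ → True) @Cfsg.Spor.Ly.Gen.x23.elim.congr_simp.{0}
  have := (fun _ => trivial : _ → True) @Cfsg.Spor.Ly.x29.eq_1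
  have := (fun _ => trivial : _ → True) @Cfsg.Spor.Ly.x29.eq_def
  have := (fun _ => trivial : _ → True) @Cfsg.Spor.Ly.x29.congr_simp
  have := (fun _ => trivial : _ → True) @Cfsg.Spor.Ly.Gen.u.elim.eq_1.{0}
  have := (fun _ => trivial : _ → True) @Cfsg.Spor.Ly.Gen.u.elim.eq_def.{0}
  have := (fun _ => trivial : _ → True) @Cfsg.Spor.Ly.Gen.u.elim.congr_simp.{0}
  have := (fun _ => trivial : _ → True) @Cfsg.Spor.Ly.c4.eq_1
  have := (fun _ => trivial : _ → True) @Cfsg.Spor.Ly.c4.eq_def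
  have := (fun _ => trivial : _ → True) @Cfsg.Spor.Ly.c4.congr_simp
  have := (fun _ => trivial : _ → True) @Cfsg.Spor.Ly.Gen.x165.elim.eq_1.{0}
  have := (fun _ => trivial : _ → True) @Cfsg.Spor.Ly.Gen.x165.elim.eq_def.{0}
  have := (fun _ => trivial : _ → True) @Cfsg.Spor.Ly.Gen.x165.elim.congr_simp.{0}
  have := (fun _ => trivial : _ → True) @Cfsg.Spor.Ly.x165.eq_1
  have := (fun _ => trivial : _ → True) @Cfsg.Spor.Ly.x165.eq_def
  have := (fun _ => trivial : _ → True) @Cfsg.Spor.Ly.x165.congr_simp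
  have := (fun _ => trivial : _ → True) @Cfsg.Spor.Ly.Gen.ofNat.eq_1
  have := (fun _ => trivial : _ → True) @Cfsg.Spor.Ly.Gen.ofNat.eq_def
  have := (fun _ => trivial : _ → True) @Cfsg.Spor.Ly.Gen.ofNat.congr_simp
  have := (fun _ => trivial : _ → True) @Cfsg.Spor.Ly.Gen.casesOn.eq_1.{0}
  have := (fun _ => trivial : _ → True) @Cfsg.Spor.Ly.Gen.casesOn.eq_def.{0}
  have := (fun _ => trivial : _ → True) @Cfsg.Spor.Ly.Gen.casesOn.congr_simp.{0}
  have := (fun _ => trivial : _ → True) @Cfsg.Spor.Ly.x129.eq_1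
  have := (fun _ => trivial : _ → True) @Cfsg.Spor.Ly.x129.eq_def
  have := (fun _ => trivial : _ → True) @Cfsg.Spor.Ly.x129.congr_simp
  have := (fun _ => trivial : _ → True) @Cfsg.Spor.Ly.z.eq_1
  have := (fun _ => trivial : _ → True) @Cfsg.Spor.Ly.z.eq_def
  have := (fun _ => trivial : _ → True) @Cfsg.Spor.Ly.z.congr_simp
  have := (fun _ => trivial : _ → True) @Cfsg.Spor.Ly.Gen.toCtorIdx.eq_1
  have := (fun _ => trivial : _ → True) @Cfsg.Spor.Ly.Gen.toCtorIdx.eq_def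
  have := (fun _ => trivial : _ → True) @Cfsg.Spor.Ly.Gen.toCtorIdx.congr_simp
  have := (fun _ => trivial : _ → True) @Cfsg.Spor.Ly.c.eq_1
  have := (fun _ => trivial : _ → True) @Cfsg.Spor.Ly.c.eq_def
  have := (fun _ => trivial : _ → True) @Cfsg.Spor.Ly.c.congr_simp
  have := (fun _ => trivial : _ → True) @Cfsg.Spor.Ly.Gen.a.elim.eq_1.{0}
  have := (fun _ => trivial : _ → True) @Cfsg.Spor.Ly.Gen.a.elim.eq_def.{0}
  have := (fun _ => trivial : _ → True) @Cfsg.Spor.Ly.Gen.a.elim.congr_simp.{0}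
  have := (fun _ => trivial : _ → True) @Cfsg.Spor.Ly.Gen.x168.elim.eq_1.{0}
  have := (fun _ => trivial : _ → True) @Cfsg.Spor.Ly.Gen.x168.elim.eq_def.{0}
  have := (fun _ => trivial : _ → True) @Cfsg.Spor.Ly.Gen.x168.elim.congr_simp.{0}
  have := (fun _ => trivial : _ → True) @Cfsg.Spor.Ly.Gen.a3.elim.eq_1.{0}
  have := (fun _ => trivial : _ → True) @Cfsg.Spor.Ly.Gen.a3.elim.eq_def.{0}
  have := (fun _ => trivial : _ → True) @Cfsg.Spor.Ly.Gen.a3.elim.congr_simp.{0}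
  have := (fun _ => trivial : _ → True) @Cfsg.Spor.Ly.Gen.x163.elim.eq_1.{0}
  have := (fun _ => trivial : _ → True) @Cfsg.Spor.Ly.Gen.x163.elim.eq_def.{0}
  have := (fun _ => trivial : _ → True) @Cfsg.Spor.Ly.Gen.x163.elim.congr_simp.{0}
  have := (fun _ => trivial : _ → True) @Cfsg.Spor.Ly.x367.eq_1
  have := (fun _ => trivial : _ → True) @Cfsg.Spor.Ly.x367.eq_def
  have := (fun _ => trivial : _ → True) @Cfsg.Spor.Ly.x367.congr_simp
  have := (fun _ => trivial : _ → True) @Cfsg.Spor.Ly.Gen.x96.elim.eq_1.{0}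
  have := (fun _ => trivial : _ → True) @Cfsg.Spor.Ly.Gen.x96.elim.eq_def.{0}
  have := (fun _ => trivial : _ → True) @Cfsg.Spor.Ly.Gen.x96.elim.congr_simp.{0}
  have := (fun _ => trivial : _ → True) @Cfsg.Spor.IsoLy.eq_1.{0}
  have := (fun _ => trivial : _ → True) @Cfsg.Spor.IsoLy.eq_def.{0}
  have := (fun _ => trivial : _ → True) @Cfsg.Spor.IsoLy.congr_simp.{0}
  have := (fun _ => trivial : _ → True) @Cfsg.Spor.Ly.Gen.x167.elim.eq_1.{0}
  have := (fun _ => trivial : _ → True) @Cfsg.Spor.Ly.Gen.x167.elim.eq_def.{0}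
  have := (fun _ => trivial : _ → True) @Cfsg.Spor.Ly.Gen.x167.elim.congr_simp.{0}
  have := (fun _ => trivial : _ → True) @Cfsg.Spor.Ly.c5.eq_1
  have := (fun _ => trivial : _ → True) @Cfsg.Spor.Ly.c5.eq_def
  have := (fun _ => trivial : _ → True) @Cfsg.Spor.Ly.c5.congr_simp
  have := (fun _ => trivial : _ → True) @Cfsg.Spor.Ly.x25.eq_1
  have := (fun _ => trivial : _ → True) @Cfsg.Spor.Ly.x25.eq_def
  have := (fun _ => trivial : _ → True) @Cfsg.Spor.Ly.x25.congr_simp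
  have := (fun _ => trivial : _ → True) @Cfsg.Spor.Ly.extra.eq_1
  have := (fun _ => trivial : _ → True) @Cfsg.Spor.Ly.extra.eq_def
  have := (fun _ => trivial : _ → True) @Cfsg.Spor.Ly.extra.congr_simp
  have := (fun _ => trivial : _ → True) @Cfsg.Spor.Ly.edges.eq_1
  have := (fun _ => trivial : _ → True) @Cfsg.Spor.Ly.edges.eq_def
  have := (fun _ => trivial : _ → True) @Cfsg.Spor.Ly.edges.congr_simp
  have := (fun _ => trivial : _ → True) @Cfsg.Spor.Ly.Gen.x367.elim.eq_1.{0}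
  have := (fun _ => trivial : _ → True) @Cfsg.Spor.Ly.Gen.x367.elim.eq_def.{0}
  have := (fun _ => trivial : _ → True) @Cfsg.Spor.Ly.Gen.x367.elim.congr_simp.{0}
  have := (fun _ => trivial : _ → True) @Cfsg.Spor.Ly.Gen.x24.elim.eq_1.{0}
  have := (fun _ => trivial : _ → True) @Cfsg.Spor.Ly.Gen.x24.elim.eq_def.{0}
  have := (fun _ => trivial : _ → True) @Cfsg.Spor.Ly.Gen.x24.elim.congr_simp.{0}
  have := (fun _ => trivial : _ → True) @Cfsg.Spor.Ly.x366.eq_1
  have := (fun _ => trivial : _ → True) @Cfsg.Spor.Ly.x366.eq_def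
  have := (fun _ => trivial : _ → True) @Cfsg.Spor.Ly.x366.congr_simp
  have := (fun _ => trivial : _ → True) @Cfsg.Spor.Ly.Gen.x368.elim.eq_1.{0}
  have := (fun _ => trivial : _ → True) @Cfsg.Spor.Ly.Gen.x368.elim.eq_def.{0}
  have := (fun _ => trivial : _ → True) @Cfsg.Spor.Ly.Gen.x368.elim.congr_simp.{0}
  have := (fun _ => trivial : _ → True) @Cfsg.Spor.Ly.Gen.x364.elim.eq_1.{0}
  have := (fun _ => trivial : _ → True) @Cfsg.Spor.Ly.Gen.x364.elim.eq_def.{0}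
  have := (fun _ => trivial : _ → True) @Cfsg.Spor.Ly.Gen.x364.elim.congr_simp.{0}
  have := (fun _ => trivial : _ → True) @Cfsg.Spor.Ly.Gen.x169.elim.eq_1.{0}
  have := (fun _ => trivial : _ → True) @Cfsg.Spor.Ly.Gen.x169.elim.eq_def.{0}
  have := (fun _ => trivial : _ → True) @Cfsg.Spor.Ly.Gen.x169.elim.congr_simp.{0}
  have := (fun _ => trivial : _ → True) @Cfsg.Spor.Ly.Gen.e.elim.eq_1.{0}
  have := (fun _ => trivial : _ → True) @Cfsg.Spor.Ly.Gen.e.elim.eq_def.{0}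
  have := (fun _ => trivial : _ → True) @Cfsg.Spor.Ly.Gen.e.elim.congr_simp.{0}
  have := (fun _ => trivial : _ → True) @Cfsg.Spor.Ly.Gen.b.elim.eq_1.{0}
  have := (fun _ => trivial : _ → True) @Cfsg.Spor.Ly.Gen.b.elim.eq_def.{0}
  have := (fun _ => trivial : _ → True) @Cfsg.Spor.Ly.Gen.b.elim.congr_simp.{0}
  have := (fun _ => trivial : _ → True) @Cfsg.Spor.Ly.Gen.a4.elim.eq_1.{0}
  have := (fun _ => trivial : _ → True) @Cfsg.Spor.Ly.Gen.a4.elim.eq_def.{0}
  have := (fun _ => trivial : _ → True) @Cfsg.Spor.Ly.Gen.a4.elim.congr_simp.{0}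
  have := (fun _ => trivial : _ → True) @Cfsg.Spor.Ly.u.eq_1
  have := (fun _ => trivial : _ → True) @Cfsg.Spor.Ly.u.eq_def
  have := (fun _ => trivial : _ → True) @Cfsg.Spor.Ly.u.congr_simp
  have := (fun _ => trivial : _ → True) @Cfsg.Spor.Ly.Gen.ctorElimType.eq_1.{0}
  have := (fun _ => trivial : _ → True) @Cfsg.Spor.Ly.Gen.ctorElimType.eq_def.{0}
  have := (fun _ => trivial : _ → True) @Cfsg.Spor.Ly.Gen.ctorElimType.congr_simp.{0}
  have := (fun _ => trivial : _ → True) @Cfsg.Spor.Ly.Gen.x370.elim.eq_1.{0}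
  have := (fun _ => trivial : _ → True) @Cfsg.Spor.Ly.Gen.x370.elim.eq_def.{0}
  have := (fun _ => trivial : _ → True) @Cfsg.Spor.Ly.Gen.x370.elim.congr_simp.{0}
  have := (fun _ => trivial : _ → True) @Cfsg.Spor.Ly.x23.eq_1
  have := (fun _ => trivial : _ → True) @Cfsg.Spor.Ly.x23.eq_def
  have := (fun _ => trivial : _ → True) @Cfsg.Spor.Ly.x23.congr_simp
  have := (fun _ => trivial : _ → True) @Cfsg.Spor.Ly.Gen.x47.elim.eq_1.{0}
  have := (fun _ => trivial : _ → True) @Cfsg.Spor.Ly.Gen.x47.elim.eq_def.{0}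
  have := (fun _ => trivial : _ → True) @Cfsg.Spor.Ly.Gen.x47.elim.congr_simp.{0}
  have := (fun _ => trivial : _ → True) @Cfsg.Spor.Ly.Gen.c2.elim.eq_1.{0}
  have := (fun _ => trivial : _ → True) @Cfsg.Spor.Ly.Gen.c2.elim.eq_def.{0}
  have := (fun _ => trivial : _ → True) @Cfsg.Spor.Ly.Gen.c2.elim.congr_simp.{0}
  have := (fun _ => trivial : _ → True) @Cfsg.Spor.Ly.Gen.x369.elim.eq_1.{0}
  have := (fun _ => trivial : _ → True) @Cfsg.Spor.Ly.Gen.x369.elim.eq_def.{0}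
  have := (fun _ => trivial : _ → True) @Cfsg.Spor.Ly.Gen.x369.elim.congr_simp.{0}
  have := (fun _ => trivial : _ → True) @Cfsg.Spor.Ly.eq_1
  have := (fun _ => trivial : _ → True) @Cfsg.Spor.Ly.eq_def
  have := (fun _ => trivial : _ → True) @Cfsg.Spor.Ly.congr_simp
  have := (fun _ => trivial : _ → True) @Cfsg.Spor.Ly.x370.eq_1
  have := (fun _ => trivial : _ → True) @Cfsg.Spor.Ly.x370.eq_def
  have := (fun _ => trivial : _ → True) @Cfsg.Spor.Ly.x370.congr_simp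
  have := (fun _ => trivial : _ → True) @Cfsg.Spor.Ly.x47.eq_1
  have := (fun _ => trivial : _ → True) @Cfsg.Spor.Ly.x47.eq_def
  have := (fun _ => trivial : _ → True) @Cfsg.Spor.Ly.x47.congr_simp
  have := (fun _ => trivial : _ → True) @Cfsg.Spor.Ly.c3.eq_1
  have := (fun _ => trivial : _ → True) @Cfsg.Spor.Ly.c3.eq_def
  have := (fun _ => trivial : _ → True) @Cfsg.Spor.Ly.c3.congr_simp
  have := (fun _ => trivial : _ → True) @Cfsg.Spor.Ly.Gen.c3.elim.eq_1.{0}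
  have := (fun _ => trivial : _ → True) @Cfsg.Spor.Ly.Gen.c3.elim.eq_def.{0}
  have := (fun _ => trivial : _ → True) @Cfsg.Spor.Ly.Gen.c3.elim.congr_simp.{0}
  have := (fun _ => trivial : _ → True) @Cfsg.Spor.Ly.Gen.a1.elim.eq_1.{0}
  have := (fun _ => trivial : _ → True) @Cfsg.Spor.Ly.Gen.a1.elim.eq_def.{0}
  have := (fun _ => trivial : _ → True) @Cfsg.Spor.Ly.Gen.a1.elim.congr_simp.{0}
  have := (fun _ => trivial : _ → True) @Cfsg.Spor.Ly.Gen.x166.elim.eq_1.{0}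
  have := (fun _ => trivial : _ → True) @Cfsg.Spor.Ly.Gen.x166.elim.eq_def.{0}
  have := (fun _ => trivial : _ → True) @Cfsg.Spor.Ly.Gen.x166.elim.congr_simp.{0}
  have := (fun _ => trivial : _ → True) @Cfsg.Spor.Ly.x167.eq_1
  have := (fun _ => trivial : _ → True) @Cfsg.Spor.Ly.x167.eq_def
  have := (fun _ => trivial : _ → True) @Cfsg.Spor.Ly.x167.congr_simp
  have := (fun _ => trivial : _ → True) @Cfsg.Spor.Ly.b.eq_1
  have := (fun _ => trivial : _ → True) @Cfsg.Spor.Ly.b.eq_def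
  have := (fun _ => trivial : _ → True) @Cfsg.Spor.Ly.b.congr_simp
  have := (fun _ => trivial : _ → True) @Cfsg.Spor.Ly.a4.eq_1
  have := (fun _ => trivial : _ → True) @Cfsg.Spor.Ly.a4.eq_def
  have := (fun _ => trivial : _ → True) @Cfsg.Spor.Ly.a4.congr_simp
  have := (fun _ => trivial : _ → True) @Cfsg.Spor.Ly.d.eq_1
  have := (fun _ => trivial : _ → True) @Cfsg.Spor.Ly.d.eq_def
  have := (fun _ => trivial : _ → True) @Cfsg.Spor.Ly.d.congr_simp
  have := (fun _ => trivial : _ → True) @Cfsg.Spor.Ly.Gen.ctorElim.eq_1.{0}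
  have := (fun _ => trivial : _ → True) @Cfsg.Spor.Ly.Gen.ctorElim.eq_def.{0}
  have := (fun _ => trivial : _ → True) @Cfsg.Spor.Ly.Gen.ctorElim.congr_simp.{0}
  have := (fun _ => trivial : _ → True) @Cfsg.Spor.Ly.x365.eq_1
  have := (fun _ => trivial : _ → True) @Cfsg.Spor.Ly.x365.eq_def
  have := (fun _ => trivial : _ → True) @Cfsg.Spor.Ly.x365.congr_simp
  have := (fun _ => trivial : _ → True) @Cfsg.Spor.Ly.Gen.x25.elim.eq_1.{0}
  have := (fun _ => trivial : _ → True) @Cfsg.Spor.Ly.Gen.x25.elim.eq_def.{0}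
  have := (fun _ => trivial : _ → True) @Cfsg.Spor.Ly.Gen.x25.elim.congr_simp.{0}
  have := (fun _ => trivial : _ → True) @Cfsg.Spor.Ly.c2.eq_1
  have := (fun _ => trivial : _ → True) @Cfsg.Spor.Ly.c2.eq_def
  have := (fun _ => trivial : _ → True) @Cfsg.Spor.Ly.c2.congr_simp
  have := (fun _ => trivial : _ → True) @Cfsg.Spor.Ly.x369.eq_1
  have := (fun _ => trivial : _ → True) @Cfsg.Spor.Ly.x369.eq_def
  have := (fun _ => trivial : _ → True) @Cfsg.Spor.Ly.x369.congr_simp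
  have := (fun _ => trivial : _ → True) @Cfsg.Spor.Ly.Gen.c.elim.eq_1.{0}
  have := (fun _ => trivial : _ → True) @Cfsg.Spor.Ly.Gen.c.elim.eq_def.{0}
  have := (fun _ => trivial : _ → True) @Cfsg.Spor.Ly.Gen.c.elim.congr_simp.{0}
  have := (fun _ => trivial : _ → True) @Cfsg.Spor.Ly.a1.eq_1
  have := (fun _ => trivial : _ → True) @Cfsg.Spor.Ly.a1.eq_def
  have := (fun _ => trivial : _ → True) @Cfsg.Spor.Ly.a1.congr_simp
  have := (fun _ => trivial : _ → True) @Cfsg.Spor.Ly.x166.eq_1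
  have := (fun _ => trivial : _ → True) @Cfsg.Spor.Ly.x166.eq_def
  have := (fun _ => trivial : _ → True) @Cfsg.Spor.Ly.x166.congr_simp
  have := (fun _ => trivial : _ → True) @Cfsg.Spor.Ly.Gen.z.elim.eq_1.{0}
  have := (fun _ => trivial : _ → True) @Cfsg.Spor.Ly.Gen.z.elim.eq_def.{0}
  have := (fun _ => trivial : _ → True) @Cfsg.Spor.Ly.Gen.z.elim.congr_simp.{0}
  have := (fun _ => trivial : _ → True) @Cfsg.Spor.Ly.Gen.x129.elim.eq_1.{0}
  have := (fun _ => trivial : _ → True) @Cfsg.Spor.Ly.Gen.x129.elim.eq_def.{0}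
  have := (fun _ => trivial : _ → True) @Cfsg.Spor.Ly.Gen.x129.elim.congr_simp.{0}
  have := (fun _ => trivial : _ → True) @Cfsg.Spor.Ly.Gen.recOn.eq_1.{0}
  have := (fun _ => trivial : _ → True) @Cfsg.Spor.Ly.Gen.recOn.eq_def.{0}
  have := (fun _ => trivial : _ → True) @Cfsg.Spor.Ly.Gen.recOn.congr_simp.{0}
  have := (fun _ => trivial : _ → True) @Cfsg.Spor.Ly.Gen.c5.elim.eq_1.{0}
  have := (fun _ => trivial : _ → True) @Cfsg.Spor.Ly.Gen.c5.elim.eq_def.{0}
  have := (fun _ => trivial : _ → True) @Cfsg.Spor.Ly.Gen.c5.elim.congr_simp.{0}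
  have := (fun _ => trivial : _ → True) @Cfsg.Spor.Ly.x163.eq_1
  have := (fun _ => trivial : _ → True) @Cfsg.Spor.Ly.x163.eq_def
  have := (fun _ => trivial : _ → True) @Cfsg.Spor.Ly.x163.congr_simp
  have := (fun _ => trivial : _ → True) @Cfsg.Spor.Ly.a3.eq_1
  have := (fun _ => trivial : _ → True) @Cfsg.Spor.Ly.a3.eq_def
  have := (fun _ => trivial : _ → True) @Cfsg.Spor.Ly.a3.congr_simp
  have := (fun _ => trivial : _ → True) @Cfsg.Spor.Ly.instDecidableEqGen.eq_1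
  have := (fun _ => trivial : _ → True) @Cfsg.Spor.Ly.instDecidableEqGen.eq_def
  have := (fun _ => trivial : _ → True) @Cfsg.Spor.Ly.instDecidableEqGen.congr_simp
  have := (fun _ => trivial : _ → True) @Cfsg.Spor.Ly.Gen.x365.elim.eq_1.{0}
  have := (fun _ => trivial : _ → True) @Cfsg.Spor.Ly.Gen.x365.elim.eq_def.{0}
  have := (fun _ => trivial : _ → True) @Cfsg.Spor.Ly.Gen.x365.elim.congr_simp.{0}
  have := (fun _ => trivial : _ → True) @Cfsg.Spor.Ly.Gen.d.elim.eq_1.{0}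
  have := (fun _ => trivial : _ → True) @Cfsg.Spor.Ly.Gen.d.elim.eq_def.{0}
  have := (fun _ => trivial : _ → True) @Cfsg.Spor.Ly.Gen.d.elim.congr_simp.{0}
  have := (fun _ => trivial : _ → True) @Cfsg.Spor.Ly.x24.eq_1
  have := (fun _ => trivial : _ → True) @Cfsg.Spor.Ly.x24.eq_def
  have := (fun _ => trivial : _ → True) @Cfsg.Spor.Ly.x24.congr_simp
  have := (fun _ => trivial : _ → True) @Cfsg.Spor.Ly.Gen.x366.elim.eq_1.{0}
  have := (fun _ => trivial : _ → True) @Cfsg.Spor.Ly.Gen.x366.elim.eq_def.{0}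
  have := (fun _ => trivial : _ → True) @Cfsg.Spor.Ly.Gen.x366.elim.congr_simp.{0}
  have := (fun _ => trivial : _ → True) @Cfsg.Spor.Ly.x371.eq_1
  have := (fun _ => trivial : _ → True) @Cfsg.Spor.Ly.x371.eq_def
  have := (fun _ => trivial : _ → True) @Cfsg.Spor.Ly.x371.congr_simp
  have := (fun _ => trivial : _ → True) @Cfsg.Spor.Ly.c1.eq_1
  have := (fun _ => trivial : _ → True) @Cfsg.Spor.Ly.c1.eq_def
  have := (fun _ => trivial : _ → True) @Cfsg.Spor.Ly.c1.congr_simp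
  have := (fun _ => trivial : _ → True) @Cfsg.Spor.Ly.x162.eq_1
  have := (fun _ => trivial : _ → True) @Cfsg.Spor.Ly.x162.eq_def
  have := (fun _ => trivial : _ → True) @Cfsg.Spor.Ly.x162.congr_simp
  have := (fun _ => trivial : _ → True) @Cfsg.Spor.Ly.a2.eq_1
  have := (fun _ => trivial : _ → True) @Cfsg.Spor.Ly.a2.eq_def
  have := (fun _ => trivial : _ → True) @Cfsg.Spor.Ly.a2.congr_simp
  have := (fun _ => trivial : _ → True) @Cfsg.Spor.Ly.a.eq_1
  have := (fun _ => trivial : _ → True) @Cfsg.Spor.Ly.a.eq_def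
  have := (fun _ => trivial : _ → True) @Cfsg.Spor.Ly.a.congr_simp
  have := (fun _ => trivial : _ → True) @Cfsg.Spor.Ly.x168.eq_1
  have := (fun _ => trivial : _ → True) @Cfsg.Spor.Ly.x168.eq_def
  have := (fun _ => trivial : _ → True) @Cfsg.Spor.Ly.x168.congr_simp
  have := (fun _ => trivial : _ → True) @Cfsg.Spor.Ly.Gen.c4.elim.eq_1.{0}
  have := (fun _ => trivial : _ → True) @Cfsg.Spor.Ly.Gen.c4.elim.eq_def.{0}
  have := (fun _ => trivial : _ → True) @Cfsg.Spor.Ly.Gen.c4.elim.congr_simp.{0}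
  have := (fun _ => trivial : _ → True) @Cfsg.Spor.Ly.Gen.x29.elim.eq_1.{0}
  have := (fun _ => trivial : _ → True) @Cfsg.Spor.Ly.Gen.x29.elim.eq_def.{0}
  have := (fun _ => trivial : _ → True) @Cfsg.Spor.Ly.Gen.x29.elim.congr_simp.{0}
  have := (fun _ => trivial : _ → True) @Cfsg.Spor.Ly.x96.eq_1
  have := (fun _ => trivial : _ → True) @Cfsg.Spor.Ly.x96.eq_def
  have := (fun _ => trivial : _ → True) @Cfsg.Spor.Ly.x96.congr_simp
  have := (fun _ => trivial : _ → True) @Cfsg.Spor.Ly.Gen.x162.elim.eq_1.{0}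
  have := (fun _ => trivial : _ → True) @Cfsg.Spor.Ly.Gen.x162.elim.eq_def.{0}
  have := (fun _ => trivial : _ → True) @Cfsg.Spor.Ly.Gen.x162.elim.congr_simp.{0}
  have := (fun _ => trivial : _ → True) @Cfsg.Spor.Ly.x364.eq_1
  have := (fun _ => trivial : _ → True) @Cfsg.Spor.Ly.x364.eq_def
  have := (fun _ => trivial : _ → True) @Cfsg.Spor.Ly.x364.congr_simp
  have := (fun _ => trivial : _ → True) @Cfsg.Spor.Ly.e.eq_1
  have := (fun _ => trivial : _ → True) @Cfsg.Spor.Ly.e.eq_def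
  have := (fun _ => trivial : _ → True) @Cfsg.Spor.Ly.e.congr_simp
  have := (fun _ => trivial : _ → True) @Cfsg.Spor.Ly.Gen.x371.elim.eq_1.{0}
  have := (fun _ => trivial : _ → True) @Cfsg.Spor.Ly.Gen.x371.elim.eq_def.{0}
  have := (fun _ => trivial : _ → True) @Cfsg.Spor.Ly.Gen.x371.elim.congr_simp.{0}
  have := (fun _ => trivial : _ → True) @Cfsg.Spor.Ly.x368.eq_1
  have := (fun _ => trivial : _ → True) @Cfsg.Spor.Ly.x368.eq_def
  have := (fun _ => trivial : _ → True) @Cfsg.Spor.Ly.x368.congr_simp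
  have := (fun _ => trivial : _ → True) @Cfsg.Spor.Ly.Gen.a2.elim.eq_1.{0}
  have := (fun _ => trivial : _ → True) @Cfsg.Spor.Ly.Gen.a2.elim.eq_def.{0}
  have := (fun _ => trivial : _ → True) @Cfsg.Spor.Ly.Gen.a2.elim.congr_simp.{0}
  have := (fun _ => trivial : _ → True) @Cfsg.Spor.Ly.x169.eq_1
  have := (fun _ => trivial : _ → True) @Cfsg.Spor.Ly.x169.eq_def
  have := (fun _ => trivial : _ → True) @Cfsg.Spor.Ly.x169.congr_simp
  have := (fun _ => trivial : _ → True) @Cfsg.Spor.Ly.Gen.c1.elim.eq_1.{0}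
  have := (fun _ => trivial : _ → True) @Cfsg.Spor.Ly.Gen.c1.elim.eq_def.{0}
  have := (fun _ => trivial : _ → True) @Cfsg.Spor.Ly.Gen.c1.elim.congr_simp.{0}
  have := (fun _ => trivial : _ → True) @Cfsg.Spor.Ly.Gen.x164.elim.eq_1.{0}
  have := (fun _ => trivial : _ → True) @Cfsg.Spor.Ly.Gen.x164.elim.eq_def.{0}
  have := (fun _ => trivial : _ → True) @Cfsg.Spor.Ly.Gen.x164.elim.congr_simp.{0}
  have := (fun _ => trivial : _ → True) @Cfsg.Spor.Ly.x164.eq_1
  have := (fun _ => trivial : _ → True) @Cfsg.Spor.Ly.x164.eq_def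
  have := (fun _ => trivial : _ → True) @Cfsg.Spor.Ly.x164.congr_simp
  trivial
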