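import Cfsg.Prelude.Def_Spor_M
import Cfsg.Agent.Eq.Def_SporCoxeter

/-! Pre-generates on-demand lemmas for the definitions, so that importers share one copy. -/

theorem CfsgLib.Eq.Def_Spor_M.touch : True := by
  have := (fun _ => trivial : _ → True) @Cfsg.Spor.Bimonster.Gen.toCtorIdx.eq_1
  have := (fun _ => trivial : _ → True) @Cfsg.Spor.Bimonster.Gen.toCtorIdx.eq_def
  have := (fun _ => trivial : _ → True) @Cfsg.Spor.Bimonster.Gen.toCtorIdx.congr_simp
  have := (fun _ => trivial : _ → True) @Cfsg.Spor.Bimonster.Gen.casesOn.eq_1.{0}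
  have := (fun _ => trivial : _ → True) @Cfsg.Spor.Bimonster.Gen.casesOn.eq_def.{0}
  have := (fun _ => trivial : _ → True) @Cfsg.Spor.Bimonster.Gen.casesOn.congr_simp.{0}
  have := (fun _ => trivial : _ → True) @Cfsg.Spor.Bimonster.Gen.ofNat.eq_1
  have := (fun _ => trivial : _ → True) @Cfsg.Spor.Bimonster.Gen.ofNat.eq_def
  have := (fun _ => trivial : _ → True) @Cfsg.Spor.Bimonster.Gen.ofNat.congr_simp
  have := (fun _ => trivial : _ → True) @Cfsg.Spor.Monster.eq_1
  have := (fun _ => trivial : _ → True) @Cfsg.Spor.Monster.eq_def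
  have := (fun _ => trivial : _ → True) @Cfsg.Spor.Monster.congr_simp
  have := (fun _ => trivial : _ → True) @Cfsg.Spor.Bimonster.Gen.e3.elim.eq_1.{0}
  have := (fun _ => trivial : _ → True) @Cfsg.Spor.Bimonster.Gen.e3.elim.eq_def.{0}
  have := (fun _ => trivial : _ → True) @Cfsg.Spor.Bimonster.Gen.e3.elim.congr_simp.{0}
  have := (fun _ => trivial : _ → True) @Cfsg.Spor.Bimonster.Gen.b1.elim.eq_1.{0}
  have := (fun _ => trivial : _ → True) @Cfsg.Spor.Bimonster.Gen.b1.elim.eq_def.{0}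
  have := (fun _ => trivial : _ → True) @Cfsg.Spor.Bimonster.Gen.b1.elim.congr_simp.{0}
  have := (fun _ => trivial : _ → True) @Cfsg.Spor.Bimonster.e1.eq_1
  have := (fun _ => trivial : _ → True) @Cfsg.Spor.Bimonster.e1.eq_def
  have := (fun _ => trivial : _ → True) @Cfsg.Spor.Bimonster.e1.congr_simp
  have := (fun _ => trivial : _ → True) @Cfsg.Spor.Bimonster.instDecidableEqGen.eq_1
  have := (fun _ => trivial : _ → True) @Cfsg.Spor.Bimonster.instDecidableEqGen.eq_def
  have := (fun _ => trivial : _ → True) @Cfsg.Spor.Bimonster.instDecidableEqGen.congr_simp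
  have := (fun _ => trivial : _ → True) @Cfsg.Spor.Bimonster.b2.eq_1
  have := (fun _ => trivial : _ → True) @Cfsg.Spor.Bimonster.b2.eq_def
  have := (fun _ => trivial : _ → True) @Cfsg.Spor.Bimonster.b2.congr_simp
  have := (fun _ => trivial : _ → True) @Cfsg.Spor.Bimonster.Gen.f2.elim.eq_1.{0}
  have := (fun _ => trivial : _ → True) @Cfsg.Spor.Bimonster.Gen.f2.elim.eq_def.{0}
  have := (fun _ => trivial : _ → True) @Cfsg.Spor.Bimonster.Gen.f2.elim.congr_simp.{0}
  have := (fun _ => trivial : _ → True) @Cfsg.Spor.Bimonster.b3.eq_1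
  have := (fun _ => trivial : _ → True) @Cfsg.Spor.Bimonster.b3.eq_def
  have := (fun _ => trivial : _ → True) @Cfsg.Spor.Bimonster.b3.congr_simp
  have := (fun _ => trivial : _ → True) @Cfsg.Spor.Bimonster.Gen.c2.elim.eq_1.{0}
  have := (fun _ => trivial : _ → True) @Cfsg.Spor.Bimonster.Gen.c2.elim.eq_def.{0}
  have := (fun _ => trivial : _ → True) @Cfsg.Spor.Bimonster.Gen.c2.elim.congr_simp.{0}
  have := (fun _ => trivial : _ → True) @Cfsg.Spor.Bimonster.Gen.d2.elim.eq_1.{0}
  have := (fun _ => trivial : _ → True) @Cfsg.Spor.Bimonster.Gen.d2.elim.eq_def.{0}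
  have := (fun _ => trivial : _ → True) @Cfsg.Spor.Bimonster.Gen.d2.elim.congr_simp.{0}
  have := (fun _ => trivial : _ → True) @Cfsg.Spor.IsoM.eq_1.{0}
  have := (fun _ => trivial : _ → True) @Cfsg.Spor.IsoM.eq_def.{0}
  have := (fun _ => trivial : _ → True) @Cfsg.Spor.IsoM.congr_simp.{0}
  have := (fun _ => trivial : _ → True) @Cfsg.Spor.Bimonster.b1.eq_1
  have := (fun _ => trivial : _ → True) @Cfsg.Spor.Bimonster.b1.eq_def
  have := (fun _ => trivial : _ → True) @Cfsg.Spor.Bimonster.b1.congr_simp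
  have := (fun _ => trivial : _ → True) @Cfsg.Spor.Bimonster.e3.eq_1
  have := (fun _ => trivial : _ → True) @Cfsg.Spor.Bimonster.e3.eq_def
  have := (fun _ => trivial : _ → True) @Cfsg.Spor.Bimonster.e3.congr_simp
  have := (fun _ => trivial : _ → True) @Cfsg.Spor.Bimonster.Gen.a.elim.eq_1.{0}
  have := (fun _ => trivial : _ → True) @Cfsg.Spor.Bimonster.Gen.a.elim.eq_def.{0}
  have := (fun _ => trivial : _ → True) @Cfsg.Spor.Bimonster.Gen.a.elim.congr_simp.{0}
  have := (fun _ => trivial : _ → True) @Cfsg.Spor.Bimonster.Gen.f3.elim.eq_1.{0}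
  have := (fun _ => trivial : _ → True) @Cfsg.Spor.Bimonster.Gen.f3.elim.eq_def.{0}
  have := (fun _ => trivial : _ → True) @Cfsg.Spor.Bimonster.Gen.f3.elim.congr_simp.{0}
  have := (fun _ => trivial : _ → True) @Cfsg.Spor.Bimonster.f3.eq_1
  have := (fun _ => trivial : _ → True) @Cfsg.Spor.Bimonster.f3.eq_def
  have := (fun _ => trivial : _ → True) @Cfsg.Spor.Bimonster.f3.congr_simp
  have := (fun _ => trivial : _ → True) @Cfsg.Spor.Bimonster.eq_1
  have := (fun _ => trivial : _ → True) @Cfsg.Spor.Bimonster.eq_def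
  have := (fun _ => trivial : _ → True) @Cfsg.Spor.Bimonster.congr_simp
  have := (fun _ => trivial : _ → True) @Cfsg.Spor.Bimonster.Gen.b2.elim.eq_1.{0}
  have := (fun _ => trivial : _ → True) @Cfsg.Spor.Bimonster.Gen.b2.elim.eq_def.{0}
  have := (fun _ => trivial : _ → True) @Cfsg.Spor.Bimonster.Gen.b2.elim.congr_simp.{0}
  have := (fun _ => trivial : _ → True) @Cfsg.Spor.Bimonster.f1.eq_1
  have := (fun _ => trivial : _ → True) @Cfsg.Spor.Bimonster.f1.eq_def
  have := (fun _ => trivial : _ → True) @Cfsg.Spor.Bimonster.f1.congr_simp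
  have := (fun _ => trivial : _ → True) @Cfsg.Spor.Bimonster.e2.eq_1
  have := (fun _ => trivial : _ → True) @Cfsg.Spor.Bimonster.e2.eq_def
  have := (fun _ => trivial : _ → True) @Cfsg.Spor.Bimonster.e2.congr_simp
  have := (fun _ => trivial : _ → True) @Cfsg.Spor.Bimonster.c1.eq_1
  have := (fun _ => trivial : _ → True) @Cfsg.Spor.Bimonster.c1.eq_def
  have := (fun _ => trivial : _ → True) @Cfsg.Spor.Bimonster.c1.congr_simp
  have := (fun _ => trivial : _ → True) @Cfsg.Spor.Bimonster.a.eq_1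
  have := (fun _ => trivial : _ → True) @Cfsg.Spor.Bimonster.a.eq_def
  have := (fun _ => trivial : _ → True) @Cfsg.Spor.Bimonster.a.congr_simp
  have := (fun _ => trivial : _ → True) @Cfsg.Spor.Bimonster.edges.eq_1
  have := (fun _ => trivial : _ → True) @Cfsg.Spor.Bimonster.edges.eq_def
  have := (fun _ => trivial : _ → True) @Cfsg.Spor.Bimonster.edges.congr_simp
  have := (fun _ => trivial : _ → True) @Cfsg.Spor.Bimonster.extra.eq_1
  have := (fun _ => trivial : _ → True) @Cfsg.Spor.Bimonster.extra.eq_def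
  have := (fun _ => trivial : _ → True) @Cfsg.Spor.Bimonster.extra.congr_simp
  have := (fun _ => trivial : _ → True) @Cfsg.Spor.Bimonster.Gen.c1.elim.eq_1.{0}
  have := (fun _ => trivial : _ → True) @Cfsg.Spor.Bimonster.Gen.c1.elim.eq_def.{0}
  have := (fun _ => trivial : _ → True) @Cfsg.Spor.Bimonster.Gen.c1.elim.congr_simp.{0}
  have := (fun _ => trivial : _ → True) @Cfsg.Spor.Bimonster.Gen.e2.elim.eq_1.{0}
  have := (fun _ => trivial : _ → True) @Cfsg.Spor.Bimonster.Gen.e2.elim.eq_def.{0}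
  have := (fun _ => trivial : _ → True) @Cfsg.Spor.Bimonster.Gen.e2.elim.congr_simp.{0}
  have := (fun _ => trivial : _ → True) @Cfsg.Spor.Bimonster.Gen.recOn.eq_1.{0}
  have := (fun _ => trivial : _ → True) @Cfsg.Spor.Bimonster.Gen.recOn.eq_def.{0}
  have := (fun _ => trivial : _ → True) @Cfsg.Spor.Bimonster.Gen.recOn.congr_simp.{0}
  have := (fun _ => trivial : _ → True) @Cfsg.Spor.Bimonster.Gen.ctorElim.eq_1.{0}
  have := (fun _ => trivial : _ → True) @Cfsg.Spor.Bimonster.Gen.ctorElim.eq_def.{0}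
  have := (fun _ => trivial : _ → True) @Cfsg.Spor.Bimonster.Gen.ctorElim.congr_simp.{0}
  have := (fun _ => trivial : _ → True) @Cfsg.Spor.Bimonster.Gen.f1.elim.eq_1.{0}
  have := (fun _ => trivial : _ → True) @Cfsg.Spor.Bimonster.Gen.f1.elim.eq_def.{0}
  have := (fun _ => trivial : _ → True) @Cfsg.Spor.Bimonster.Gen.f1.elim.congr_simp.{0}
  have := (fun _ => trivial : _ → True) @Cfsg.Spor.Bimonster.d3.eq_1
  have := (fun _ => trivial : _ → True) @Cfsg.Spor.Bimonster.d3.eq_def
  have := (fun _ => trivial : _ → True) @Cfsg.Spor.Bimonster.d3.congr_simp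
  have := (fun _ => trivial : _ → True) @Cfsg.Spor.Bimonster.Gen.e1.elim.eq_1.{0}
  have := (fun _ => trivial : _ → True) @Cfsg.Spor.Bimonster.Gen.e1.elim.eq_def.{0}
  have := (fun _ => trivial : _ → True) @Cfsg.Spor.Bimonster.Gen.e1.elim.congr_simp.{0}
  have := (fun _ => trivial : _ → True) @Cfsg.Spor.Bimonster.Gen.b3.elim.eq_1.{0}
  have := (fun _ => trivial : _ → True) @Cfsg.Spor.Bimonster.Gen.b3.elim.eq_def.{0}
  have := (fun _ => trivial : _ → True) @Cfsg.Spor.Bimonster.Gen.b3.elim.congr_simp.{0}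
  have := (fun _ => trivial : _ → True) @Cfsg.Spor.Bimonster.f2.eq_1
  have := (fun _ => trivial : _ → True) @Cfsg.Spor.Bimonster.f2.eq_def
  have := (fun _ => trivial : _ → True) @Cfsg.Spor.Bimonster.f2.congr_simp
  have := (fun _ => trivial : _ → True) @Cfsg.Spor.Bimonster.Gen.d1.elim.eq_1.{0}
  have := (fun _ => trivial : _ → True) @Cfsg.Spor.Bimonster.Gen.d1.elim.eq_def.{0}
  have := (fun _ => trivial : _ → True) @Cfsg.Spor.Bimonster.Gen.d1.elim.congr_simp.{0}
  have := (fun _ => trivial : _ → True) @Cfsg.Spor.Bimonster.c3.eq_1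
  have := (fun _ => trivial : _ → True) @Cfsg.Spor.Bimonster.c3.eq_def
  have := (fun _ => trivial : _ → True) @Cfsg.Spor.Bimonster.c3.congr_simp
  have := (fun _ => trivial : _ → True) @Cfsg.Spor.Bimonster.d1.eq_1
  have := (fun _ => trivial : _ → True) @Cfsg.Spor.Bimonster.d1.eq_def
  have := (fun _ => trivial : _ → True) @Cfsg.Spor.Bimonster.d1.congr_simp
  have := (fun _ => trivial : _ → True) @Cfsg.Spor.Bimonster.Gen.c3.elim.eq_1.{0}
  have := (fun _ => trivial : _ → True) @Cfsg.Spor.Bimonster.Gen.c3.elim.eq_def.{0}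
  have := (fun _ => trivial : _ → True) @Cfsg.Spor.Bimonster.Gen.c3.elim.congr_simp.{0}
  have := (fun _ => trivial : _ → True) @Cfsg.Spor.Bimonster.Gen.d3.elim.eq_1.{0}
  have := (fun _ => trivial : _ → True) @Cfsg.Spor.Bimonster.Gen.d3.elim.eq_def.{0}
  have := (fun _ => trivial : _ → True) @Cfsg.Spor.Bimonster.Gen.d3.elim.congr_simp.{0}
  have := (fun _ => trivial : _ → True) @Cfsg.Spor.Bimonster.d2.eq_1
  have := (fun _ => trivial : _ → True) @Cfsg.Spor.Bimonster.d2.eq_def
  have := (fun _ => trivial : _ → True) @Cfsg.Spor.Bimonster.d2.congr_simp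
  have := (fun _ => trivial : _ → True) @Cfsg.Spor.Bimonster.Gen.ctorElimType.eq_1.{0}
  have := (fun _ => trivial : _ → True) @Cfsg.Spor.Bimonster.Gen.ctorElimType.eq_def.{0}
  have := (fun _ => trivial : _ → True) @Cfsg.Spor.Bimonster.Gen.ctorElimType.congr_simp.{0}
  have := (fun _ => trivial : _ → True) @Cfsg.Spor.Bimonster.c2.eq_1
  have := (fun _ => trivial : _ → True) @Cfsg.Spor.Bimonster.c2.eq_def
  have := (fun _ => trivial : _ → True) @Cfsg.Spor.Bimonster.c2.congr_simp
  trivial
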