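import Cfsg.Prelude.Def_Spor_ON
import Cfsg.Agent.Eq.Def_SporCoxeter

/-! Pre-generates on-demand lemmas for the definitions, so that importers share one copy. -/

theorem CfsgLib.Eq.Def_Spor_ON.touch : True := by
  have := (fun _ => trivial : _ → True) @Cfsg.Spor.ON.Gen.ctorElimType.eq_1.{0}
  have := (fun _ => trivial : _ → True) @Cfsg.Spor.ON.Gen.ctorElimType.eq_def.{0}
  have := (fun _ => trivial : _ → True) @Cfsg.Spor.ON.Gen.ctorElimType.congr_simp.{0}
  have := (fun _ => trivial : _ → True) @Cfsg.Spor.ON.Gen.d.elim.eq_1.{0}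
  have := (fun _ => trivial : _ → True) @Cfsg.Spor.ON.Gen.d.elim.eq_def.{0}
  have := (fun _ => trivial : _ → True) @Cfsg.Spor.ON.Gen.d.elim.congr_simp.{0}
  have := (fun _ => trivial : _ → True) @Cfsg.Spor.ON.Gen.casesOn.eq_1.{0}
  have := (fun _ => trivial : _ → True) @Cfsg.Spor.ON.Gen.casesOn.eq_def.{0}
  have := (fun _ => trivial : _ → True) @Cfsg.Spor.ON.Gen.casesOn.congr_simp.{0}
  have := (fun _ => trivial : _ → True) @Cfsg.Spor.ON.Gen.ofNat.eq_1
  have := (fun _ => trivial : _ → True) @Cfsg.Spor.ON.Gen.ofNat.eq_def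
  have := (fun _ => trivial : _ → True) @Cfsg.Spor.ON.Gen.ofNat.congr_simp
  have := (fun _ => trivial : _ → True) @Cfsg.Spor.ON.Gen.toCtorIdx.eq_1
  have := (fun _ => trivial : _ → True) @Cfsg.Spor.ON.Gen.toCtorIdx.eq_def
  have := (fun _ => trivial : _ → True) @Cfsg.Spor.ON.Gen.toCtorIdx.congr_simp
  have := (fun _ => trivial : _ → True) @Cfsg.Spor.ON.e.eq_1
  have := (fun _ => trivial : _ → True) @Cfsg.Spor.ON.e.eq_def
  have := (fun _ => trivial : _ → True) @Cfsg.Spor.ON.e.congr_simp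
  have := (fun _ => trivial : _ → True) @Cfsg.Spor.ON.g.eq_1
  have := (fun _ => trivial : _ → True) @Cfsg.Spor.ON.g.eq_def
  have := (fun _ => trivial : _ → True) @Cfsg.Spor.ON.g.congr_simp
  have := (fun _ => trivial : _ → True) @Cfsg.Spor.ON.edges.eq_1
  have := (fun _ => trivial : _ → True) @Cfsg.Spor.ON.edges.eq_def
  have := (fun _ => trivial : _ → True) @Cfsg.Spor.ON.edges.congr_simp
  have := (fun _ => trivial : _ → True) @Cfsg.Spor.ON.extra.eq_1
  have := (fun _ => trivial : _ → True) @Cfsg.Spor.ON.extra.eq_def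
  have := (fun _ => trivial : _ → True) @Cfsg.Spor.ON.extra.congr_simp
  have := (fun _ => trivial : _ → True) @Cfsg.Spor.IsoON.eq_1.{0}
  have := (fun _ => trivial : _ → True) @Cfsg.Spor.IsoON.eq_def.{0}
  have := (fun _ => trivial : _ → True) @Cfsg.Spor.IsoON.congr_simp.{0}
  have := (fun _ => trivial : _ → True) @Cfsg.Spor.ON.d.eq_1
  have := (fun _ => trivial : _ → True) @Cfsg.Spor.ON.d.eq_def
  have := (fun _ => trivial : _ → True) @Cfsg.Spor.ON.d.congr_simp
  have := (fun _ => trivial : _ → True) @Cfsg.Spor.ON.Gen.recOn.eq_1.{0}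
  have := (fun _ => trivial : _ → True) @Cfsg.Spor.ON.Gen.recOn.eq_def.{0}
  have := (fun _ => trivial : _ → True) @Cfsg.Spor.ON.Gen.recOn.congr_simp.{0}
  have := (fun _ => trivial : _ → True) @Cfsg.Spor.ON.Gen.b.elim.eq_1.{0}
  have := (fun _ => trivial : _ → True) @Cfsg.Spor.ON.Gen.b.elim.eq_def.{0}
  have := (fun _ => trivial : _ → True) @Cfsg.Spor.ON.Gen.b.elim.congr_simp.{0}
  have := (fun _ => trivial : _ → True) @Cfsg.Spor.ON.b.eq_1
  have := (fun _ => trivial : _ → True) @Cfsg.Spor.ON.b.eq_def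
  have := (fun _ => trivial : _ → True) @Cfsg.Spor.ON.b.congr_simp
  have := (fun _ => trivial : _ → True) @Cfsg.Spor.ON.Gen.e.elim.eq_1.{0}
  have := (fun _ => trivial : _ → True) @Cfsg.Spor.ON.Gen.e.elim.eq_def.{0}
  have := (fun _ => trivial : _ → True) @Cfsg.Spor.ON.Gen.e.elim.congr_simp.{0}
  have := (fun _ => trivial : _ → True) @Cfsg.Spor.ON.c.eq_1
  have := (fun _ => trivial : _ → True) @Cfsg.Spor.ON.c.eq_def
  have := (fun _ => trivial : _ → True) @Cfsg.Spor.ON.c.congr_simp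
  have := (fun _ => trivial : _ → True) @Cfsg.Spor.ON.f.eq_1
  have := (fun _ => trivial : _ → True) @Cfsg.Spor.ON.f.eq_def
  have := (fun _ => trivial : _ → True) @Cfsg.Spor.ON.f.congr_simp
  have := (fun _ => trivial : _ → True) @Cfsg.Spor.ON.Gen.g.elim.eq_1.{0}
  have := (fun _ => trivial : _ → True) @Cfsg.Spor.ON.Gen.g.elim.eq_def.{0}
  have := (fun _ => trivial : _ → True) @Cfsg.Spor.ON.Gen.g.elim.congr_simp.{0}
  have := (fun _ => trivial : _ → True) @Cfsg.Spor.ON.Gen.a.elim.eq_1.{0}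
  have := (fun _ => trivial : _ → True) @Cfsg.Spor.ON.Gen.a.elim.eq_def.{0}
  have := (fun _ => trivial : _ → True) @Cfsg.Spor.ON.Gen.a.elim.congr_simp.{0}
  have := (fun _ => trivial : _ → True) @Cfsg.Spor.ON.a.eq_1
  have := (fun _ => trivial : _ → True) @Cfsg.Spor.ON.a.eq_def
  have := (fun _ => trivial : _ → True) @Cfsg.Spor.ON.a.congr_simp
  have := (fun _ => trivial : _ → True) @Cfsg.Spor.ON.eq_1
  have := (fun _ => trivial : _ → True) @Cfsg.Spor.ON.eq_def
  have := (fun _ => trivial : _ → True) @Cfsg.Spor.ON.congr_simp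
  have := (fun _ => trivial : _ → True) @Cfsg.Spor.ON.Gen.f.elim.eq_1.{0}
  have := (fun _ => trivial : _ → True) @Cfsg.Spor.ON.Gen.f.elim.eq_def.{0}
  have := (fun _ => trivial : _ → True) @Cfsg.Spor.ON.Gen.f.elim.congr_simp.{0}
  have := (fun _ => trivial : _ → True) @Cfsg.Spor.ON.Gen.ctorElim.eq_1.{0}
  have := (fun _ => trivial : _ → True) @Cfsg.Spor.ON.Gen.ctorElim.eq_def.{0}
  have := (fun _ => trivial : _ → True) @Cfsg.Spor.ON.Gen.ctorElim.congr_simp.{0}
  have := (fun _ => trivial : _ → True) @Cfsg.Spor.ON.instDecidableEqGen.eq_1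
  have := (fun _ => trivial : _ → True) @Cfsg.Spor.ON.instDecidableEqGen.eq_def
  have := (fun _ => trivial : _ → True) @Cfsg.Spor.ON.instDecidableEqGen.congr_simp
  have := (fun _ => trivial : _ → True) @Cfsg.Spor.ON.Gen.c.elim.eq_1.{0}
  have := (fun _ => trivial : _ → True) @Cfsg.Spor.ON.Gen.c.elim.eq_def.{0}
  have := (fun _ => trivial : _ → True) @Cfsg.Spor.ON.Gen.c.elim.congr_simp.{0}
  trivial
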