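import Cfsg.Prelude.Def_Spor_Ru

/-! Pre-generates on-demand lemmas for the definitions, so that importers share one copy. -/

theorem CfsgLib.Eq.Def_Spor_Ru.touch : True := by
  have := (fun _ => trivial : _ → True) @Cfsg.Spor.ruRk.eq_1
  have := (fun _ => trivial : _ → True) @Cfsg.Spor.ruRk.eq_def
  have := (fun _ => trivial : _ → True) @Cfsg.Spor.ruRk.congr_simp
  have := (fun _ => trivial : _ → True) @Cfsg.Spor.RuIdx.eq_1
  have := (fun _ => trivial : _ → True) @Cfsg.Spor.RuIdx.eq_def
  have := (fun _ => trivial : _ → True) @Cfsg.Spor.RuIdx.congr_simp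
  have := (fun _ => trivial : _ → True) @Cfsg.Spor.Ru.eq_1
  have := (fun _ => trivial : _ → True) @Cfsg.Spor.Ru.eq_def
  have := (fun _ => trivial : _ → True) @Cfsg.Spor.Ru.congr_simp
  have := (fun _ => trivial : _ → True) @Cfsg.Spor.ruOfArray.eq_1
  have := (fun _ => trivial : _ → True) @Cfsg.Spor.ruOfArray.eq_def
  have := (fun _ => trivial : _ → True) @Cfsg.Spor.ruOfArray.congr_simp
  have := (fun _ => trivial : _ → True) @Cfsg.Spor.ruLattice.eq_1
  have := (fun _ => trivial : _ → True) @Cfsg.Spor.ruLattice.eq_def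
  have := (fun _ => trivial : _ → True) @Cfsg.Spor.ruLattice.congr_simp
  have := (fun _ => trivial : _ → True) @Cfsg.Spor.RuVec.eq_1
  have := (fun _ => trivial : _ → True) @Cfsg.Spor.RuVec.eq_def
  have := (fun _ => trivial : _ → True) @Cfsg.Spor.RuVec.congr_simp
  have := (fun _ => trivial : _ → True) @Cfsg.Spor.ruSign.eq_1
  have := (fun _ => trivial : _ → True) @Cfsg.Spor.ruSign.eq_def
  have := (fun _ => trivial : _ → True) @Cfsg.Spor.ruSign.congr_simp
  have := (fun _ => trivial : _ → True) @Cfsg.Spor.ruTable.eq_1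
  have := (fun _ => trivial : _ → True) @Cfsg.Spor.ruTable.eq_def
  have := (fun _ => trivial : _ → True) @Cfsg.Spor.ruTable.congr_simp
  have := (fun _ => trivial : _ → True) @Cfsg.Spor.ruNorm.eq_1
  have := (fun _ => trivial : _ → True) @Cfsg.Spor.ruNorm.eq_def
  have := (fun _ => trivial : _ → True) @Cfsg.Spor.ruNorm.congr_simp
  have := (fun _ => trivial : _ → True) @Cfsg.Spor.ruRj.eq_1
  have := (fun _ => trivial : _ → True) @Cfsg.Spor.ruRj.eq_def
  have := (fun _ => trivial : _ → True) @Cfsg.Spor.ruRj.congr_simp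
  have := (fun _ => trivial : _ → True) @Cfsg.Spor.fourRu.eq_1
  have := (fun _ => trivial : _ → True) @Cfsg.Spor.fourRu.eq_def
  have := (fun _ => trivial : _ → True) @Cfsg.Spor.fourRu.congr_simp
  have := (fun _ => trivial : _ → True) @Cfsg.Spor.ruI.eq_1
  have := (fun _ => trivial : _ → True) @Cfsg.Spor.ruI.eq_def
  have := (fun _ => trivial : _ → True) @Cfsg.Spor.ruI.congr_simp
  have := (fun _ => trivial : _ → True) @Cfsg.Spor.ruShift.eq_1
  have := (fun _ => trivial : _ → True) @Cfsg.Spor.ruShift.eq_def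
  have := (fun _ => trivial : _ → True) @Cfsg.Spor.ruShift.congr_simp
  have := (fun _ => trivial : _ → True) @Cfsg.Spor.ruClosed.eq_1
  have := (fun _ => trivial : _ → True) @Cfsg.Spor.ruClosed.eq_def
  have := (fun _ => trivial : _ → True) @Cfsg.Spor.ruClosed.congr_simp
  have := (fun _ => trivial : _ → True) @Cfsg.Spor.IsoRu.eq_1.{0}
  have := (fun _ => trivial : _ → True) @Cfsg.Spor.IsoRu.eq_def.{0}
  have := (fun _ => trivial : _ → True) @Cfsg.Spor.IsoRu.congr_simp.{0}
  have := (fun _ => trivial : _ → True) @Cfsg.Spor.gI.eq_1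
  have := (fun _ => trivial : _ → True) @Cfsg.Spor.gI.eq_def
  have := (fun _ => trivial : _ → True) @Cfsg.Spor.gI.congr_simp
  trivial
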