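import Cfsg.Prelude.Def_Spor_Th
import Cfsg.Agent.Eq.Def_SporCoxeter

/-! Pre-generates on-demand lemmas for the definitions, so that importers share one copy. -/

theorem CfsgLib.Eq.Def_Spor_Th.touch : True := by
  have := (fun _ => trivial : _ → True) @Cfsg.Spor.Th.u.eq_1
  have := (fun _ => trivial : _ → True) @Cfsg.Spor.Th.u.eq_def
  have := (fun _ => trivial : _ → True) @Cfsg.Spor.Th.u.congr_simp
  have := (fun _ => trivial : _ → True) @Cfsg.Spor.Th.Gen.t.elim.eq_1.{0}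
  have := (fun _ => trivial : _ → True) @Cfsg.Spor.Th.Gen.t.elim.eq_def.{0}
  have := (fun _ => trivial : _ → True) @Cfsg.Spor.Th.Gen.t.elim.congr_simp.{0}
  have := (fun _ => trivial : _ → True) @Cfsg.Spor.Th.t.eq_1
  have := (fun _ => trivial : _ → True) @Cfsg.Spor.Th.t.eq_def
  have := (fun _ => trivial : _ → True) @Cfsg.Spor.Th.t.congr_simp
  have := (fun _ => trivial : _ → True) @Cfsg.Spor.Th.Gen.c.elim.eq_1.{0}
  have := (fun _ => trivial : _ → True) @Cfsg.Spor.Th.Gen.c.elim.eq_def.{0}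
  have := (fun _ => trivial : _ → True) @Cfsg.Spor.Th.Gen.c.elim.congr_simp.{0}
  have := (fun _ => trivial : _ → True) @Cfsg.Spor.Th.Gen.ctorElim.eq_1.{0}
  have := (fun _ => trivial : _ → True) @Cfsg.Spor.Th.Gen.ctorElim.eq_def.{0}
  have := (fun _ => trivial : _ → True) @Cfsg.Spor.Th.Gen.ctorElim.congr_simp.{0}
  have := (fun _ => trivial : _ → True) @Cfsg.Spor.Th.Gen.u.elim.eq_1.{0}
  have := (fun _ => trivial : _ → True) @Cfsg.Spor.Th.Gen.u.elim.eq_def.{0}
  have := (fun _ => trivial : _ → True) @Cfsg.Spor.Th.Gen.u.elim.congr_simp.{0}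
  have := (fun _ => trivial : _ → True) @Cfsg.Spor.Th.Gen.recOn.eq_1.{0}
  have := (fun _ => trivial : _ → True) @Cfsg.Spor.Th.Gen.recOn.eq_def.{0}
  have := (fun _ => trivial : _ → True) @Cfsg.Spor.Th.Gen.recOn.congr_simp.{0}
  have := (fun _ => trivial : _ → True) @Cfsg.Spor.Th.a.eq_1
  have := (fun _ => trivial : _ → True) @Cfsg.Spor.Th.a.eq_def
  have := (fun _ => trivial : _ → True) @Cfsg.Spor.Th.a.congr_simp
  have := (fun _ => trivial : _ → True) @Cfsg.Spor.Th.d.eq_1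
  have := (fun _ => trivial : _ → True) @Cfsg.Spor.Th.d.eq_def
  have := (fun _ => trivial : _ → True) @Cfsg.Spor.Th.d.congr_simp
  have := (fun _ => trivial : _ → True) @Cfsg.Spor.Th.instDecidableEqGen.eq_1
  have := (fun _ => trivial : _ → True) @Cfsg.Spor.Th.instDecidableEqGen.eq_def
  have := (fun _ => trivial : _ → True) @Cfsg.Spor.Th.instDecidableEqGen.congr_simp
  have := (fun _ => trivial : _ → True) @Cfsg.Spor.Th.eq_1
  have := (fun _ => trivial : _ → True) @Cfsg.Spor.Th.eq_def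
  have := (fun _ => trivial : _ → True) @Cfsg.Spor.Th.congr_simp
  have := (fun _ => trivial : _ → True) @Cfsg.Spor.Th.Gen.e.elim.eq_1.{0}
  have := (fun _ => trivial : _ → True) @Cfsg.Spor.Th.Gen.e.elim.eq_def.{0}
  have := (fun _ => trivial : _ → True) @Cfsg.Spor.Th.Gen.e.elim.congr_simp.{0}
  have := (fun _ => trivial : _ → True) @Cfsg.Spor.IsoTh.eq_1.{0}
  have := (fun _ => trivial : _ → True) @Cfsg.Spor.IsoTh.eq_def.{0}
  have := (fun _ => trivial : _ → True) @Cfsg.Spor.IsoTh.congr_simp.{0}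
  have := (fun _ => trivial : _ → True) @Cfsg.Spor.Th.Gen.s.elim.eq_1.{0}
  have := (fun _ => trivial : _ → True) @Cfsg.Spor.Th.Gen.s.elim.eq_def.{0}
  have := (fun _ => trivial : _ → True) @Cfsg.Spor.Th.Gen.s.elim.congr_simp.{0}
  have := (fun _ => trivial : _ → True) @Cfsg.Spor.Th.s.eq_1
  have := (fun _ => trivial : _ → True) @Cfsg.Spor.Th.s.eq_def
  have := (fun _ => trivial : _ → True) @Cfsg.Spor.Th.s.congr_simp
  have := (fun _ => trivial : _ → True) @Cfsg.Spor.Th.e.eq_1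
  have := (fun _ => trivial : _ → True) @Cfsg.Spor.Th.e.eq_def
  have := (fun _ => trivial : _ → True) @Cfsg.Spor.Th.e.congr_simp
  have := (fun _ => trivial : _ → True) @Cfsg.Spor.Th.Gen.a.elim.eq_1.{0}
  have := (fun _ => trivial : _ → True) @Cfsg.Spor.Th.Gen.a.elim.eq_def.{0}
  have := (fun _ => trivial : _ → True) @Cfsg.Spor.Th.Gen.a.elim.congr_simp.{0}
  have := (fun _ => trivial : _ → True) @Cfsg.Spor.Th.c.eq_1
  have := (fun _ => trivial : _ → True) @Cfsg.Spor.Th.c.eq_def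
  have := (fun _ => trivial : _ → True) @Cfsg.Spor.Th.c.congr_simp
  have := (fun _ => trivial : _ → True) @Cfsg.Spor.Th.Gen.casesOn.eq_1.{0}
  have := (fun _ => trivial : _ → True) @Cfsg.Spor.Th.Gen.casesOn.eq_def.{0}
  have := (fun _ => trivial : _ → True) @Cfsg.Spor.Th.Gen.casesOn.congr_simp.{0}
  have := (fun _ => trivial : _ → True) @Cfsg.Spor.Th.Gen.toCtorIdx.eq_1
  have := (fun _ => trivial : _ → True) @Cfsg.Spor.Th.Gen.toCtorIdx.eq_def
  have := (fun _ => trivial : _ → True) @Cfsg.Spor.Th.Gen.toCtorIdx.congr_simp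
  have := (fun _ => trivial : _ → True) @Cfsg.Spor.Th.Gen.ofNat.eq_1
  have := (fun _ => trivial : _ → True) @Cfsg.Spor.Th.Gen.ofNat.eq_def
  have := (fun _ => trivial : _ → True) @Cfsg.Spor.Th.Gen.ofNat.congr_simp
  have := (fun _ => trivial : _ → True) @Cfsg.Spor.Th.edges.eq_1
  have := (fun _ => trivial : _ → True) @Cfsg.Spor.Th.edges.eq_def
  have := (fun _ => trivial : _ → True) @Cfsg.Spor.Th.edges.congr_simp
  have := (fun _ => trivial : _ → True) @Cfsg.Spor.Th.extra.eq_1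
  have := (fun _ => trivial : _ → True) @Cfsg.Spor.Th.extra.eq_def
  have := (fun _ => trivial : _ → True) @Cfsg.Spor.Th.extra.congr_simp
  have := (fun _ => trivial : _ → True) @Cfsg.Spor.Th.Gen.d.elim.eq_1.{0}
  have := (fun _ => trivial : _ → True) @Cfsg.Spor.Th.Gen.d.elim.eq_def.{0}
  have := (fun _ => trivial : _ → True) @Cfsg.Spor.Th.Gen.d.elim.congr_simp.{0}
  have := (fun _ => trivial : _ → True) @Cfsg.Spor.Th.Gen.ctorElimType.eq_1.{0}
  have := (fun _ => trivial : _ → True) @Cfsg.Spor.Th.Gen.ctorElimType.eq_def.{0}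
  have := (fun _ => trivial : _ → True) @Cfsg.Spor.Th.Gen.ctorElimType.congr_simp.{0}
  have := (fun _ => trivial : _ → True) @Cfsg.Spor.Th.Gen.b.elim.eq_1.{0}
  have := (fun _ => trivial : _ → True) @Cfsg.Spor.Th.Gen.b.elim.eq_def.{0}
  have := (fun _ => trivial : _ → True) @Cfsg.Spor.Th.Gen.b.elim.congr_simp.{0}
  have := (fun _ => trivial : _ → True) @Cfsg.Spor.Th.b.eq_1
  have := (fun _ => trivial : _ → True) @Cfsg.Spor.Th.b.eq_def
  have := (fun _ => trivial : _ → True) @Cfsg.Spor.Th.b.congr_simp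
  trivial
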