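import Cfsg.Prelude.Def_EvenType
import Cfsg.Agent.Eq.Def_ClassificationK
import Cfsg.Agent.Eq.Def_Classification2
import Cfsg.Agent.Eq.Def_LieTypeChar
import Cfsg.Agent.Eq.Def_Involutions
import Cfsg.Agent.Eq.Def_TwoFusion
import Cfsg.Agent.Eq.Def_SporadicB

/-! Pre-generates on-demand lemmas for the definitions, so that importers share one copy. -/

theorem CfsgLib.Eq.Def_EvenType.touch : True := by
  have := (fun _ => trivial : _ → True) @Cfsg.IsPUniquenessSubgroup.eq_1.{0}
  have := (fun _ => trivial : _ → True) @Cfsg.IsPUniquenessSubgroup.eq_def.{0}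
  have := (fun _ => trivial : _ → True) @Cfsg.IsPUniquenessSubgroup.congr_simp.{0}
  have := (fun _ => trivial : _ → True) @Cfsg.IsFM9.eq_1
  have := (fun _ => trivial : _ → True) @Cfsg.IsFM9.eq_def
  have := (fun _ => trivial : _ → True) @Cfsg.IsFM9.congr_simp
  have := (fun _ => trivial : _ → True) @Cfsg.IsChevSimple.eq_1.{0}
  have := (fun _ => trivial : _ → True) @Cfsg.IsChevSimple.eq_def.{0}
  have := (fun _ => trivial : _ → True) @Cfsg.IsChevSimple.congr_simp.{0}
  have := (fun _ => trivial : _ → True) @Cfsg.IsCFiveListed.eq_1.{0}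
  have := (fun _ => trivial : _ → True) @Cfsg.IsCFiveListed.eq_def.{0}
  have := (fun _ => trivial : _ → True) @Cfsg.IsCFiveListed.congr_simp.{0}
  have := (fun _ => trivial : _ → True) @Cfsg.PRankAtLeast.eq_1.{0}
  have := (fun _ => trivial : _ → True) @Cfsg.PRankAtLeast.eq_def.{0}
  have := (fun _ => trivial : _ → True) @Cfsg.PRankAtLeast.congr_simp.{0}
  have := (fun _ => trivial : _ → True) @Cfsg.IsTerminalPair.eq_1.{0}
  have := (fun _ => trivial : _ → True) @Cfsg.IsTerminalPair.eq_def.{0}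
  have := (fun _ => trivial : _ → True) @Cfsg.IsTerminalPair.congr_simp.{0}
  have := (fun _ => trivial : _ → True) @Cfsg.ControlsStrongFusionOf.eq_1.{0}
  have := (fun _ => trivial : _ → True) @Cfsg.ControlsStrongFusionOf.eq_def.{0}
  have := (fun _ => trivial : _ → True) @Cfsg.ControlsStrongFusionOf.congr_simp.{0}
  have := (fun _ => trivial : _ → True) @Cfsg.IsStandardWrt.eq_1.{0}
  have := (fun _ => trivial : _ → True) @Cfsg.IsStandardWrt.eq_def.{0}
  have := (fun _ => trivial : _ → True) @Cfsg.IsStandardWrt.congr_simp.{0}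
  have := (fun _ => trivial : _ → True) @Cfsg.IsTwoUniquenessSubgroup.eq_1.{0}
  have := (fun _ => trivial : _ → True) @Cfsg.IsTwoUniquenessSubgroup.eq_def.{0}
  have := (fun _ => trivial : _ → True) @Cfsg.IsTwoUniquenessSubgroup.congr_simp.{0}
  have := (fun _ => trivial : _ → True) @Cfsg.InducesUnitaryTypeAut.eq_1.{0}
  have := (fun _ => trivial : _ → True) @Cfsg.InducesUnitaryTypeAut.eq_def.{0}
  have := (fun _ => trivial : _ → True) @Cfsg.InducesUnitaryTypeAut.congr_simp.{0}
  have := (fun _ => trivial : _ → True) @Cfsg.IsStronglyZEmbedded.eq_1.{0}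
  have := (fun _ => trivial : _ → True) @Cfsg.IsStronglyZEmbedded.eq_def.{0}
  have := (fun _ => trivial : _ → True) @Cfsg.IsStronglyZEmbedded.congr_simp.{0}
  have := (fun _ => trivial : _ → True) @Cfsg.IsCThreeListed.eq_1.{0}
  have := (fun _ => trivial : _ → True) @Cfsg.IsCThreeListed.eq_def.{0}
  have := (fun _ => trivial : _ → True) @Cfsg.IsCThreeListed.congr_simp.{0}
  have := (fun _ => trivial : _ → True) @Cfsg.IsStronglyPEmbedded.eq_1.{0}
  have := (fun _ => trivial : _ → True) @Cfsg.IsStronglyPEmbedded.eq_def.{0}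
  have := (fun _ => trivial : _ → True) @Cfsg.IsStronglyPEmbedded.congr_simp.{0}
  have := (fun _ => trivial : _ → True) @Cfsg.sigmaSet.eq_1.{0}
  have := (fun _ => trivial : _ → True) @Cfsg.sigmaSet.eq_def.{0}
  have := (fun _ => trivial : _ → True) @Cfsg.sigmaSet.congr_simp.{0}
  have := (fun _ => trivial : _ → True) @Cfsg.IsCpSimple.eq_1.{0}
  have := (fun _ => trivial : _ → True) @Cfsg.IsCpSimple.eq_def.{0}
  have := (fun _ => trivial : _ → True) @Cfsg.IsCpSimple.congr_simp.{0}
  have := (fun _ => trivial : _ → True) @Cfsg.InChev.eq_1.{0}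
  have := (fun _ => trivial : _ → True) @Cfsg.InChev.eq_def.{0}
  have := (fun _ => trivial : _ → True) @Cfsg.InChev.congr_simp.{0}
  have := (fun _ => trivial : _ → True) @Cfsg.IsOfQuasithinType.eq_1.{0}
  have := (fun _ => trivial : _ → True) @Cfsg.IsOfQuasithinType.eq_def.{0}
  have := (fun _ => trivial : _ → True) @Cfsg.IsOfQuasithinType.congr_simp.{0}
  have := (fun _ => trivial : _ → True) @Cfsg.maxTwoLocalsNear.eq_1.{0}
  have := (fun _ => trivial : _ → True) @Cfsg.maxTwoLocalsNear.eq_def.{0}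
  have := (fun _ => trivial : _ → True) @Cfsg.maxTwoLocalsNear.congr_simp.{0}
  have := (fun _ => trivial : _ → True) @Cfsg.IsComponentOf.eq_1.{0}
  have := (fun _ => trivial : _ → True) @Cfsg.IsComponentOf.eq_def.{0}
  have := (fun _ => trivial : _ → True) @Cfsg.IsComponentOf.congr_simp.{0}
  have := (fun _ => trivial : _ → True) @Cfsg.ControlsFusion.eq_1.{0}
  have := (fun _ => trivial : _ → True) @Cfsg.ControlsFusion.eq_def.{0}
  have := (fun _ => trivial : _ → True) @Cfsg.ControlsFusion.congr_simp.{0}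
  have := (fun _ => trivial : _ → True) @Cfsg.IsCTwoListed.eq_1.{0}
  have := (fun _ => trivial : _ → True) @Cfsg.IsCTwoListed.eq_def.{0}
  have := (fun _ => trivial : _ → True) @Cfsg.IsCTwoListed.congr_simp.{0}
  have := (fun _ => trivial : _ → True) @Cfsg.LpoAll.eq_1.{0}
  have := (fun _ => trivial : _ → True) @Cfsg.LpoAll.eq_def.{0}
  have := (fun _ => trivial : _ → True) @Cfsg.LpoAll.congr_simp.{0}
  have := (fun _ => trivial : _ → True) @Cfsg.InC.eq_1.{0}
  have := (fun _ => trivial : _ → True) @Cfsg.InC.eq_def.{0}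
  have := (fun _ => trivial : _ → True) @Cfsg.InC.congr_simp.{0}
  have := (fun _ => trivial : _ → True) @Cfsg.fixedSubgroup.eq_1.{0}
  have := (fun _ => trivial : _ → True) @Cfsg.fixedSubgroup.eq_def.{0}
  have := (fun _ => trivial : _ → True) @Cfsg.fixedSubgroup.congr_simp.{0}
  have := (fun _ => trivial : _ → True) @Cfsg.maxTwoLocalsOver.eq_1.{0}
  have := (fun _ => trivial : _ → True) @Cfsg.maxTwoLocalsOver.eq_def.{0}
  have := (fun _ => trivial : _ → True) @Cfsg.maxTwoLocalsOver.congr_simp.{0}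
  have := (fun _ => trivial : _ → True) @Cfsg.IsPreuniquenessSubgroup.eq_1.{0}
  have := (fun _ => trivial : _ → True) @Cfsg.IsPreuniquenessSubgroup.eq_def.{0}
  have := (fun _ => trivial : _ → True) @Cfsg.IsPreuniquenessSubgroup.congr_simp.{0}
  have := (fun _ => trivial : _ → True) @Cfsg.IsCpException.eq_1.{0}
  have := (fun _ => trivial : _ → True) @Cfsg.IsCpException.eq_def.{0}
  have := (fun _ => trivial : _ → True) @Cfsg.IsCpException.congr_simp.{0}
  have := (fun _ => trivial : _ → True) @Cfsg.IsOfEvenType.eq_1.{0}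
  have := (fun _ => trivial : _ → True) @Cfsg.IsOfEvenType.eq_def.{0}
  have := (fun _ => trivial : _ → True) @Cfsg.IsOfEvenType.congr_simp.{0}
  have := (fun _ => trivial : _ → True) @Cfsg.gammaTwoCirc.eq_1.{0}
  have := (fun _ => trivial : _ → True) @Cfsg.gammaTwoCirc.eq_def.{0}
  have := (fun _ => trivial : _ → True) @Cfsg.gammaTwoCirc.congr_simp.{0}
  have := (fun _ => trivial : _ → True) @Cfsg.LpAll.eq_1.{0}
  have := (fun _ => trivial : _ → True) @Cfsg.LpAll.eq_def.{0}
  have := (fun _ => trivial : _ → True) @Cfsg.LpAll.congr_simp.{0}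
  have := (fun _ => trivial : _ → True) @Cfsg.IsOfRestrictedEvenType.eq_1.{0}
  have := (fun _ => trivial : _ → True) @Cfsg.IsOfRestrictedEvenType.eq_def.{0}
  have := (fun _ => trivial : _ → True) @Cfsg.IsOfRestrictedEvenType.congr_simp.{0}
  trivial
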