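import Cfsg.Prelude.Def_OddOrderLocal
import Cfsg.Agent.Eq.Def_Solvable
import Cfsg.Agent.Eq.Def_CaseTheorems
import Cfsg.Agent.Eq.Def_OddOrder
import Cfsg.Agent.Eq.Def_Transfer

/-! Pre-generates on-demand lemmas for the definitions, so that importers share one copy. -/

theorem CfsgLib.Eq.Def_OddOrderLocal.touch : True := by
  have := (fun _ => trivial : _ → True) @Cfsg.puigSubgroup.eq_1.{0}
  have := (fun _ => trivial : _ → True) @Cfsg.puigSubgroup.eq_def.{0}
  have := (fun _ => trivial : _ → True) @Cfsg.puigSubgroup.congr_simp.{0}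
  have := (fun _ => trivial : _ → True) @Cfsg.tau1.eq_1.{0}
  have := (fun _ => trivial : _ → True) @Cfsg.tau1.eq_def.{0}
  have := (fun _ => trivial : _ → True) @Cfsg.tau1.congr_simp.{0}
  have := (fun _ => trivial : _ → True) @Cfsg.IsThreeStepGroup.eq_1.{0}
  have := (fun _ => trivial : _ → True) @Cfsg.IsThreeStepGroup.eq_def.{0}
  have := (fun _ => trivial : _ → True) @Cfsg.IsThreeStepGroup.congr_simp.{0}
  have := (fun _ => trivial : _ → True) @Cfsg.IsPiHallOf.eq_1.{0}
  have := (fun _ => trivial : _ → True) @Cfsg.IsPiHallOf.eq_def.{0}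
  have := (fun _ => trivial : _ → True) @Cfsg.IsPiHallOf.congr_simp.{0}
  have := (fun _ => trivial : _ → True) @Cfsg.IsComplIn.eq_1.{0}
  have := (fun _ => trivial : _ → True) @Cfsg.IsComplIn.eq_def.{0}
  have := (fun _ => trivial : _ → True) @Cfsg.IsComplIn.congr_simp.{0}
  have := (fun _ => trivial : _ → True) @Cfsg.supportR.eq_1.{0}
  have := (fun _ => trivial : _ → True) @Cfsg.supportR.eq_def.{0}
  have := (fun _ => trivial : _ → True) @Cfsg.supportR.congr_simp.{0}
  have := (fun _ => trivial : _ → True) @Cfsg.RankLE.eq_1.{0}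
  have := (fun _ => trivial : _ → True) @Cfsg.RankLE.eq_def.{0}
  have := (fun _ => trivial : _ → True) @Cfsg.RankLE.congr_simp.{0}
  have := (fun _ => trivial : _ → True) @Cfsg.IsOfTypeIV.eq_1.{0}
  have := (fun _ => trivial : _ → True) @Cfsg.IsOfTypeIV.eq_def.{0}
  have := (fun _ => trivial : _ → True) @Cfsg.IsOfTypeIV.congr_simp.{0}
  have := (fun _ => trivial : _ → True) @Cfsg.alphaCore.eq_1.{0}
  have := (fun _ => trivial : _ → True) @Cfsg.alphaCore.eq_def.{0}
  have := (fun _ => trivial : _ → True) @Cfsg.alphaCore.congr_simp.{0}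
  have := (fun _ => trivial : _ → True) @Cfsg.puigSeq.eq_1.{0}
  have := (fun _ => trivial : _ → True) @Cfsg.puigSeq.eq_2.{0}
  have := (fun _ => trivial : _ → True) @Cfsg.puigSeq.eq_def.{0}
  have := (fun _ => trivial : _ → True) @Cfsg.puigSeq.congr_simp.{0}
  have := (fun _ => trivial : _ → True) @Cfsg.puigSeq.induct
  have := (fun _ => trivial : _ → True) @Cfsg.puigSeq.fun_cases
  have := (fun _ => trivial : _ → True) @Cfsg.puigSeq.induct_unfolding.{0}
  have := (fun _ => trivial : _ → True) @Cfsg.puigSeq.fun_cases_unfolding.{0}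
  have := (fun _ => trivial : _ → True) @Cfsg.kappa.eq_1.{0}
  have := (fun _ => trivial : _ → True) @Cfsg.kappa.eq_def.{0}
  have := (fun _ => trivial : _ → True) @Cfsg.kappa.congr_simp.{0}
  have := (fun _ => trivial : _ → True) @Cfsg.sigmaHat.eq_1.{0}
  have := (fun _ => trivial : _ → True) @Cfsg.sigmaHat.eq_def.{0}
  have := (fun _ => trivial : _ → True) @Cfsg.sigmaHat.congr_simp.{0}
  have := (fun _ => trivial : _ → True) @Cfsg.IsSigmaDecomposition.casesOn.eq_1.{0,0}
  have := (fun _ => trivial : _ → True) @Cfsg.IsSigmaDecomposition.casesOn.eq_def.{0,0}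
  have := (fun _ => trivial : _ → True) @Cfsg.IsSigmaDecomposition.casesOn.congr_simp.{0,0}
  have := (fun _ => trivial : _ → True) @Cfsg.IsOfTypeP.eq_1.{0}
  have := (fun _ => trivial : _ → True) @Cfsg.IsOfTypeP.eq_def.{0}
  have := (fun _ => trivial : _ → True) @Cfsg.IsOfTypeP.congr_simp.{0}
  have := (fun _ => trivial : _ → True) @Cfsg.puigStep.eq_1.{0}
  have := (fun _ => trivial : _ → True) @Cfsg.puigStep.eq_def.{0}
  have := (fun _ => trivial : _ → True) @Cfsg.puigStep.congr_simp.{0}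
  have := (fun _ => trivial : _ → True) @Cfsg.typeCore.eq_1.{0}
  have := (fun _ => trivial : _ → True) @Cfsg.typeCore.eq_def.{0}
  have := (fun _ => trivial : _ → True) @Cfsg.typeCore.congr_simp.{0}
  have := (fun _ => trivial : _ → True) @Cfsg.sigmaA0.eq_1.{0}
  have := (fun _ => trivial : _ → True) @Cfsg.sigmaA0.eq_def.{0}
  have := (fun _ => trivial : _ → True) @Cfsg.sigmaA0.congr_simp.{0}
  have := (fun _ => trivial : _ → True) @Cfsg.tau2.eq_1.{0}
  have := (fun _ => trivial : _ → True) @Cfsg.tau2.eq_def.{0}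
  have := (fun _ => trivial : _ → True) @Cfsg.tau2.congr_simp.{0}
  have := (fun _ => trivial : _ → True) @Cfsg.IsOfTypeII.eq_1.{0}
  have := (fun _ => trivial : _ → True) @Cfsg.IsOfTypeII.eq_def.{0}
  have := (fun _ => trivial : _ → True) @Cfsg.IsOfTypeII.congr_simp.{0}
  have := (fun _ => trivial : _ → True) @Cfsg.fittingHall.eq_1.{0}
  have := (fun _ => trivial : _ → True) @Cfsg.fittingHall.eq_def.{0}
  have := (fun _ => trivial : _ → True) @Cfsg.fittingHall.congr_simp.{0}
  have := (fun _ => trivial : _ → True) @Cfsg.sigmaCore.eq_1.{0}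
  have := (fun _ => trivial : _ → True) @Cfsg.sigmaCore.eq_def.{0}
  have := (fun _ => trivial : _ → True) @Cfsg.sigmaCore.congr_simp.{0}
  have := (fun _ => trivial : _ → True) @Cfsg.piCore.eq_1.{0}
  have := (fun _ => trivial : _ → True) @Cfsg.piCore.eq_def.{0}
  have := (fun _ => trivial : _ → True) @Cfsg.piCore.congr_simp.{0}
  have := (fun _ => trivial : _ → True) @Cfsg.IsPiHall.eq_1.{0}
  have := (fun _ => trivial : _ → True) @Cfsg.IsPiHall.eq_def.{0}
  have := (fun _ => trivial : _ → True) @Cfsg.IsPiHall.congr_simp.{0}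
  have := (fun _ => trivial : _ → True) @Cfsg.typeA0.eq_1.{0}
  have := (fun _ => trivial : _ → True) @Cfsg.typeA0.eq_def.{0}
  have := (fun _ => trivial : _ → True) @Cfsg.typeA0.congr_simp.{0}
  have := (fun _ => trivial : _ → True) @Cfsg.beta.eq_1.{0}
  have := (fun _ => trivial : _ → True) @Cfsg.beta.eq_def.{0}
  have := (fun _ => trivial : _ → True) @Cfsg.beta.congr_simp.{0}
  have := (fun _ => trivial : _ → True) @Cfsg.InUniqueMaximal.eq_1.{0}
  have := (fun _ => trivial : _ → True) @Cfsg.InUniqueMaximal.eq_def.{0}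
  have := (fun _ => trivial : _ → True) @Cfsg.InUniqueMaximal.congr_simp.{0}
  have := (fun _ => trivial : _ → True) @Cfsg.IsTypePWith.casesOn.eq_1.{0,0}
  have := (fun _ => trivial : _ → True) @Cfsg.IsTypePWith.casesOn.eq_def.{0,0}
  have := (fun _ => trivial : _ → True) @Cfsg.IsTypePWith.casesOn.congr_simp.{0,0}
  have := (fun _ => trivial : _ → True) @Cfsg.IsSigmaDecomposition.recOn.eq_1.{0,0}
  have := (fun _ => trivial : _ → True) @Cfsg.IsSigmaDecomposition.recOn.eq_def.{0,0}
  have := (fun _ => trivial : _ → True) @Cfsg.IsSigmaDecomposition.recOn.congr_simp.{0,0}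
  have := (fun _ => trivial : _ → True) @Cfsg.piCoreOf.eq_1.{0}
  have := (fun _ => trivial : _ → True) @Cfsg.piCoreOf.eq_def.{0}
  have := (fun _ => trivial : _ → True) @Cfsg.piCoreOf.congr_simp.{0}
  have := (fun _ => trivial : _ → True) @Cfsg.tau3.eq_1.{0}
  have := (fun _ => trivial : _ → True) @Cfsg.tau3.eq_def.{0}
  have := (fun _ => trivial : _ → True) @Cfsg.tau3.congr_simp.{0}
  have := (fun _ => trivial : _ → True) @Cfsg.IsSelfNormalizingCyclic.eq_1.{0}
  have := (fun _ => trivial : _ → True) @Cfsg.IsSelfNormalizingCyclic.eq_def.{0}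
  have := (fun _ => trivial : _ → True) @Cfsg.IsSelfNormalizingCyclic.congr_simp.{0}
  have := (fun _ => trivial : _ → True) @Cfsg.puigLower.eq_1.{0}
  have := (fun _ => trivial : _ → True) @Cfsg.puigLower.eq_def.{0}
  have := (fun _ => trivial : _ → True) @Cfsg.puigLower.congr_simp.{0}
  have := (fun _ => trivial : _ → True) @Cfsg.typeA1.eq_1.{0}
  have := (fun _ => trivial : _ → True) @Cfsg.typeA1.eq_def.{0}
  have := (fun _ => trivial : _ → True) @Cfsg.typeA1.congr_simp.{0}
  have := (fun _ => trivial : _ → True) @Cfsg.IsNarrow.eq_1.{0}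
  have := (fun _ => trivial : _ → True) @Cfsg.IsNarrow.eq_def.{0}
  have := (fun _ => trivial : _ → True) @Cfsg.IsNarrow.congr_simp.{0}
  have := (fun _ => trivial : _ → True) @Cfsg.invSubgroups.eq_1.{0}
  have := (fun _ => trivial : _ → True) @Cfsg.invSubgroups.eq_def.{0}
  have := (fun _ => trivial : _ → True) @Cfsg.invSubgroups.congr_simp.{0}
  have := (fun _ => trivial : _ → True) @Cfsg.IsMetacyclic.eq_1.{0}
  have := (fun _ => trivial : _ → True) @Cfsg.IsMetacyclic.eq_def.{0}
  have := (fun _ => trivial : _ → True) @Cfsg.IsMetacyclic.congr_simp.{0}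
  have := (fun _ => trivial : _ → True) @Cfsg.IsTISubset.eq_1.{0}
  have := (fun _ => trivial : _ → True) @Cfsg.IsTISubset.eq_def.{0}
  have := (fun _ => trivial : _ → True) @Cfsg.IsTISubset.congr_simp.{0}
  have := (fun _ => trivial : _ → True) @Cfsg.sigma.eq_1.{0}
  have := (fun _ => trivial : _ → True) @Cfsg.sigma.eq_def.{0}
  have := (fun _ => trivial : _ → True) @Cfsg.sigma.congr_simp.{0}
  have := (fun _ => trivial : _ → True) @Cfsg.Supports.eq_1.{0}
  have := (fun _ => trivial : _ → True) @Cfsg.Supports.eq_def.{0}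
  have := (fun _ => trivial : _ → True) @Cfsg.Supports.congr_simp.{0}
  have := (fun _ => trivial : _ → True) @Cfsg.tildeOf.eq_1.{0}
  have := (fun _ => trivial : _ → True) @Cfsg.tildeOf.eq_def.{0}
  have := (fun _ => trivial : _ → True) @Cfsg.tildeOf.congr_simp.{0}
  have := (fun _ => trivial : _ → True) @Cfsg.primesNotDvd.eq_1
  have := (fun _ => trivial : _ → True) @Cfsg.primesNotDvd.eq_def
  have := (fun _ => trivial : _ → True) @Cfsg.primesNotDvd.congr_simp
  have := (fun _ => trivial : _ → True) @Cfsg.IsIdealPrime.eq_1.{0}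
  have := (fun _ => trivial : _ → True) @Cfsg.IsIdealPrime.eq_def.{0}
  have := (fun _ => trivial : _ → True) @Cfsg.IsIdealPrime.congr_simp.{0}
  have := (fun _ => trivial : _ → True) @Cfsg.maxInvSubgroups.eq_1.{0}
  have := (fun _ => trivial : _ → True) @Cfsg.maxInvSubgroups.eq_def.{0}
  have := (fun _ => trivial : _ → True) @Cfsg.maxInvSubgroups.congr_simp.{0}
  have := (fun _ => trivial : _ → True) @Cfsg.TransitivityHypothesis.eq_1.{0}
  have := (fun _ => trivial : _ → True) @Cfsg.TransitivityHypothesis.eq_def.{0}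
  have := (fun _ => trivial : _ → True) @Cfsg.TransitivityHypothesis.congr_simp.{0}
  have := (fun _ => trivial : _ → True) @Cfsg.fittingHallOf.eq_1.{0}
  have := (fun _ => trivial : _ → True) @Cfsg.fittingHallOf.eq_def.{0}
  have := (fun _ => trivial : _ → True) @Cfsg.fittingHallOf.congr_simp.{0}
  have := (fun _ => trivial : _ → True) @Cfsg.IsTypePWith.recOn.eq_1.{0,0}
  have := (fun _ => trivial : _ → True) @Cfsg.IsTypePWith.recOn.eq_def.{0,0}
  have := (fun _ => trivial : _ → True) @Cfsg.IsTypePWith.recOn.congr_simp.{0,0}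
  have := (fun _ => trivial : _ → True) @Cfsg.IsOfTypeIII.eq_1.{0}
  have := (fun _ => trivial : _ → True) @Cfsg.IsOfTypeIII.eq_def.{0}
  have := (fun _ => trivial : _ → True) @Cfsg.IsOfTypeIII.congr_simp.{0}
  have := (fun _ => trivial : _ → True) @Cfsg.alpha.eq_1.{0}
  have := (fun _ => trivial : _ → True) @Cfsg.alpha.eq_def.{0}
  have := (fun _ => trivial : _ → True) @Cfsg.alpha.congr_simp.{0}
  have := (fun _ => trivial : _ → True) @Cfsg.IsOfTypeV.eq_1.{0}
  have := (fun _ => trivial : _ → True) @Cfsg.IsOfTypeV.eq_def.{0}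
  have := (fun _ => trivial : _ → True) @Cfsg.IsOfTypeV.congr_simp.{0}
  have := (fun _ => trivial : _ → True) @Cfsg.IsSCN.eq_1.{0}
  have := (fun _ => trivial : _ → True) @Cfsg.IsSCN.eq_def.{0}
  have := (fun _ => trivial : _ → True) @Cfsg.IsSCN.congr_simp.{0}
  have := (fun _ => trivial : _ → True) @Cfsg.fittingOf.eq_1.{0}
  have := (fun _ => trivial : _ → True) @Cfsg.fittingOf.eq_def.{0}
  have := (fun _ => trivial : _ → True) @Cfsg.fittingOf.congr_simp.{0}
  have := (fun _ => trivial : _ → True) @Cfsg.sigmaA.eq_1.{0}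
  have := (fun _ => trivial : _ → True) @Cfsg.sigmaA.eq_def.{0}
  have := (fun _ => trivial : _ → True) @Cfsg.sigmaA.congr_simp.{0}
  have := (fun _ => trivial : _ → True) @Cfsg.IsOfTypeF.eq_1.{0}
  have := (fun _ => trivial : _ → True) @Cfsg.IsOfTypeF.eq_def.{0}
  have := (fun _ => trivial : _ → True) @Cfsg.IsOfTypeF.congr_simp.{0}
  have := (fun _ => trivial : _ → True) @Cfsg.IsOfTypeI.eq_1.{0}
  have := (fun _ => trivial : _ → True) @Cfsg.IsOfTypeI.eq_def.{0}
  have := (fun _ => trivial : _ → True) @Cfsg.IsOfTypeI.congr_simp.{0}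
  have := (fun _ => trivial : _ → True) @Cfsg.typeA.eq_1.{0}
  have := (fun _ => trivial : _ → True) @Cfsg.typeA.eq_def.{0}
  have := (fun _ => trivial : _ → True) @Cfsg.typeA.congr_simp.{0}
  trivial
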