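import Cfsg.Prelude.Def_SevenCases
import Cfsg.Agent.Eq.Def_EvenType

/-! Pre-generates on-demand lemmas for the definitions, so that importers share one copy. -/

theorem CfsgLib.Eq.Def_SevenCases.touch : True := by
  have := (fun _ => trivial : _ → True) @Cfsg.IsSpecialOddType.eq_1.{0}
  have := (fun _ => trivial : _ → True) @Cfsg.IsSpecialOddType.eq_def.{0}
  have := (fun _ => trivial : _ → True) @Cfsg.IsSpecialOddType.congr_simp.{0}
  have := (fun _ => trivial : _ → True) @Cfsg.IsAlmostStronglyPEmbedded.eq_1.{0}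
  have := (fun _ => trivial : _ → True) @Cfsg.IsAlmostStronglyPEmbedded.eq_def.{0}
  have := (fun _ => trivial : _ → True) @Cfsg.IsAlmostStronglyPEmbedded.congr_simp.{0}
  have := (fun _ => trivial : _ → True) @Cfsg.IsLCpType.eq_1.{0}
  have := (fun _ => trivial : _ → True) @Cfsg.IsLCpType.eq_def.{0}
  have := (fun _ => trivial : _ → True) @Cfsg.IsLCpType.congr_simp.{0}
  have := (fun _ => trivial : _ → True) @Cfsg.PreuniquenessHypothesis.eq_1.{0}
  have := (fun _ => trivial : _ → True) @Cfsg.PreuniquenessHypothesis.eq_def.{0}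
  have := (fun _ => trivial : _ → True) @Cfsg.PreuniquenessHypothesis.congr_simp.{0}
  have := (fun _ => trivial : _ → True) @Cfsg.IsStronglyClosedType.eq_1.{0}
  have := (fun _ => trivial : _ → True) @Cfsg.IsStronglyClosedType.eq_def.{0}
  have := (fun _ => trivial : _ → True) @Cfsg.IsStronglyClosedType.congr_simp.{0}
  have := (fun _ => trivial : _ → True) @Cfsg.IsSpecialEvenType.eq_1.{0}
  have := (fun _ => trivial : _ → True) @Cfsg.IsSpecialEvenType.eq_def.{0}
  have := (fun _ => trivial : _ → True) @Cfsg.IsSpecialEvenType.congr_simp.{0}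
  have := (fun _ => trivial : _ → True) @Cfsg.IsLBTwoType.eq_1.{0}
  have := (fun _ => trivial : _ → True) @Cfsg.IsLBTwoType.eq_def.{0}
  have := (fun _ => trivial : _ → True) @Cfsg.IsLBTwoType.congr_simp.{0}
  have := (fun _ => trivial : _ → True) @Cfsg.IsGenericEvenType.eq_1.{0}
  have := (fun _ => trivial : _ → True) @Cfsg.IsGenericEvenType.eq_def.{0}
  have := (fun _ => trivial : _ → True) @Cfsg.IsGenericEvenType.congr_simp.{0}
  have := (fun _ => trivial : _ → True) @Cfsg.InTargetFour.eq_1.{0}
  have := (fun _ => trivial : _ → True) @Cfsg.InTargetFour.eq_def.{0}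
  have := (fun _ => trivial : _ → True) @Cfsg.InTargetFour.congr_simp.{0}
  have := (fun _ => trivial : _ → True) @Cfsg.InTargetSeven.eq_1.{0}
  have := (fun _ => trivial : _ → True) @Cfsg.InTargetSeven.eq_def.{0}
  have := (fun _ => trivial : _ → True) @Cfsg.InTargetSeven.congr_simp.{0}
  have := (fun _ => trivial : _ → True) @Cfsg.IsGenericType.eq_1.{0}
  have := (fun _ => trivial : _ → True) @Cfsg.IsGenericType.eq_def.{0}
  have := (fun _ => trivial : _ → True) @Cfsg.IsGenericType.congr_simp.{0}
  have := (fun _ => trivial : _ → True) @Cfsg.InBTwo.eq_1.{0}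
  have := (fun _ => trivial : _ → True) @Cfsg.InBTwo.eq_def.{0}
  have := (fun _ => trivial : _ → True) @Cfsg.InBTwo.congr_simp.{0}
  have := (fun _ => trivial : _ → True) @Cfsg.IsLCpUniquenessSubgroup.eq_1.{0}
  have := (fun _ => trivial : _ → True) @Cfsg.IsLCpUniquenessSubgroup.eq_def.{0}
  have := (fun _ => trivial : _ → True) @Cfsg.IsLCpUniquenessSubgroup.congr_simp.{0}
  have := (fun _ => trivial : _ → True) @Cfsg.centralizerModCore.eq_1.{0}
  have := (fun _ => trivial : _ → True) @Cfsg.centralizerModCore.eq_def.{0}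
  have := (fun _ => trivial : _ → True) @Cfsg.centralizerModCore.congr_simp.{0}
  have := (fun _ => trivial : _ → True) @Cfsg.InSp.eq_1.{0}
  have := (fun _ => trivial : _ → True) @Cfsg.InSp.eq_def.{0}
  have := (fun _ => trivial : _ → True) @Cfsg.InSp.congr_simp.{0}
  have := (fun _ => trivial : _ → True) @Cfsg.IsStrongPUniquenessSubgroup.eq_1.{0}
  have := (fun _ => trivial : _ → True) @Cfsg.IsStrongPUniquenessSubgroup.eq_def.{0}
  have := (fun _ => trivial : _ → True) @Cfsg.IsStrongPUniquenessSubgroup.congr_simp.{0}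
  have := (fun _ => trivial : _ → True) @Cfsg.LpExists.eq_1.{0}
  have := (fun _ => trivial : _ → True) @Cfsg.LpExists.eq_def.{0}
  have := (fun _ => trivial : _ → True) @Cfsg.LpExists.congr_simp.{0}
  have := (fun _ => trivial : _ → True) @Cfsg.InTargetFive.eq_1.{0}
  have := (fun _ => trivial : _ → True) @Cfsg.InTargetFive.eq_def.{0}
  have := (fun _ => trivial : _ → True) @Cfsg.InTargetFive.congr_simp.{0}
  have := (fun _ => trivial : _ → True) @Cfsg.IsWreathedPreuniqueness.eq_1.{0}
  have := (fun _ => trivial : _ → True) @Cfsg.IsWreathedPreuniqueness.eq_def.{0}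
  have := (fun _ => trivial : _ → True) @Cfsg.IsWreathedPreuniqueness.congr_simp.{0}
  have := (fun _ => trivial : _ → True) @Cfsg.IsLTwoSpecialType.eq_1.{0}
  have := (fun _ => trivial : _ → True) @Cfsg.IsLTwoSpecialType.eq_def.{0}
  have := (fun _ => trivial : _ → True) @Cfsg.IsLTwoSpecialType.congr_simp.{0}
  have := (fun _ => trivial : _ → True) @Cfsg.IsAlmostPConstrained.eq_1.{0}
  have := (fun _ => trivial : _ → True) @Cfsg.IsAlmostPConstrained.eq_def.{0}
  have := (fun _ => trivial : _ → True) @Cfsg.IsAlmostPConstrained.congr_simp.{0}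
  have := (fun _ => trivial : _ → True) @Cfsg.IsLpSpecialType.eq_1.{0}
  have := (fun _ => trivial : _ → True) @Cfsg.IsLpSpecialType.eq_def.{0}
  have := (fun _ => trivial : _ → True) @Cfsg.IsLpSpecialType.congr_simp.{0}
  have := (fun _ => trivial : _ → True) @Cfsg.ControlsRankOneFusion.eq_1.{0}
  have := (fun _ => trivial : _ → True) @Cfsg.ControlsRankOneFusion.eq_def.{0}
  have := (fun _ => trivial : _ → True) @Cfsg.ControlsRankOneFusion.congr_simp.{0}
  have := (fun _ => trivial : _ → True) @Cfsg.ControlsRankTwoFusion.eq_1.{0}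
  have := (fun _ => trivial : _ → True) @Cfsg.ControlsRankTwoFusion.eq_def.{0}
  have := (fun _ => trivial : _ → True) @Cfsg.ControlsRankTwoFusion.congr_simp.{0}
  have := (fun _ => trivial : _ → True) @Cfsg.sigmaZeroSet.eq_1.{0}
  have := (fun _ => trivial : _ → True) @Cfsg.sigmaZeroSet.eq_def.{0}
  have := (fun _ => trivial : _ → True) @Cfsg.sigmaZeroSet.congr_simp.{0}
  have := (fun _ => trivial : _ → True) @Cfsg.omegaOneOf.eq_1.{0}
  have := (fun _ => trivial : _ → True) @Cfsg.omegaOneOf.eq_def.{0}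
  have := (fun _ => trivial : _ → True) @Cfsg.omegaOneOf.congr_simp.{0}
  have := (fun _ => trivial : _ → True) @Cfsg.IsLTTwoType.eq_1.{0}
  have := (fun _ => trivial : _ → True) @Cfsg.IsLTTwoType.eq_def.{0}
  have := (fun _ => trivial : _ → True) @Cfsg.IsLTTwoType.congr_simp.{0}
  have := (fun _ => trivial : _ → True) @Cfsg.InTargetTwo.eq_1.{0}
  have := (fun _ => trivial : _ → True) @Cfsg.InTargetTwo.eq_def.{0}
  have := (fun _ => trivial : _ → True) @Cfsg.InTargetTwo.congr_simp.{0}
  have := (fun _ => trivial : _ → True) @Cfsg.InGp.eq_1.{0}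
  have := (fun _ => trivial : _ → True) @Cfsg.InGp.eq_def.{0}
  have := (fun _ => trivial : _ → True) @Cfsg.InGp.congr_simp.{0}
  have := (fun _ => trivial : _ → True) @Cfsg.InTargetZero.eq_1.{0}
  have := (fun _ => trivial : _ → True) @Cfsg.InTargetZero.eq_def.{0}
  have := (fun _ => trivial : _ → True) @Cfsg.InTargetZero.congr_simp.{0}
  have := (fun _ => trivial : _ → True) @Cfsg.InT.eq_1.{0}
  have := (fun _ => trivial : _ → True) @Cfsg.InT.eq_def.{0}
  have := (fun _ => trivial : _ → True) @Cfsg.InT.congr_simp.{0}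
  have := (fun _ => trivial : _ → True) @Cfsg.IsGenericOddType.eq_1.{0}
  have := (fun _ => trivial : _ → True) @Cfsg.IsGenericOddType.eq_def.{0}
  have := (fun _ => trivial : _ → True) @Cfsg.IsGenericOddType.congr_simp.{0}
  have := (fun _ => trivial : _ → True) @Cfsg.InTargetThree.eq_1.{0}
  have := (fun _ => trivial : _ → True) @Cfsg.InTargetThree.eq_def.{0}
  have := (fun _ => trivial : _ → True) @Cfsg.InTargetThree.congr_simp.{0}
  have := (fun _ => trivial : _ → True) @Cfsg.InCT.eq_1.{0}
  have := (fun _ => trivial : _ → True) @Cfsg.InCT.eq_def.{0}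
  have := (fun _ => trivial : _ → True) @Cfsg.InCT.congr_simp.{0}
  have := (fun _ => trivial : _ → True) @Cfsg.IsLTpType.eq_1.{0}
  have := (fun _ => trivial : _ → True) @Cfsg.IsLTpType.eq_def.{0}
  have := (fun _ => trivial : _ → True) @Cfsg.IsLTpType.congr_simp.{0}
  have := (fun _ => trivial : _ → True) @Cfsg.LpoExists.eq_1.{0}
  have := (fun _ => trivial : _ → True) @Cfsg.LpoExists.eq_def.{0}
  have := (fun _ => trivial : _ → True) @Cfsg.LpoExists.congr_simp.{0}
  trivial
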