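import Cfsg.Prelude.Def_GeometricClasses
import Cfsg.Agent.Eq.Def_Classical
import Cfsg.Agent.Eq.Def_ClassicalGeometry
import Cfsg.Agent.Eq.Def_LieClassical

/-! Pre-generates on-demand lemmas for the definitions, so that importers share one copy. -/

theorem CfsgLib.Eq.Def_GeometricClasses.touch : True := by
  have := (fun _ => trivial : _ → True) @Cfsg.Geo.subspaceStabilizer.eq_1.{0}
  have := (fun _ => trivial : _ → True) @Cfsg.Geo.subspaceStabilizer.eq_def.{0}
  have := (fun _ => trivial : _ → True) @Cfsg.Geo.subspaceStabilizer.congr_simp.{0}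
  have := (fun _ => trivial : _ → True) @Cfsg.Geo.IsUnitaryFormPow.recOn.eq_1.{0,0}
  have := (fun _ => trivial : _ → True) @Cfsg.Geo.IsUnitaryFormPow.recOn.eq_def.{0,0}
  have := (fun _ => trivial : _ → True) @Cfsg.Geo.IsUnitaryFormPow.recOn.congr_simp.{0,0}
  have := (fun _ => trivial : _ → True) @Cfsg.Geo.kroneckerSubgroup.eq_1.{0}
  have := (fun _ => trivial : _ → True) @Cfsg.Geo.kroneckerSubgroup.eq_def.{0}
  have := (fun _ => trivial : _ → True) @Cfsg.Geo.kroneckerSubgroup.congr_simp.{0}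
  have := (fun _ => trivial : _ → True) @Cfsg.Geo.HasSquareDiscriminant.eq_1.{0}
  have := (fun _ => trivial : _ → True) @Cfsg.Geo.HasSquareDiscriminant.eq_def.{0}
  have := (fun _ => trivial : _ → True) @Cfsg.Geo.HasSquareDiscriminant.congr_simp.{0}
  have := (fun _ => trivial : _ → True) @Cfsg.Geo.IsUnitaryForm.casesOn.eq_1.{0,0}
  have := (fun _ => trivial : _ → True) @Cfsg.Geo.IsUnitaryForm.casesOn.eq_def.{0,0}
  have := (fun _ => trivial : _ → True) @Cfsg.Geo.IsUnitaryForm.casesOn.congr_simp.{0,0}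
  have := (fun _ => trivial : _ → True) @Cfsg.Geo.gramMatrix.eq_1.{0}
  have := (fun _ => trivial : _ → True) @Cfsg.Geo.gramMatrix.eq_def.{0}
  have := (fun _ => trivial : _ → True) @Cfsg.Geo.gramMatrix.congr_simp.{0}
  have := (fun _ => trivial : _ → True) @Cfsg.Geo.IsPureTensor.eq_1.{0}
  have := (fun _ => trivial : _ → True) @Cfsg.Geo.IsPureTensor.eq_def.{0}
  have := (fun _ => trivial : _ → True) @Cfsg.Geo.IsPureTensor.congr_simp.{0}
  have := (fun _ => trivial : _ → True) @Cfsg.Geo.FixesForm.eq_1.{0}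
  have := (fun _ => trivial : _ → True) @Cfsg.Geo.FixesForm.eq_def.{0}
  have := (fun _ => trivial : _ → True) @Cfsg.Geo.FixesForm.congr_simp.{0}
  have := (fun _ => trivial : _ → True) @Cfsg.Geo.subgroupNormalizer.eq_1.{0}
  have := (fun _ => trivial : _ → True) @Cfsg.Geo.subgroupNormalizer.eq_def.{0}
  have := (fun _ => trivial : _ → True) @Cfsg.Geo.subgroupNormalizer.congr_simp.{0}
  have := (fun _ => trivial : _ → True) @Cfsg.Geo.glReindex.eq_1.{0}
  have := (fun _ => trivial : _ → True) @Cfsg.Geo.glReindex.eq_def.{0}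
  have := (fun _ => trivial : _ → True) @Cfsg.Geo.glReindex.congr_simp.{0}
  have := (fun _ => trivial : _ → True) @Cfsg.Geo.InUnitaryPartialClass.eq_1.{0}
  have := (fun _ => trivial : _ → True) @Cfsg.Geo.InUnitaryPartialClass.eq_def.{0}
  have := (fun _ => trivial : _ → True) @Cfsg.Geo.InUnitaryPartialClass.congr_simp.{0}
  have := (fun _ => trivial : _ → True) @Cfsg.Geo.IsMaximalIn.eq_1.{0}
  have := (fun _ => trivial : _ → True) @Cfsg.Geo.IsMaximalIn.eq_def.{0}
  have := (fun _ => trivial : _ → True) @Cfsg.Geo.IsMaximalIn.congr_simp.{0}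
  have := (fun _ => trivial : _ → True) @Cfsg.Geo.AreIsometricFor.eq_1.{0}
  have := (fun _ => trivial : _ → True) @Cfsg.Geo.AreIsometricFor.eq_def.{0}
  have := (fun _ => trivial : _ → True) @Cfsg.Geo.AreIsometricFor.congr_simp.{0}
  have := (fun _ => trivial : _ → True) @Cfsg.Geo.IsMinimalFieldFor.eq_1.{0}
  have := (fun _ => trivial : _ → True) @Cfsg.Geo.IsMinimalFieldFor.eq_def.{0}
  have := (fun _ => trivial : _ → True) @Cfsg.Geo.IsMinimalFieldFor.congr_simp.{0}
  have := (fun _ => trivial : _ → True) @Cfsg.Geo.IsMDecomposition.recOn.eq_1.{0,0}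
  have := (fun _ => trivial : _ → True) @Cfsg.Geo.IsMDecomposition.recOn.eq_def.{0,0}
  have := (fun _ => trivial : _ → True) @Cfsg.Geo.IsMDecomposition.recOn.congr_simp.{0,0}
  have := (fun _ => trivial : _ → True) @Cfsg.Geo.ActsAbsolutelyIrreducibly.eq_1.{0}
  have := (fun _ => trivial : _ → True) @Cfsg.Geo.ActsAbsolutelyIrreducibly.eq_def.{0}
  have := (fun _ => trivial : _ → True) @Cfsg.Geo.ActsAbsolutelyIrreducibly.congr_simp.{0}
  have := (fun _ => trivial : _ → True) @Cfsg.Geo.InLinearResidualClass.eq_1.{0}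
  have := (fun _ => trivial : _ → True) @Cfsg.Geo.InLinearResidualClass.eq_def.{0}
  have := (fun _ => trivial : _ → True) @Cfsg.Geo.InLinearResidualClass.congr_simp.{0}
  have := (fun _ => trivial : _ → True) @Cfsg.Geo.RealisableOver.eq_1.{0}
  have := (fun _ => trivial : _ → True) @Cfsg.Geo.RealisableOver.eq_def.{0}
  have := (fun _ => trivial : _ → True) @Cfsg.Geo.RealisableOver.congr_simp.{0}
  have := (fun _ => trivial : _ → True) @Cfsg.Geo.scalars.eq_1.{0}
  have := (fun _ => trivial : _ → True) @Cfsg.Geo.scalars.eq_def.{0}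
  have := (fun _ => trivial : _ → True) @Cfsg.Geo.scalars.congr_simp.{0}
  have := (fun _ => trivial : _ → True) @Cfsg.Geo.InLinearClass.eq_1.{0}
  have := (fun _ => trivial : _ → True) @Cfsg.Geo.InLinearClass.eq_def.{0}
  have := (fun _ => trivial : _ → True) @Cfsg.Geo.InLinearClass.congr_simp.{0}
  have := (fun _ => trivial : _ → True) @Cfsg.Geo.IsSymplecticForm.casesOn.eq_1.{0,0}
  have := (fun _ => trivial : _ → True) @Cfsg.Geo.IsSymplecticForm.casesOn.eq_def.{0,0}
  have := (fun _ => trivial : _ → True) @Cfsg.Geo.IsSymplecticForm.casesOn.congr_simp.{0,0}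
  have := (fun _ => trivial : _ → True) @Cfsg.Geo.IsOrthogonalMDecomposition.recOn.eq_1.{0,0}
  have := (fun _ => trivial : _ → True) @Cfsg.Geo.IsOrthogonalMDecomposition.recOn.eq_def.{0,0}
  have := (fun _ => trivial : _ → True) @Cfsg.Geo.IsOrthogonalMDecomposition.recOn.congr_simp.{0,0}
  have := (fun _ => trivial : _ → True) @Cfsg.Geo.specialLinear.eq_1.{0}
  have := (fun _ => trivial : _ → True) @Cfsg.Geo.specialLinear.eq_def.{0}
  have := (fun _ => trivial : _ → True) @Cfsg.Geo.specialLinear.congr_simp.{0}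
  have := (fun _ => trivial : _ → True) @Cfsg.Geo.IsNondegenerateQuadraticForm.recOn.eq_1.{0,0}
  have := (fun _ => trivial : _ → True) @Cfsg.Geo.IsNondegenerateQuadraticForm.recOn.eq_def.{0,0}
  have := (fun _ => trivial : _ → True) @Cfsg.Geo.IsNondegenerateQuadraticForm.recOn.congr_simp.{0,0}
  have := (fun _ => trivial : _ → True) @Cfsg.Geo.InSymplecticResidualClass.eq_1.{0}
  have := (fun _ => trivial : _ → True) @Cfsg.Geo.InSymplecticResidualClass.eq_def.{0}
  have := (fun _ => trivial : _ → True) @Cfsg.Geo.InSymplecticResidualClass.congr_simp.{0}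
  have := (fun _ => trivial : _ → True) @Cfsg.Geo.IsNondegenerateOn.eq_1.{0}
  have := (fun _ => trivial : _ → True) @Cfsg.Geo.IsNondegenerateOn.eq_def.{0}
  have := (fun _ => trivial : _ → True) @Cfsg.Geo.IsNondegenerateOn.congr_simp.{0}
  have := (fun _ => trivial : _ → True) @Cfsg.Geo.formOfGram.eq_1.{0}
  have := (fun _ => trivial : _ → True) @Cfsg.Geo.formOfGram.eq_def.{0}
  have := (fun _ => trivial : _ → True) @Cfsg.Geo.formOfGram.congr_simp.{0}
  have := (fun _ => trivial : _ → True) @Cfsg.Geo.IsNondegenerateMDecomposition.casesOn.eq_1.{0,0}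
  have := (fun _ => trivial : _ → True) @Cfsg.Geo.IsNondegenerateMDecomposition.casesOn.eq_def.{0,0}
  have := (fun _ => trivial : _ → True) @Cfsg.Geo.IsNondegenerateMDecomposition.casesOn.congr_simp.{0,0}
  have := (fun _ => trivial : _ → True) @Cfsg.Geo.quadSimilarityGroup.eq_1.{0}
  have := (fun _ => trivial : _ → True) @Cfsg.Geo.quadSimilarityGroup.eq_def.{0}
  have := (fun _ => trivial : _ → True) @Cfsg.Geo.quadSimilarityGroup.congr_simp.{0}
  have := (fun _ => trivial : _ → True) @Cfsg.Geo.IsResidualCore.casesOn.eq_1.{0,0}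
  have := (fun _ => trivial : _ → True) @Cfsg.Geo.IsResidualCore.casesOn.eq_def.{0,0}
  have := (fun _ => trivial : _ → True) @Cfsg.Geo.IsResidualCore.casesOn.congr_simp.{0,0}
  have := (fun _ => trivial : _ → True) @Cfsg.Geo.IsFieldSubalgebra.recOn.eq_1.{0,0}
  have := (fun _ => trivial : _ → True) @Cfsg.Geo.IsFieldSubalgebra.recOn.eq_def.{0,0}
  have := (fun _ => trivial : _ → True) @Cfsg.Geo.IsFieldSubalgebra.recOn.congr_simp.{0,0}
  have := (fun _ => trivial : _ → True) @Cfsg.Geo.IsOfPlusType.eq_1.{0}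
  have := (fun _ => trivial : _ → True) @Cfsg.Geo.IsOfPlusType.eq_def.{0}
  have := (fun _ => trivial : _ → True) @Cfsg.Geo.IsOfPlusType.congr_simp.{0}
  have := (fun _ => trivial : _ → True) @Cfsg.Geo.tensorProductSubgroup.eq_1.{0}
  have := (fun _ => trivial : _ → True) @Cfsg.Geo.tensorProductSubgroup.eq_def.{0}
  have := (fun _ => trivial : _ → True) @Cfsg.Geo.tensorProductSubgroup.congr_simp.{0}
  have := (fun _ => trivial : _ → True) @Cfsg.Geo.IsUnitaryFormPow.casesOn.eq_1.{0,0}
  have := (fun _ => trivial : _ → True) @Cfsg.Geo.IsUnitaryFormPow.casesOn.eq_def.{0,0}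
  have := (fun _ => trivial : _ → True) @Cfsg.Geo.IsUnitaryFormPow.casesOn.congr_simp.{0,0}
  have := (fun _ => trivial : _ → True) @Cfsg.Geo.IsSelfAdjointFor.eq_1.{0}
  have := (fun _ => trivial : _ → True) @Cfsg.Geo.IsSelfAdjointFor.eq_def.{0}
  have := (fun _ => trivial : _ → True) @Cfsg.Geo.IsSelfAdjointFor.congr_simp.{0}
  have := (fun _ => trivial : _ → True) @Cfsg.Geo.IsQuadFormRationalStructure.eq_1.{0}
  have := (fun _ => trivial : _ → True) @Cfsg.Geo.IsQuadFormRationalStructure.eq_def.{0}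
  have := (fun _ => trivial : _ → True) @Cfsg.Geo.IsQuadFormRationalStructure.congr_simp.{0}
  have := (fun _ => trivial : _ → True) @Cfsg.Geo.IsPlusTypeOn.eq_1.{0}
  have := (fun _ => trivial : _ → True) @Cfsg.Geo.IsPlusTypeOn.eq_def.{0}
  have := (fun _ => trivial : _ → True) @Cfsg.Geo.IsPlusTypeOn.congr_simp.{0}
  have := (fun _ => trivial : _ → True) @Cfsg.Geo.IsUnitaryForm.recOn.eq_1.{0,0}
  have := (fun _ => trivial : _ → True) @Cfsg.Geo.IsUnitaryForm.recOn.eq_def.{0,0}
  have := (fun _ => trivial : _ → True) @Cfsg.Geo.IsUnitaryForm.recOn.congr_simp.{0,0}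
  have := (fun _ => trivial : _ → True) @Cfsg.Geo.IsFormRationalStructure.eq_1.{0}
  have := (fun _ => trivial : _ → True) @Cfsg.Geo.IsFormRationalStructure.eq_def.{0}
  have := (fun _ => trivial : _ → True) @Cfsg.Geo.IsFormRationalStructure.congr_simp.{0}
  have := (fun _ => trivial : _ → True) @Cfsg.Geo.IsSymmetricForm.casesOn.eq_1.{0,0}
  have := (fun _ => trivial : _ → True) @Cfsg.Geo.IsSymmetricForm.casesOn.eq_def.{0,0}
  have := (fun _ => trivial : _ → True) @Cfsg.Geo.IsSymmetricForm.casesOn.congr_simp.{0,0}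
  have := (fun _ => trivial : _ → True) @Cfsg.Geo.IsFactorPermutation.eq_1.{0}
  have := (fun _ => trivial : _ → True) @Cfsg.Geo.IsFactorPermutation.eq_def.{0}
  have := (fun _ => trivial : _ → True) @Cfsg.Geo.IsFactorPermutation.congr_simp.{0}
  have := (fun _ => trivial : _ → True) @Cfsg.Geo.InSymplecticClass.eq_1.{0}
  have := (fun _ => trivial : _ → True) @Cfsg.Geo.InSymplecticClass.eq_def.{0}
  have := (fun _ => trivial : _ → True) @Cfsg.Geo.InSymplecticClass.congr_simp.{0}
  have := (fun _ => trivial : _ → True) @Cfsg.Geo.IsBilinearForm.recOn.eq_1.{0,0}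
  have := (fun _ => trivial : _ → True) @Cfsg.Geo.IsBilinearForm.recOn.eq_def.{0,0}
  have := (fun _ => trivial : _ → True) @Cfsg.Geo.IsBilinearForm.recOn.congr_simp.{0,0}
  have := (fun _ => trivial : _ → True) @Cfsg.Geo.IsLinearSymplecticTypeData.casesOn.eq_1.{0,0}
  have := (fun _ => trivial : _ → True) @Cfsg.Geo.IsLinearSymplecticTypeData.casesOn.eq_def.{0,0}
  have := (fun _ => trivial : _ → True) @Cfsg.Geo.IsLinearSymplecticTypeData.casesOn.congr_simp.{0,0}
  have := (fun _ => trivial : _ → True) @Cfsg.Geo.IsMDecomposition.casesOn.eq_1.{0,0}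
  have := (fun _ => trivial : _ → True) @Cfsg.Geo.IsMDecomposition.casesOn.eq_def.{0,0}
  have := (fun _ => trivial : _ → True) @Cfsg.Geo.IsMDecomposition.casesOn.congr_simp.{0,0}
  have := (fun _ => trivial : _ → True) @Cfsg.Geo.InOrthogonalOddClass.eq_1.{0}
  have := (fun _ => trivial : _ → True) @Cfsg.Geo.InOrthogonalOddClass.eq_def.{0}
  have := (fun _ => trivial : _ → True) @Cfsg.Geo.InOrthogonalOddClass.congr_simp.{0}
  have := (fun _ => trivial : _ → True) @Cfsg.Geo.InSymplecticPartialClass.eq_1.{0}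
  have := (fun _ => trivial : _ → True) @Cfsg.Geo.InSymplecticPartialClass.eq_def.{0}
  have := (fun _ => trivial : _ → True) @Cfsg.Geo.InSymplecticPartialClass.congr_simp.{0}
  have := (fun _ => trivial : _ → True) @Cfsg.Geo.IsTensorFormStructure.eq_1.{0}
  have := (fun _ => trivial : _ → True) @Cfsg.Geo.IsTensorFormStructure.eq_def.{0}
  have := (fun _ => trivial : _ → True) @Cfsg.Geo.IsTensorFormStructure.congr_simp.{0}
  have := (fun _ => trivial : _ → True) @Cfsg.Geo.IsSymplecticTypeGroup.casesOn.eq_1.{0,0}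
  have := (fun _ => trivial : _ → True) @Cfsg.Geo.IsSymplecticTypeGroup.casesOn.eq_def.{0,0}
  have := (fun _ => trivial : _ → True) @Cfsg.Geo.IsSymplecticTypeGroup.casesOn.congr_simp.{0,0}
  have := (fun _ => trivial : _ → True) @Cfsg.Geo.IsNondegenerateQuadraticForm.casesOn.eq_1.{0,0}
  have := (fun _ => trivial : _ → True) @Cfsg.Geo.IsNondegenerateQuadraticForm.casesOn.eq_def.{0,0}
  have := (fun _ => trivial : _ → True) @Cfsg.Geo.IsNondegenerateQuadraticForm.casesOn.congr_simp.{0,0}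
  have := (fun _ => trivial : _ → True) @Cfsg.Geo.IsNondegenerateMDecomposition.recOn.eq_1.{0,0}
  have := (fun _ => trivial : _ → True) @Cfsg.Geo.IsNondegenerateMDecomposition.recOn.eq_def.{0,0}
  have := (fun _ => trivial : _ → True) @Cfsg.Geo.IsNondegenerateMDecomposition.recOn.congr_simp.{0,0}
  have := (fun _ => trivial : _ → True) @Cfsg.Geo.omegaGL.eq_1.{0}
  have := (fun _ => trivial : _ → True) @Cfsg.Geo.omegaGL.eq_def.{0}
  have := (fun _ => trivial : _ → True) @Cfsg.Geo.omegaGL.congr_simp.{0}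
  have := (fun _ => trivial : _ → True) @Cfsg.Geo.IsAdjointClosedFor.eq_1.{0}
  have := (fun _ => trivial : _ → True) @Cfsg.Geo.IsAdjointClosedFor.eq_def.{0}
  have := (fun _ => trivial : _ → True) @Cfsg.Geo.IsAdjointClosedFor.congr_simp.{0}
  have := (fun _ => trivial : _ → True) @Cfsg.Geo.IsNondegenerateForm.eq_1.{0}
  have := (fun _ => trivial : _ → True) @Cfsg.Geo.IsNondegenerateForm.eq_def.{0}
  have := (fun _ => trivial : _ → True) @Cfsg.Geo.IsNondegenerateForm.congr_simp.{0}
  have := (fun _ => trivial : _ → True) @Cfsg.Geo.FixesQuadForm.eq_1.{0}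
  have := (fun _ => trivial : _ → True) @Cfsg.Geo.FixesQuadForm.eq_def.{0}
  have := (fun _ => trivial : _ → True) @Cfsg.Geo.FixesQuadForm.congr_simp.{0}
  have := (fun _ => trivial : _ → True) @Cfsg.Geo.InOrthogonalResidualClass.eq_1.{0}
  have := (fun _ => trivial : _ → True) @Cfsg.Geo.InOrthogonalResidualClass.eq_def.{0}
  have := (fun _ => trivial : _ → True) @Cfsg.Geo.InOrthogonalResidualClass.congr_simp.{0}
  have := (fun _ => trivial : _ → True) @Cfsg.Geo.tensorWreathSubgroup.eq_1.{0}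
  have := (fun _ => trivial : _ → True) @Cfsg.Geo.tensorWreathSubgroup.eq_def.{0}
  have := (fun _ => trivial : _ → True) @Cfsg.Geo.tensorWreathSubgroup.congr_simp.{0}
  have := (fun _ => trivial : _ → True) @Cfsg.Geo.InUnitaryResidualClass.eq_1.{0}
  have := (fun _ => trivial : _ → True) @Cfsg.Geo.InUnitaryResidualClass.eq_def.{0}
  have := (fun _ => trivial : _ → True) @Cfsg.Geo.InUnitaryResidualClass.congr_simp.{0}
  have := (fun _ => trivial : _ → True) @Cfsg.Geo.IsSymmetricForm.recOn.eq_1.{0,0}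
  have := (fun _ => trivial : _ → True) @Cfsg.Geo.IsSymmetricForm.recOn.eq_def.{0,0}
  have := (fun _ => trivial : _ → True) @Cfsg.Geo.IsSymmetricForm.recOn.congr_simp.{0,0}
  have := (fun _ => trivial : _ → True) @Cfsg.Geo.IsTensorPowerFormStructure.eq_1.{0}
  have := (fun _ => trivial : _ → True) @Cfsg.Geo.IsTensorPowerFormStructure.eq_def.{0}
  have := (fun _ => trivial : _ → True) @Cfsg.Geo.IsTensorPowerFormStructure.congr_simp.{0}
  have := (fun _ => trivial : _ → True) @Cfsg.Geo.IsOfMinusType.eq_1.{0}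
  have := (fun _ => trivial : _ → True) @Cfsg.Geo.IsOfMinusType.eq_def.{0}
  have := (fun _ => trivial : _ → True) @Cfsg.Geo.IsOfMinusType.congr_simp.{0}
  have := (fun _ => trivial : _ → True) @Cfsg.Geo.decompositionStabilizer.eq_1.{0}
  have := (fun _ => trivial : _ → True) @Cfsg.Geo.decompositionStabilizer.eq_def.{0}
  have := (fun _ => trivial : _ → True) @Cfsg.Geo.decompositionStabilizer.congr_simp.{0}
  have := (fun _ => trivial : _ → True) @Cfsg.Geo.IsBilinearForm.casesOn.eq_1.{0,0}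
  have := (fun _ => trivial : _ → True) @Cfsg.Geo.IsBilinearForm.casesOn.eq_def.{0,0}
  have := (fun _ => trivial : _ → True) @Cfsg.Geo.IsBilinearForm.casesOn.congr_simp.{0,0}
  have := (fun _ => trivial : _ → True) @Cfsg.Geo.IsLinearSymplecticTypeData.recOn.eq_1.{0,0}
  have := (fun _ => trivial : _ → True) @Cfsg.Geo.IsLinearSymplecticTypeData.recOn.eq_def.{0,0}
  have := (fun _ => trivial : _ → True) @Cfsg.Geo.IsLinearSymplecticTypeData.recOn.congr_simp.{0,0}
  have := (fun _ => trivial : _ → True) @Cfsg.Geo.tensorWreathStandard.eq_1.{0}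
  have := (fun _ => trivial : _ → True) @Cfsg.Geo.tensorWreathStandard.eq_def.{0}
  have := (fun _ => trivial : _ → True) @Cfsg.Geo.tensorWreathStandard.congr_simp.{0}
  have := (fun _ => trivial : _ → True) @Cfsg.Geo.subalgebraNormalizer.eq_1.{0}
  have := (fun _ => trivial : _ → True) @Cfsg.Geo.subalgebraNormalizer.eq_def.{0}
  have := (fun _ => trivial : _ → True) @Cfsg.Geo.subalgebraNormalizer.congr_simp.{0}
  have := (fun _ => trivial : _ → True) @Cfsg.Geo.IsTotallySingularFor.eq_1.{0}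
  have := (fun _ => trivial : _ → True) @Cfsg.Geo.IsTotallySingularFor.eq_def.{0}
  have := (fun _ => trivial : _ → True) @Cfsg.Geo.IsTotallySingularFor.congr_simp.{0}
  have := (fun _ => trivial : _ → True) @Cfsg.Geo.IsOrthogonalMDecomposition.casesOn.eq_1.{0,0}
  have := (fun _ => trivial : _ → True) @Cfsg.Geo.IsOrthogonalMDecomposition.casesOn.eq_def.{0,0}
  have := (fun _ => trivial : _ → True) @Cfsg.Geo.IsOrthogonalMDecomposition.casesOn.congr_simp.{0,0}
  have := (fun _ => trivial : _ → True) @Cfsg.Geo.IsSymplecticForm.recOn.eq_1.{0,0}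
  have := (fun _ => trivial : _ → True) @Cfsg.Geo.IsSymplecticForm.recOn.eq_def.{0,0}
  have := (fun _ => trivial : _ → True) @Cfsg.Geo.IsSymplecticForm.recOn.congr_simp.{0,0}
  have := (fun _ => trivial : _ → True) @Cfsg.Geo.matrixSet.eq_1.{0}
  have := (fun _ => trivial : _ → True) @Cfsg.Geo.matrixSet.eq_def.{0}
  have := (fun _ => trivial : _ → True) @Cfsg.Geo.matrixSet.congr_simp.{0}
  have := (fun _ => trivial : _ → True) @Cfsg.Geo.IsSymplecticTypeGroup.recOn.eq_1.{0,0}
  have := (fun _ => trivial : _ → True) @Cfsg.Geo.IsSymplecticTypeGroup.recOn.eq_def.{0,0}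
  have := (fun _ => trivial : _ → True) @Cfsg.Geo.IsSymplecticTypeGroup.recOn.congr_simp.{0,0}
  have := (fun _ => trivial : _ → True) @Cfsg.Geo.similarityGroup.eq_1.{0}
  have := (fun _ => trivial : _ → True) @Cfsg.Geo.similarityGroup.eq_def.{0}
  have := (fun _ => trivial : _ → True) @Cfsg.Geo.similarityGroup.congr_simp.{0}
  have := (fun _ => trivial : _ → True) @Cfsg.Geo.IsTotallySingularQuad.eq_1.{0}
  have := (fun _ => trivial : _ → True) @Cfsg.Geo.IsTotallySingularQuad.eq_def.{0}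
  have := (fun _ => trivial : _ → True) @Cfsg.Geo.IsTotallySingularQuad.congr_simp.{0}
  have := (fun _ => trivial : _ → True) @Cfsg.Geo.subfieldSubgroup.eq_1.{0}
  have := (fun _ => trivial : _ → True) @Cfsg.Geo.subfieldSubgroup.eq_def.{0}
  have := (fun _ => trivial : _ → True) @Cfsg.Geo.subfieldSubgroup.congr_simp.{0}
  have := (fun _ => trivial : _ → True) @Cfsg.Geo.InUnitaryClass.eq_1.{0}
  have := (fun _ => trivial : _ → True) @Cfsg.Geo.InUnitaryClass.eq_def.{0}
  have := (fun _ => trivial : _ → True) @Cfsg.Geo.InUnitaryClass.congr_simp.{0}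
  have := (fun _ => trivial : _ → True) @Cfsg.Geo.ActsIrreducibly.eq_1.{0}
  have := (fun _ => trivial : _ → True) @Cfsg.Geo.ActsIrreducibly.eq_def.{0}
  have := (fun _ => trivial : _ → True) @Cfsg.Geo.ActsIrreducibly.congr_simp.{0}
  have := (fun _ => trivial : _ → True) @Cfsg.Geo.IsResidualCore.recOn.eq_1.{0,0}
  have := (fun _ => trivial : _ → True) @Cfsg.Geo.IsResidualCore.recOn.eq_def.{0,0}
  have := (fun _ => trivial : _ → True) @Cfsg.Geo.IsResidualCore.recOn.congr_simp.{0,0}
  have := (fun _ => trivial : _ → True) @Cfsg.Geo.AreOrthogonalFor.eq_1.{0}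
  have := (fun _ => trivial : _ → True) @Cfsg.Geo.AreOrthogonalFor.eq_def.{0}
  have := (fun _ => trivial : _ → True) @Cfsg.Geo.AreOrthogonalFor.congr_simp.{0}
  have := (fun _ => trivial : _ → True) @Cfsg.Geo.IsFieldSubalgebra.casesOn.eq_1.{0,0}
  have := (fun _ => trivial : _ → True) @Cfsg.Geo.IsFieldSubalgebra.casesOn.eq_def.{0,0}
  have := (fun _ => trivial : _ → True) @Cfsg.Geo.IsFieldSubalgebra.casesOn.congr_simp.{0,0}
  trivial
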