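import Cfsg.Prelude.Def_ChevStructure
import Cfsg.Agent.Eq.Def_ChevWords

/-! Pre-generates on-demand lemmas for the definitions, so that importers share one copy. -/

theorem CfsgLib.Eq.Def_ChevStructure.touch : True := by
  have := (fun _ => trivial : _ → True) @Cfsg.Lie.coxeterD4.eq_1
  have := (fun _ => trivial : _ → True) @Cfsg.Lie.coxeterD4.eq_def
  have := (fun _ => trivial : _ → True) @Cfsg.Lie.coxeterD4.congr_simp
  have := (fun _ => trivial : _ → True) @Cfsg.Lie.ChevalleyDatum.chainM.eq_1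
  have := (fun _ => trivial : _ → True) @Cfsg.Lie.ChevalleyDatum.chainM.eq_def
  have := (fun _ => trivial : _ → True) @Cfsg.Lie.ChevalleyDatum.chainM.congr_simp
  have := (fun _ => trivial : _ → True) @Cfsg.Lie.ChevalleyDatum.cartan.eq_1
  have := (fun _ => trivial : _ → True) @Cfsg.Lie.ChevalleyDatum.cartan.eq_def
  have := (fun _ => trivial : _ → True) @Cfsg.Lie.ChevalleyDatum.cartan.congr_simp
  have := (fun _ => trivial : _ → True) @Cfsg.Lie.ChevalleyDatum.InRootSub.eq_1
  have := (fun _ => trivial : _ → True) @Cfsg.Lie.ChevalleyDatum.InRootSub.eq_def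
  have := (fun _ => trivial : _ → True) @Cfsg.Lie.ChevalleyDatum.InRootSub.congr_simp
  have := (fun _ => trivial : _ → True) @Cfsg.Lie.ChevalleyDatum.borelSubgroup.eq_1.{0}
  have := (fun _ => trivial : _ → True) @Cfsg.Lie.ChevalleyDatum.borelSubgroup.eq_def.{0}
  have := (fun _ => trivial : _ → True) @Cfsg.Lie.ChevalleyDatum.borelSubgroup.congr_simp.{0}
  have := (fun _ => trivial : _ → True) @Cfsg.Lie.ChevalleyDatum.diagonalSubgroup.eq_1.{0}
  have := (fun _ => trivial : _ → True) @Cfsg.Lie.ChevalleyDatum.diagonalSubgroup.eq_def.{0}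
  have := (fun _ => trivial : _ → True) @Cfsg.Lie.ChevalleyDatum.diagonalSubgroup.congr_simp.{0}
  have := (fun _ => trivial : _ → True) @Cfsg.Lie.ChevalleyDatum.posUnipotent.eq_1.{0}
  have := (fun _ => trivial : _ → True) @Cfsg.Lie.ChevalleyDatum.posUnipotent.eq_def.{0}
  have := (fun _ => trivial : _ → True) @Cfsg.Lie.ChevalleyDatum.posUnipotent.congr_simp.{0}
  have := (fun _ => trivial : _ → True) @Cfsg.Lie.ChevalleyDatum.hWord.eq_1.{0}
  have := (fun _ => trivial : _ → True) @Cfsg.Lie.ChevalleyDatum.hWord.eq_def.{0}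
  have := (fun _ => trivial : _ → True) @Cfsg.Lie.ChevalleyDatum.hWord.congr_simp.{0}
  have := (fun _ => trivial : _ → True) @Cfsg.Lie.ChevalleyDatum.monomialSubgroup.eq_1.{0}
  have := (fun _ => trivial : _ → True) @Cfsg.Lie.ChevalleyDatum.monomialSubgroup.eq_def.{0}
  have := (fun _ => trivial : _ → True) @Cfsg.Lie.ChevalleyDatum.monomialSubgroup.congr_simp.{0}
  have := (fun _ => trivial : _ → True) @Cfsg.Lie.ChevalleyDatum.nWord.eq_1.{0}
  have := (fun _ => trivial : _ → True) @Cfsg.Lie.ChevalleyDatum.nWord.eq_def.{0}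
  have := (fun _ => trivial : _ → True) @Cfsg.Lie.ChevalleyDatum.nWord.congr_simp.{0}
  have := (fun _ => trivial : _ → True) @Cfsg.Lie.ChevalleyDatum.IsNegRoot.eq_1
  have := (fun _ => trivial : _ → True) @Cfsg.Lie.ChevalleyDatum.IsNegRoot.eq_def
  have := (fun _ => trivial : _ → True) @Cfsg.Lie.ChevalleyDatum.IsNegRoot.congr_simp
  have := (fun _ => trivial : _ → True) @Cfsg.Lie.ChevalleyDatum.negRoots.eq_1
  have := (fun _ => trivial : _ → True) @Cfsg.Lie.ChevalleyDatum.negRoots.eq_def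
  have := (fun _ => trivial : _ → True) @Cfsg.Lie.ChevalleyDatum.negRoots.congr_simp
  have := (fun _ => trivial : _ → True) @Cfsg.Lie.ChevalleyDatum.chainEntry.eq_1
  have := (fun _ => trivial : _ → True) @Cfsg.Lie.ChevalleyDatum.chainEntry.eq_def
  have := (fun _ => trivial : _ → True) @Cfsg.Lie.ChevalleyDatum.chainEntry.congr_simp
  have := (fun _ => trivial : _ → True) @Cfsg.Lie.ChevalleyDatum.commWord.eq_1.{0}
  have := (fun _ => trivial : _ → True) @Cfsg.Lie.ChevalleyDatum.commWord.eq_def.{0}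
  have := (fun _ => trivial : _ → True) @Cfsg.Lie.ChevalleyDatum.commWord.congr_simp.{0}
  have := (fun _ => trivial : _ → True) @Cfsg.Lie.ChevalleyDatum.IsPosRoot.eq_1
  have := (fun _ => trivial : _ → True) @Cfsg.Lie.ChevalleyDatum.IsPosRoot.eq_def
  have := (fun _ => trivial : _ → True) @Cfsg.Lie.ChevalleyDatum.IsPosRoot.congr_simp
  have := (fun _ => trivial : _ → True) @Cfsg.Lie.ChevalleyDatum.instDecidableIsPosRoot.eq_1
  have := (fun _ => trivial : _ → True) @Cfsg.Lie.ChevalleyDatum.instDecidableIsPosRoot.eq_def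
  have := (fun _ => trivial : _ → True) @Cfsg.Lie.ChevalleyDatum.instDecidableIsPosRoot.congr_simp
  have := (fun _ => trivial : _ → True) @Cfsg.Lie.ChevalleyDatum.chainRoot.eq_1
  have := (fun _ => trivial : _ → True) @Cfsg.Lie.ChevalleyDatum.chainRoot.eq_def
  have := (fun _ => trivial : _ → True) @Cfsg.Lie.ChevalleyDatum.chainRoot.congr_simp
  have := (fun _ => trivial : _ → True) @Cfsg.Lie.ChevalleyDatum.instDecidableIsNegRoot.eq_1
  have := (fun _ => trivial : _ → True) @Cfsg.Lie.ChevalleyDatum.instDecidableIsNegRoot.eq_def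
  have := (fun _ => trivial : _ → True) @Cfsg.Lie.ChevalleyDatum.instDecidableIsNegRoot.congr_simp
  have := (fun _ => trivial : _ → True) @Cfsg.Lie.ChevalleyDatum.hMat.eq_1.{0}
  have := (fun _ => trivial : _ → True) @Cfsg.Lie.ChevalleyDatum.hMat.eq_def.{0}
  have := (fun _ => trivial : _ → True) @Cfsg.Lie.ChevalleyDatum.hMat.congr_simp.{0}
  have := (fun _ => trivial : _ → True) @Cfsg.Lie.ChevalleyDatum.rootSubgroup.eq_1.{0}
  have := (fun _ => trivial : _ → True) @Cfsg.Lie.ChevalleyDatum.rootSubgroup.eq_def.{0}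
  have := (fun _ => trivial : _ → True) @Cfsg.Lie.ChevalleyDatum.rootSubgroup.congr_simp.{0}
  have := (fun _ => trivial : _ → True) @Cfsg.Lie.ChevalleyDatum.leviSubgroup.eq_1.{0}
  have := (fun _ => trivial : _ → True) @Cfsg.Lie.ChevalleyDatum.leviSubgroup.eq_def.{0}
  have := (fun _ => trivial : _ → True) @Cfsg.Lie.ChevalleyDatum.leviSubgroup.congr_simp.{0}
  have := (fun _ => trivial : _ → True) @Cfsg.Lie.ChevalleyDatum.simple.eq_1
  have := (fun _ => trivial : _ → True) @Cfsg.Lie.ChevalleyDatum.simple.eq_def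
  have := (fun _ => trivial : _ → True) @Cfsg.Lie.ChevalleyDatum.simple.congr_simp
  have := (fun _ => trivial : _ → True) @Cfsg.Lie.ChevalleyDatum.neg.eq_1
  have := (fun _ => trivial : _ → True) @Cfsg.Lie.ChevalleyDatum.neg.eq_def
  have := (fun _ => trivial : _ → True) @Cfsg.Lie.ChevalleyDatum.neg.congr_simp
  have := (fun _ => trivial : _ → True) @Cfsg.Lie.ChevalleyDatum.negUnipotent.eq_1.{0}
  have := (fun _ => trivial : _ → True) @Cfsg.Lie.ChevalleyDatum.negUnipotent.eq_def.{0}
  have := (fun _ => trivial : _ → True) @Cfsg.Lie.ChevalleyDatum.negUnipotent.congr_simp.{0}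
  have := (fun _ => trivial : _ → True) @Cfsg.Lie.ChevalleyDatum.parabolicSubgroup.eq_1.{0}
  have := (fun _ => trivial : _ → True) @Cfsg.Lie.ChevalleyDatum.parabolicSubgroup.eq_def.{0}
  have := (fun _ => trivial : _ → True) @Cfsg.Lie.ChevalleyDatum.parabolicSubgroup.congr_simp.{0}
  have := (fun _ => trivial : _ → True) @Cfsg.Lie.ChevalleyDatum.unipotentRadical.eq_1.{0}
  have := (fun _ => trivial : _ → True) @Cfsg.Lie.ChevalleyDatum.unipotentRadical.eq_def.{0}
  have := (fun _ => trivial : _ → True) @Cfsg.Lie.ChevalleyDatum.unipotentRadical.congr_simp.{0}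
  have := (fun _ => trivial : _ → True) @Cfsg.Lie.ChevalleyDatum.nMat.eq_1.{0}
  have := (fun _ => trivial : _ → True) @Cfsg.Lie.ChevalleyDatum.nMat.eq_def.{0}
  have := (fun _ => trivial : _ → True) @Cfsg.Lie.ChevalleyDatum.nMat.congr_simp.{0}
  have := (fun _ => trivial : _ → True) @Cfsg.Lie.ChevalleyDatum.reflectRoot.eq_1
  have := (fun _ => trivial : _ → True) @Cfsg.Lie.ChevalleyDatum.reflectRoot.eq_def
  have := (fun _ => trivial : _ → True) @Cfsg.Lie.ChevalleyDatum.reflectRoot.congr_simp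
  have := (fun _ => trivial : _ → True) @Cfsg.Lie.ChevalleyDatum.posRoots.eq_1
  have := (fun _ => trivial : _ → True) @Cfsg.Lie.ChevalleyDatum.posRoots.eq_def
  have := (fun _ => trivial : _ → True) @Cfsg.Lie.ChevalleyDatum.posRoots.congr_simp
  have := (fun _ => trivial : _ → True) @Cfsg.Lie.ChevalleyDatum.commTerms.eq_1
  have := (fun _ => trivial : _ → True) @Cfsg.Lie.ChevalleyDatum.commTerms.eq_def
  have := (fun _ => trivial : _ → True) @Cfsg.Lie.ChevalleyDatum.commTerms.congr_simp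
  trivial
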