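import Cfsg.Prelude.Def_StandardType
import Cfsg.Agent.Eq.Def_EvenType
import Cfsg.Agent.Eq.Def_ClassificationStages
import Cfsg.Agent.Eq.Def_ChevAutomorphisms
import Cfsg.Agent.Eq.Def_LieTwisted
import Cfsg.Agent.Eq.Def_LieClassical
import Cfsg.Agent.Eq.Def_Sz

/-! Pre-generates on-demand lemmas for the definitions, so that importers share one copy. -/

theorem CfsgLib.Eq.Def_StandardType.touch : True := by
  have := (fun _ => trivial : _ → True) @Cfsg.IsFieldAutPOmegaOf.eq_1.{0}
  have := (fun _ => trivial : _ → True) @Cfsg.IsFieldAutPOmegaOf.eq_def.{0}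
  have := (fun _ => trivial : _ → True) @Cfsg.IsFieldAutPOmegaOf.congr_simp.{0}
  have := (fun _ => trivial : _ → True) @Cfsg.conjugateClosure.eq_1.{0}
  have := (fun _ => trivial : _ → True) @Cfsg.conjugateClosure.eq_def.{0}
  have := (fun _ => trivial : _ → True) @Cfsg.conjugateClosure.congr_simp.{0}
  have := (fun _ => trivial : _ → True) @Cfsg.InducesOnCentralQuotient.eq_1.{0}
  have := (fun _ => trivial : _ → True) @Cfsg.InducesOnCentralQuotient.eq_def.{0}
  have := (fun _ => trivial : _ → True) @Cfsg.InducesOnCentralQuotient.congr_simp.{0}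
  have := (fun _ => trivial : _ → True) @Cfsg.LieFamilyTwo.recOn.eq_1.{0}
  have := (fun _ => trivial : _ → True) @Cfsg.LieFamilyTwo.recOn.eq_def.{0}
  have := (fun _ => trivial : _ → True) @Cfsg.LieFamilyTwo.recOn.congr_simp.{0}
  have := (fun _ => trivial : _ → True) @Cfsg.Lie.IsEntrywiseFieldAutOn.eq_1.{0}
  have := (fun _ => trivial : _ → True) @Cfsg.Lie.IsEntrywiseFieldAutOn.eq_def.{0}
  have := (fun _ => trivial : _ → True) @Cfsg.Lie.IsEntrywiseFieldAutOn.congr_simp.{0}
  have := (fun _ => trivial : _ → True) @Cfsg.LieFamilyTwo.twistedD.elim.eq_1.{0}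
  have := (fun _ => trivial : _ → True) @Cfsg.LieFamilyTwo.twistedD.elim.eq_def.{0}
  have := (fun _ => trivial : _ → True) @Cfsg.LieFamilyTwo.twistedD.elim.congr_simp.{0}
  have := (fun _ => trivial : _ → True) @Cfsg.HalfSplitsType.eq_1
  have := (fun _ => trivial : _ → True) @Cfsg.HalfSplitsType.eq_def
  have := (fun _ => trivial : _ → True) @Cfsg.HalfSplitsType.congr_simp
  have := (fun _ => trivial : _ → True) @Cfsg.IsCoveringGroupOfType.eq_1.{0}
  have := (fun _ => trivial : _ → True) @Cfsg.IsCoveringGroupOfType.eq_def.{0}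
  have := (fun _ => trivial : _ → True) @Cfsg.IsCoveringGroupOfType.congr_simp.{0}
  have := (fun _ => trivial : _ → True) @Cfsg.InBmax.eq_1.{0}
  have := (fun _ => trivial : _ → True) @Cfsg.InBmax.eq_def.{0}
  have := (fun _ => trivial : _ → True) @Cfsg.InBmax.congr_simp.{0}
  have := (fun _ => trivial : _ → True) @Cfsg.IsInnerDiagonalAutPSL.eq_1.{0}
  have := (fun _ => trivial : _ → True) @Cfsg.IsInnerDiagonalAutPSL.eq_def.{0}
  have := (fun _ => trivial : _ → True) @Cfsg.IsInnerDiagonalAutPSL.congr_simp.{0}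
  have := (fun _ => trivial : _ → True) @Cfsg.CentralizesModPPrimeCore.eq_1.{0}
  have := (fun _ => trivial : _ → True) @Cfsg.CentralizesModPPrimeCore.eq_def.{0}
  have := (fun _ => trivial : _ → True) @Cfsg.CentralizesModPPrimeCore.congr_simp.{0}
  have := (fun _ => trivial : _ → True) @Cfsg.LieFamilyTwo.twisted.eq_1
  have := (fun _ => trivial : _ → True) @Cfsg.LieFamilyTwo.twisted.eq_2
  have := (fun _ => trivial : _ → True) @Cfsg.LieFamilyTwo.twisted.eq_3
  have := (fun _ => trivial : _ → True) @Cfsg.LieFamilyTwo.twisted.eq_4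
  have := (fun _ => trivial : _ → True) @Cfsg.LieFamilyTwo.twisted.eq_5
  have := (fun _ => trivial : _ → True) @Cfsg.LieFamilyTwo.twisted.eq_6
  have := (fun _ => trivial : _ → True) @Cfsg.LieFamilyTwo.twisted.eq_7
  have := (fun _ => trivial : _ → True) @Cfsg.LieFamilyTwo.twisted.eq_def
  have := (fun _ => trivial : _ → True) @Cfsg.LieFamilyTwo.twisted.congr_simp
  have := (fun _ => trivial : _ → True) @Cfsg.LieFamilyTwo.twisted.fun_cases
  have := (fun _ => trivial : _ → True) @Cfsg.LieFamilyTwo.twisted.fun_cases_unfolding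
  have := (fun _ => trivial : _ → True) @Cfsg.IsInnerDiagonalAutPSU.eq_1.{0}
  have := (fun _ => trivial : _ → True) @Cfsg.IsInnerDiagonalAutPSU.eq_def.{0}
  have := (fun _ => trivial : _ → True) @Cfsg.IsInnerDiagonalAutPSU.congr_simp.{0}
  have := (fun _ => trivial : _ → True) @Cfsg.IsNontrivialFieldAutCharTwo.eq_1.{0}
  have := (fun _ => trivial : _ → True) @Cfsg.IsNontrivialFieldAutCharTwo.eq_def.{0}
  have := (fun _ => trivial : _ → True) @Cfsg.IsNontrivialFieldAutCharTwo.congr_simp.{0}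
  have := (fun _ => trivial : _ → True) @Cfsg.LieFamilyTwo.reeF4.elim.eq_1.{0}
  have := (fun _ => trivial : _ → True) @Cfsg.LieFamilyTwo.reeF4.elim.eq_def.{0}
  have := (fun _ => trivial : _ → True) @Cfsg.LieFamilyTwo.reeF4.elim.congr_simp.{0}
  have := (fun _ => trivial : _ → True) @Cfsg.IsCoveringGroupOfLieTypeTwo.eq_1.{0}
  have := (fun _ => trivial : _ → True) @Cfsg.IsCoveringGroupOfLieTypeTwo.eq_def.{0}
  have := (fun _ => trivial : _ → True) @Cfsg.IsCoveringGroupOfLieTypeTwo.congr_simp.{0}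
  have := (fun _ => trivial : _ → True) @Cfsg.IsNeighborWrt.eq_1.{0}
  have := (fun _ => trivial : _ → True) @Cfsg.IsNeighborWrt.eq_def.{0}
  have := (fun _ => trivial : _ → True) @Cfsg.IsNeighborWrt.congr_simp.{0}
  have := (fun _ => trivial : _ → True) @Cfsg.LieFamilyTwo.A.elim.eq_1.{0}
  have := (fun _ => trivial : _ → True) @Cfsg.LieFamilyTwo.A.elim.eq_def.{0}
  have := (fun _ => trivial : _ → True) @Cfsg.LieFamilyTwo.A.elim.congr_simp.{0}
  have := (fun _ => trivial : _ → True) @Cfsg.InducesInnerDiagonal.eq_1.{0}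
  have := (fun _ => trivial : _ → True) @Cfsg.InducesInnerDiagonal.eq_def.{0}
  have := (fun _ => trivial : _ → True) @Cfsg.InducesInnerDiagonal.congr_simp.{0}
  have := (fun _ => trivial : _ → True) @Cfsg.LieFamilyTwo.ctorElim.eq_1.{0}
  have := (fun _ => trivial : _ → True) @Cfsg.LieFamilyTwo.ctorElim.eq_def.{0}
  have := (fun _ => trivial : _ → True) @Cfsg.LieFamilyTwo.ctorElim.congr_simp.{0}
  have := (fun _ => trivial : _ → True) @Cfsg.LieFamilyTwo.E8.elim.eq_1.{0}
  have := (fun _ => trivial : _ → True) @Cfsg.LieFamilyTwo.E8.elim.eq_def.{0}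
  have := (fun _ => trivial : _ → True) @Cfsg.LieFamilyTwo.E8.elim.congr_simp.{0}
  have := (fun _ => trivial : _ → True) @Cfsg.SplitsType.eq_1
  have := (fun _ => trivial : _ → True) @Cfsg.SplitsType.eq_def
  have := (fun _ => trivial : _ → True) @Cfsg.SplitsType.congr_simp
  have := (fun _ => trivial : _ → True) @Cfsg.IsFieldAutPSUOf.eq_1.{0}
  have := (fun _ => trivial : _ → True) @Cfsg.IsFieldAutPSUOf.eq_def.{0}
  have := (fun _ => trivial : _ → True) @Cfsg.IsFieldAutPSUOf.congr_simp.{0}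
  have := (fun _ => trivial : _ → True) @Cfsg.instDecidableEqLieFamilyTwo.decEq.eq_1
  have := (fun _ => trivial : _ → True) @Cfsg.instDecidableEqLieFamilyTwo.decEq.eq_def
  have := (fun _ => trivial : _ → True) @Cfsg.instDecidableEqLieFamilyTwo.decEq.congr_simp
  have := (fun _ => trivial : _ → True) @Cfsg.LieFamilyTwo.twistedA.elim.eq_1.{0}
  have := (fun _ => trivial : _ → True) @Cfsg.LieFamilyTwo.twistedA.elim.eq_def.{0}
  have := (fun _ => trivial : _ → True) @Cfsg.LieFamilyTwo.twistedA.elim.congr_simp.{0}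
  have := (fun _ => trivial : _ → True) @Cfsg.Lie.IsEntrywiseFieldAutOnOf.eq_1.{0}
  have := (fun _ => trivial : _ → True) @Cfsg.Lie.IsEntrywiseFieldAutOnOf.eq_def.{0}
  have := (fun _ => trivial : _ → True) @Cfsg.Lie.IsEntrywiseFieldAutOnOf.congr_simp.{0}
  have := (fun _ => trivial : _ → True) @Cfsg.IsChevalleyGroupOfType.eq_1.{0}
  have := (fun _ => trivial : _ → True) @Cfsg.IsChevalleyGroupOfType.eq_2.{0}
  have := (fun _ => trivial : _ → True) @Cfsg.IsChevalleyGroupOfType.eq_3.{0}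
  have := (fun _ => trivial : _ → True) @Cfsg.IsChevalleyGroupOfType.eq_4.{0}
  have := (fun _ => trivial : _ → True) @Cfsg.IsChevalleyGroupOfType.eq_5.{0}
  have := (fun _ => trivial : _ → True) @Cfsg.IsChevalleyGroupOfType.eq_6.{0}
  have := (fun _ => trivial : _ → True) @Cfsg.IsChevalleyGroupOfType.eq_7.{0}
  have := (fun _ => trivial : _ → True) @Cfsg.IsChevalleyGroupOfType.eq_8.{0}
  have := (fun _ => trivial : _ → True) @Cfsg.IsChevalleyGroupOfType.eq_9.{0}
  have := (fun _ => trivial : _ → True) @Cfsg.IsChevalleyGroupOfType.eq_10.{0}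
  have := (fun _ => trivial : _ → True) @Cfsg.IsChevalleyGroupOfType.eq_11.{0}
  have := (fun _ => trivial : _ → True) @Cfsg.IsChevalleyGroupOfType.eq_12.{0}
  have := (fun _ => trivial : _ → True) @Cfsg.IsChevalleyGroupOfType.eq_13.{0}
  have := (fun _ => trivial : _ → True) @Cfsg.IsChevalleyGroupOfType.eq_14.{0}
  have := (fun _ => trivial : _ → True) @Cfsg.IsChevalleyGroupOfType.eq_def.{0}
  have := (fun _ => trivial : _ → True) @Cfsg.IsChevalleyGroupOfType.congr_simp.{0}
  have := (fun _ => trivial : _ → True) @Cfsg.IsChevalleyGroupOfType.fun_cases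
  have := (fun _ => trivial : _ → True) @Cfsg.IsChevalleyGroupOfType.fun_cases_unfolding.{0}
  have := (fun _ => trivial : _ → True) @Cfsg.LieFamilyTwo.E7.elim.eq_1.{0}
  have := (fun _ => trivial : _ → True) @Cfsg.LieFamilyTwo.E7.elim.eq_def.{0}
  have := (fun _ => trivial : _ → True) @Cfsg.LieFamilyTwo.E7.elim.congr_simp.{0}
  have := (fun _ => trivial : _ → True) @Cfsg.IsStandardSubcomponent.eq_1.{0}
  have := (fun _ => trivial : _ → True) @Cfsg.IsStandardSubcomponent.eq_def.{0}
  have := (fun _ => trivial : _ → True) @Cfsg.IsStandardSubcomponent.congr_simp.{0}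
  have := (fun _ => trivial : _ → True) @Cfsg.IsInnerDiagonalAutCharTwo.eq_1.{0}
  have := (fun _ => trivial : _ → True) @Cfsg.IsInnerDiagonalAutCharTwo.eq_def.{0}
  have := (fun _ => trivial : _ → True) @Cfsg.IsInnerDiagonalAutCharTwo.congr_simp.{0}
  have := (fun _ => trivial : _ → True) @Cfsg.LieFamilyTwo.trialityD4.elim.eq_1.{0}
  have := (fun _ => trivial : _ → True) @Cfsg.LieFamilyTwo.trialityD4.elim.eq_def.{0}
  have := (fun _ => trivial : _ → True) @Cfsg.LieFamilyTwo.trialityD4.elim.congr_simp.{0}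
  have := (fun _ => trivial : _ → True) @Cfsg.InSStar.eq_1.{0}
  have := (fun _ => trivial : _ → True) @Cfsg.InSStar.eq_def.{0}
  have := (fun _ => trivial : _ → True) @Cfsg.InSStar.congr_simp.{0}
  have := (fun _ => trivial : _ → True) @Cfsg.Lie.ChevalleyDatum.IsInnerDiagonalAutOn.eq_1.{0}
  have := (fun _ => trivial : _ → True) @Cfsg.Lie.ChevalleyDatum.IsInnerDiagonalAutOn.eq_def.{0}
  have := (fun _ => trivial : _ → True) @Cfsg.Lie.ChevalleyDatum.IsInnerDiagonalAutOn.congr_simp.{0}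
  have := (fun _ => trivial : _ → True) @Cfsg.LieFamilyTwo.B.elim.eq_1.{0}
  have := (fun _ => trivial : _ → True) @Cfsg.LieFamilyTwo.B.elim.eq_def.{0}
  have := (fun _ => trivial : _ → True) @Cfsg.LieFamilyTwo.B.elim.congr_simp.{0}
  have := (fun _ => trivial : _ → True) @Cfsg.LieFamilyTwo.ctorElimType.eq_1.{0}
  have := (fun _ => trivial : _ → True) @Cfsg.LieFamilyTwo.ctorElimType.eq_def.{0}
  have := (fun _ => trivial : _ → True) @Cfsg.LieFamilyTwo.ctorElimType.congr_simp.{0}
  have := (fun _ => trivial : _ → True) @Cfsg.IsOfStandardType.eq_1.{0}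
  have := (fun _ => trivial : _ → True) @Cfsg.IsOfStandardType.eq_def.{0}
  have := (fun _ => trivial : _ → True) @Cfsg.IsOfStandardType.congr_simp.{0}
  have := (fun _ => trivial : _ → True) @Cfsg.LieFamilyTwo.casesOn.eq_1.{0}
  have := (fun _ => trivial : _ → True) @Cfsg.LieFamilyTwo.casesOn.eq_def.{0}
  have := (fun _ => trivial : _ → True) @Cfsg.LieFamilyTwo.casesOn.congr_simp.{0}
  have := (fun _ => trivial : _ → True) @Cfsg.IsStandardSubcomponentCore.eq_1.{0}
  have := (fun _ => trivial : _ → True) @Cfsg.IsStandardSubcomponentCore.eq_def.{0}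
  have := (fun _ => trivial : _ → True) @Cfsg.IsStandardSubcomponentCore.congr_simp.{0}
  have := (fun _ => trivial : _ → True) @Cfsg.IsUnitaryFourTwoOrAltSix.eq_1.{0}
  have := (fun _ => trivial : _ → True) @Cfsg.IsUnitaryFourTwoOrAltSix.eq_def.{0}
  have := (fun _ => trivial : _ → True) @Cfsg.IsUnitaryFourTwoOrAltSix.congr_simp.{0}
  have := (fun _ => trivial : _ → True) @Cfsg.InSHat.eq_1.{0}
  have := (fun _ => trivial : _ → True) @Cfsg.InSHat.eq_def.{0}
  have := (fun _ => trivial : _ → True) @Cfsg.InSHat.congr_simp.{0}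
  have := (fun _ => trivial : _ → True) @Cfsg.LieFamilyTwo.E6.elim.eq_1.{0}
  have := (fun _ => trivial : _ → True) @Cfsg.LieFamilyTwo.E6.elim.eq_def.{0}
  have := (fun _ => trivial : _ → True) @Cfsg.LieFamilyTwo.E6.elim.congr_simp.{0}
  have := (fun _ => trivial : _ → True) @Cfsg.IsFieldAutPSL.eq_1.{0}
  have := (fun _ => trivial : _ → True) @Cfsg.IsFieldAutPSL.eq_def.{0}
  have := (fun _ => trivial : _ → True) @Cfsg.IsFieldAutPSL.congr_simp.{0}
  have := (fun _ => trivial : _ → True) @Cfsg.InducesNontrivialFieldAut.eq_1.{0}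
  have := (fun _ => trivial : _ → True) @Cfsg.InducesNontrivialFieldAut.eq_def.{0}
  have := (fun _ => trivial : _ → True) @Cfsg.InducesNontrivialFieldAut.congr_simp.{0}
  have := (fun _ => trivial : _ → True) @Cfsg.Splits.eq_1.{0}
  have := (fun _ => trivial : _ → True) @Cfsg.Splits.eq_def.{0}
  have := (fun _ => trivial : _ → True) @Cfsg.Splits.congr_simp.{0}
  have := (fun _ => trivial : _ → True) @Cfsg.subgroupLayer.eq_1.{0}
  have := (fun _ => trivial : _ → True) @Cfsg.subgroupLayer.eq_def.{0}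
  have := (fun _ => trivial : _ → True) @Cfsg.subgroupLayer.congr_simp.{0}
  have := (fun _ => trivial : _ → True) @Cfsg.LieFamilyTwo.F4.elim.eq_1.{0}
  have := (fun _ => trivial : _ → True) @Cfsg.LieFamilyTwo.F4.elim.eq_def.{0}
  have := (fun _ => trivial : _ → True) @Cfsg.LieFamilyTwo.F4.elim.congr_simp.{0}
  have := (fun _ => trivial : _ → True) @Cfsg.IsFieldAutPSp.eq_1.{0}
  have := (fun _ => trivial : _ → True) @Cfsg.IsFieldAutPSp.eq_def.{0}
  have := (fun _ => trivial : _ → True) @Cfsg.IsFieldAutPSp.congr_simp.{0}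
  have := (fun _ => trivial : _ → True) @Cfsg.IsNeighbor.eq_1.{0}
  have := (fun _ => trivial : _ → True) @Cfsg.IsNeighbor.eq_def.{0}
  have := (fun _ => trivial : _ → True) @Cfsg.IsNeighbor.congr_simp.{0}
  have := (fun _ => trivial : _ → True) @Cfsg.IsInnerAut.eq_1.{0}
  have := (fun _ => trivial : _ → True) @Cfsg.IsInnerAut.eq_def.{0}
  have := (fun _ => trivial : _ → True) @Cfsg.IsInnerAut.congr_simp.{0}
  have := (fun _ => trivial : _ → True) @Cfsg.LieFamilyTwo.D.elim.eq_1.{0}
  have := (fun _ => trivial : _ → True) @Cfsg.LieFamilyTwo.D.elim.eq_def.{0}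
  have := (fun _ => trivial : _ → True) @Cfsg.LieFamilyTwo.D.elim.congr_simp.{0}
  have := (fun _ => trivial : _ → True) @Cfsg.LieFamilyTwo.G2.elim.eq_1.{0}
  have := (fun _ => trivial : _ → True) @Cfsg.LieFamilyTwo.G2.elim.eq_def.{0}
  have := (fun _ => trivial : _ → True) @Cfsg.LieFamilyTwo.G2.elim.congr_simp.{0}
  have := (fun _ => trivial : _ → True) @Cfsg.instDecidableEqLieFamilyTwo.eq_1
  have := (fun _ => trivial : _ → True) @Cfsg.instDecidableEqLieFamilyTwo.eq_def
  have := (fun _ => trivial : _ → True) @Cfsg.instDecidableEqLieFamilyTwo.congr_simp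
  have := (fun _ => trivial : _ → True) @Cfsg.LieFamilyTwo.twistedE6.elim.eq_1.{0}
  have := (fun _ => trivial : _ → True) @Cfsg.LieFamilyTwo.twistedE6.elim.eq_def.{0}
  have := (fun _ => trivial : _ → True) @Cfsg.LieFamilyTwo.twistedE6.elim.congr_simp.{0}
  have := (fun _ => trivial : _ → True) @Cfsg.LieFamilyTwo.suzuki.elim.eq_1.{0}
  have := (fun _ => trivial : _ → True) @Cfsg.LieFamilyTwo.suzuki.elim.eq_def.{0}
  have := (fun _ => trivial : _ → True) @Cfsg.LieFamilyTwo.suzuki.elim.congr_simp.{0}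
  have := (fun _ => trivial : _ → True) @Cfsg.HalfSplits.eq_1.{0}
  have := (fun _ => trivial : _ → True) @Cfsg.HalfSplits.eq_def.{0}
  have := (fun _ => trivial : _ → True) @Cfsg.HalfSplits.congr_simp.{0}
  trivial
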