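import Cfsg.Prelude.Def_LieTypeDatum
import Cfsg.Agent.Eq.Def_StandardType
import Cfsg.Agent.Eq.Def_GeometricClasses
import Cfsg.Agent.Eq.Def_KGroupFacts

/-! Pre-generates on-demand lemmas for the definitions, so that importers share one copy. -/

theorem CfsgLib.Eq.Def_LieTypeDatum.touch : True := by
  have := (fun _ => trivial : _ → True) @Cfsg.splitClassCount.eq_1.{0}
  have := (fun _ => trivial : _ → True) @Cfsg.splitClassCount.eq_def.{0}
  have := (fun _ => trivial : _ → True) @Cfsg.splitClassCount.congr_simp.{0}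
  have := (fun _ => trivial : _ → True) @Cfsg.IsIsometryInducedAutPOmega.eq_1.{0}
  have := (fun _ => trivial : _ → True) @Cfsg.IsIsometryInducedAutPOmega.eq_def.{0}
  have := (fun _ => trivial : _ → True) @Cfsg.IsIsometryInducedAutPOmega.congr_simp.{0}
  have := (fun _ => trivial : _ → True) @Cfsg.IsFieldAutClassPOmegaMinus.eq_1.{0}
  have := (fun _ => trivial : _ → True) @Cfsg.IsFieldAutClassPOmegaMinus.eq_def.{0}
  have := (fun _ => trivial : _ → True) @Cfsg.IsFieldAutClassPOmegaMinus.congr_simp.{0}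
  have := (fun _ => trivial : _ → True) @Cfsg.LieFamily.E7.elim.eq_1.{0}
  have := (fun _ => trivial : _ → True) @Cfsg.LieFamily.E7.elim.eq_def.{0}
  have := (fun _ => trivial : _ → True) @Cfsg.LieFamily.E7.elim.congr_simp.{0}
  have := (fun _ => trivial : _ → True) @Cfsg.LieFamily.twistedE6.elim.eq_1.{0}
  have := (fun _ => trivial : _ → True) @Cfsg.LieFamily.twistedE6.elim.eq_def.{0}
  have := (fun _ => trivial : _ → True) @Cfsg.LieFamily.twistedE6.elim.congr_simp.{0}
  have := (fun _ => trivial : _ → True) @Cfsg.LieFamily.suzuki.elim.eq_1.{0}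
  have := (fun _ => trivial : _ → True) @Cfsg.LieFamily.suzuki.elim.eq_def.{0}
  have := (fun _ => trivial : _ → True) @Cfsg.LieFamily.suzuki.elim.congr_simp.{0}
  have := (fun _ => trivial : _ → True) @Cfsg.IsInducedBySemilinearPSU.eq_1.{0}
  have := (fun _ => trivial : _ → True) @Cfsg.IsInducedBySemilinearPSU.eq_def.{0}
  have := (fun _ => trivial : _ → True) @Cfsg.IsInducedBySemilinearPSU.congr_simp.{0}
  have := (fun _ => trivial : _ → True) @Cfsg.IsInnerDiagonalAutOfType.eq_1.{0}
  have := (fun _ => trivial : _ → True) @Cfsg.IsInnerDiagonalAutOfType.eq_2.{0}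
  have := (fun _ => trivial : _ → True) @Cfsg.IsInnerDiagonalAutOfType.eq_3.{0}
  have := (fun _ => trivial : _ → True) @Cfsg.IsInnerDiagonalAutOfType.eq_4.{0}
  have := (fun _ => trivial : _ → True) @Cfsg.IsInnerDiagonalAutOfType.eq_5.{0}
  have := (fun _ => trivial : _ → True) @Cfsg.IsInnerDiagonalAutOfType.eq_6.{0}
  have := (fun _ => trivial : _ → True) @Cfsg.IsInnerDiagonalAutOfType.eq_7.{0}
  have := (fun _ => trivial : _ → True) @Cfsg.IsInnerDiagonalAutOfType.eq_8.{0}
  have := (fun _ => trivial : _ → True) @Cfsg.IsInnerDiagonalAutOfType.eq_9.{0}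
  have := (fun _ => trivial : _ → True) @Cfsg.IsInnerDiagonalAutOfType.eq_10.{0}
  have := (fun _ => trivial : _ → True) @Cfsg.IsInnerDiagonalAutOfType.eq_11.{0}
  have := (fun _ => trivial : _ → True) @Cfsg.IsInnerDiagonalAutOfType.eq_12.{0}
  have := (fun _ => trivial : _ → True) @Cfsg.IsInnerDiagonalAutOfType.eq_13.{0}
  have := (fun _ => trivial : _ → True) @Cfsg.IsInnerDiagonalAutOfType.eq_14.{0}
  have := (fun _ => trivial : _ → True) @Cfsg.IsInnerDiagonalAutOfType.eq_15.{0}
  have := (fun _ => trivial : _ → True) @Cfsg.IsInnerDiagonalAutOfType.eq_16.{0}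
  have := (fun _ => trivial : _ → True) @Cfsg.IsInnerDiagonalAutOfType.eq_def.{0}
  have := (fun _ => trivial : _ → True) @Cfsg.IsInnerDiagonalAutOfType.congr_simp.{0}
  have := (fun _ => trivial : _ → True) @Cfsg.IsInnerDiagonalAutOfType.fun_cases
  have := (fun _ => trivial : _ → True) @Cfsg.IsInnerDiagonalAutOfType.fun_cases_unfolding.{0}
  have := (fun _ => trivial : _ → True) @Cfsg.IsSimilarityGraphAutPOmegaPlus.eq_1.{0}
  have := (fun _ => trivial : _ → True) @Cfsg.IsSimilarityGraphAutPOmegaPlus.eq_def.{0}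
  have := (fun _ => trivial : _ → True) @Cfsg.IsSimilarityGraphAutPOmegaPlus.congr_simp.{0}
  have := (fun _ => trivial : _ → True) @Cfsg.GSp.eq_1.{0}
  have := (fun _ => trivial : _ → True) @Cfsg.GSp.eq_def.{0}
  have := (fun _ => trivial : _ → True) @Cfsg.GSp.congr_simp.{0}
  have := (fun _ => trivial : _ → True) @Cfsg.LieFamily.A.elim.eq_1.{0}
  have := (fun _ => trivial : _ → True) @Cfsg.LieFamily.A.elim.eq_def.{0}
  have := (fun _ => trivial : _ → True) @Cfsg.LieFamily.A.elim.congr_simp.{0}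
  have := (fun _ => trivial : _ → True) @Cfsg.IsInducedBySemilinearPSL.eq_1.{0}
  have := (fun _ => trivial : _ → True) @Cfsg.IsInducedBySemilinearPSL.eq_def.{0}
  have := (fun _ => trivial : _ → True) @Cfsg.IsInducedBySemilinearPSL.congr_simp.{0}
  have := (fun _ => trivial : _ → True) @Cfsg.transportAut.eq_1.{0,0}
  have := (fun _ => trivial : _ → True) @Cfsg.transportAut.eq_def.{0,0}
  have := (fun _ => trivial : _ → True) @Cfsg.transportAut.congr_simp.{0,0}
  have := (fun _ => trivial : _ → True) @Cfsg.PGU.eq_1.{0}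
  have := (fun _ => trivial : _ → True) @Cfsg.PGU.eq_def.{0}
  have := (fun _ => trivial : _ → True) @Cfsg.PGU.congr_simp.{0}
  have := (fun _ => trivial : _ → True) @Cfsg.SameParityClass.eq_1.{0}
  have := (fun _ => trivial : _ → True) @Cfsg.SameParityClass.eq_def.{0}
  have := (fun _ => trivial : _ → True) @Cfsg.SameParityClass.congr_simp.{0}
  have := (fun _ => trivial : _ → True) @Cfsg.IsFieldAutClassPSp.eq_1.{0}
  have := (fun _ => trivial : _ → True) @Cfsg.IsFieldAutClassPSp.eq_def.{0}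
  have := (fun _ => trivial : _ → True) @Cfsg.IsFieldAutClassPSp.congr_simp.{0}
  have := (fun _ => trivial : _ → True) @Cfsg.LieFamily.casesOn.eq_1.{0}
  have := (fun _ => trivial : _ → True) @Cfsg.LieFamily.casesOn.eq_def.{0}
  have := (fun _ => trivial : _ → True) @Cfsg.LieFamily.casesOn.congr_simp.{0}
  have := (fun _ => trivial : _ → True) @Cfsg.gammaPSp.eq_1.{0}
  have := (fun _ => trivial : _ → True) @Cfsg.gammaPSp.eq_def.{0}
  have := (fun _ => trivial : _ → True) @Cfsg.gammaPSp.congr_simp.{0}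
  have := (fun _ => trivial : _ → True) @Cfsg.IsFieldAutClassPSU.eq_1.{0}
  have := (fun _ => trivial : _ → True) @Cfsg.IsFieldAutClassPSU.eq_def.{0}
  have := (fun _ => trivial : _ → True) @Cfsg.IsFieldAutClassPSU.congr_simp.{0}
  have := (fun _ => trivial : _ → True) @Cfsg.PreservesSingularClassesMinus.eq_1.{0}
  have := (fun _ => trivial : _ → True) @Cfsg.PreservesSingularClassesMinus.eq_def.{0}
  have := (fun _ => trivial : _ → True) @Cfsg.PreservesSingularClassesMinus.congr_simp.{0}
  have := (fun _ => trivial : _ → True) @Cfsg.IsInducedBySemilinearPOmega.eq_1.{0}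
  have := (fun _ => trivial : _ → True) @Cfsg.IsInducedBySemilinearPOmega.eq_def.{0}
  have := (fun _ => trivial : _ → True) @Cfsg.IsInducedBySemilinearPOmega.congr_simp.{0}
  have := (fun _ => trivial : _ → True) @Cfsg.IsGraphAutClassPOmegaMinus.eq_1.{0}
  have := (fun _ => trivial : _ → True) @Cfsg.IsGraphAutClassPOmegaMinus.eq_def.{0}
  have := (fun _ => trivial : _ → True) @Cfsg.IsGraphAutClassPOmegaMinus.congr_simp.{0}
  have := (fun _ => trivial : _ → True) @Cfsg.IsGraphFieldAutClassPOmegaPlus.eq_1.{0}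
  have := (fun _ => trivial : _ → True) @Cfsg.IsGraphFieldAutClassPOmegaPlus.eq_def.{0}
  have := (fun _ => trivial : _ → True) @Cfsg.IsGraphFieldAutClassPOmegaPlus.congr_simp.{0}
  have := (fun _ => trivial : _ → True) @Cfsg.PO.eq_1.{0}
  have := (fun _ => trivial : _ → True) @Cfsg.PO.eq_def.{0}
  have := (fun _ => trivial : _ → True) @Cfsg.PO.congr_simp.{0}
  have := (fun _ => trivial : _ → True) @Cfsg.LieFamily.ctorElimType.eq_1.{0}
  have := (fun _ => trivial : _ → True) @Cfsg.LieFamily.ctorElimType.eq_def.{0}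
  have := (fun _ => trivial : _ → True) @Cfsg.LieFamily.ctorElimType.congr_simp.{0}
  have := (fun _ => trivial : _ → True) @Cfsg.IsSimilarityInducedAutPOmega.eq_1.{0}
  have := (fun _ => trivial : _ → True) @Cfsg.IsSimilarityInducedAutPOmega.eq_def.{0}
  have := (fun _ => trivial : _ → True) @Cfsg.IsSimilarityInducedAutPOmega.congr_simp.{0}
  have := (fun _ => trivial : _ → True) @Cfsg.LieFamily.E6.elim.eq_1.{0}
  have := (fun _ => trivial : _ → True) @Cfsg.LieFamily.E6.elim.eq_def.{0}
  have := (fun _ => trivial : _ → True) @Cfsg.LieFamily.E6.elim.congr_simp.{0}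
  have := (fun _ => trivial : _ → True) @Cfsg.IsSemisimilarityPair.eq_1.{0}
  have := (fun _ => trivial : _ → True) @Cfsg.IsSemisimilarityPair.eq_def.{0}
  have := (fun _ => trivial : _ → True) @Cfsg.IsSemisimilarityPair.congr_simp.{0}
  have := (fun _ => trivial : _ → True) @Cfsg.inndiagPOmegaMinus.eq_1.{0}
  have := (fun _ => trivial : _ → True) @Cfsg.inndiagPOmegaMinus.eq_def.{0}
  have := (fun _ => trivial : _ → True) @Cfsg.inndiagPOmegaMinus.congr_simp.{0}
  have := (fun _ => trivial : _ → True) @Cfsg.specialIsometryGL.eq_1.{0}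
  have := (fun _ => trivial : _ → True) @Cfsg.specialIsometryGL.eq_def.{0}
  have := (fun _ => trivial : _ → True) @Cfsg.specialIsometryGL.congr_simp.{0}
  have := (fun _ => trivial : _ → True) @Cfsg.IsGraphAutClassPSU.eq_1.{0}
  have := (fun _ => trivial : _ → True) @Cfsg.IsGraphAutClassPSU.eq_def.{0}
  have := (fun _ => trivial : _ → True) @Cfsg.IsGraphAutClassPSU.congr_simp.{0}
  have := (fun _ => trivial : _ → True) @Cfsg.Lie.ChevalleyDatum.inndiag.eq_1.{0}
  have := (fun _ => trivial : _ → True) @Cfsg.Lie.ChevalleyDatum.inndiag.eq_def.{0}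
  have := (fun _ => trivial : _ → True) @Cfsg.Lie.ChevalleyDatum.inndiag.congr_simp.{0}
  have := (fun _ => trivial : _ → True) @Cfsg.IsStdFieldAutPSp.eq_1.{0}
  have := (fun _ => trivial : _ → True) @Cfsg.IsStdFieldAutPSp.eq_def.{0}
  have := (fun _ => trivial : _ → True) @Cfsg.IsStdFieldAutPSp.congr_simp.{0}
  have := (fun _ => trivial : _ → True) @Cfsg.gammaPSU.eq_1.{0}
  have := (fun _ => trivial : _ → True) @Cfsg.gammaPSU.eq_def.{0}
  have := (fun _ => trivial : _ → True) @Cfsg.gammaPSU.congr_simp.{0}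
  have := (fun _ => trivial : _ → True) @Cfsg.imageSubmodule.eq_1.{0}
  have := (fun _ => trivial : _ → True) @Cfsg.imageSubmodule.eq_def.{0}
  have := (fun _ => trivial : _ → True) @Cfsg.imageSubmodule.congr_simp.{0}
  have := (fun _ => trivial : _ → True) @Cfsg.PGSp.eq_1.{0}
  have := (fun _ => trivial : _ → True) @Cfsg.PGSp.eq_def.{0}
  have := (fun _ => trivial : _ → True) @Cfsg.PGSp.congr_simp.{0}
  have := (fun _ => trivial : _ → True) @Cfsg.LieFamily.B.elim.eq_1.{0}
  have := (fun _ => trivial : _ → True) @Cfsg.LieFamily.B.elim.eq_def.{0}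
  have := (fun _ => trivial : _ → True) @Cfsg.LieFamily.B.elim.congr_simp.{0}
  have := (fun _ => trivial : _ → True) @Cfsg.LieFamily.twistedD.elim.eq_1.{0}
  have := (fun _ => trivial : _ → True) @Cfsg.LieFamily.twistedD.elim.eq_def.{0}
  have := (fun _ => trivial : _ → True) @Cfsg.LieFamily.twistedD.elim.congr_simp.{0}
  have := (fun _ => trivial : _ → True) @Cfsg.IsInnerDiagonalAutPOmegaMinus.eq_1.{0}
  have := (fun _ => trivial : _ → True) @Cfsg.IsInnerDiagonalAutPOmegaMinus.eq_def.{0}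
  have := (fun _ => trivial : _ → True) @Cfsg.IsInnerDiagonalAutPOmegaMinus.congr_simp.{0}
  have := (fun _ => trivial : _ → True) @Cfsg.IsInverseTransposeAutPSL.eq_1.{0}
  have := (fun _ => trivial : _ → True) @Cfsg.IsInverseTransposeAutPSL.eq_def.{0}
  have := (fun _ => trivial : _ → True) @Cfsg.IsInverseTransposeAutPSL.congr_simp.{0}
  have := (fun _ => trivial : _ → True) @Cfsg.inndiagPSL.eq_1.{0}
  have := (fun _ => trivial : _ → True) @Cfsg.inndiagPSL.eq_def.{0}
  have := (fun _ => trivial : _ → True) @Cfsg.inndiagPSL.congr_simp.{0}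
  have := (fun _ => trivial : _ → True) @Cfsg.PSO.eq_1.{0}
  have := (fun _ => trivial : _ → True) @Cfsg.PSO.eq_def.{0}
  have := (fun _ => trivial : _ → True) @Cfsg.PSO.congr_simp.{0}
  have := (fun _ => trivial : _ → True) @Cfsg.IsOfLieType.eq_1.{0}
  have := (fun _ => trivial : _ → True) @Cfsg.IsOfLieType.eq_2.{0}
  have := (fun _ => trivial : _ → True) @Cfsg.IsOfLieType.eq_3.{0}
  have := (fun _ => trivial : _ → True) @Cfsg.IsOfLieType.eq_4.{0}
  have := (fun _ => trivial : _ → True) @Cfsg.IsOfLieType.eq_5.{0}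
  have := (fun _ => trivial : _ → True) @Cfsg.IsOfLieType.eq_6.{0}
  have := (fun _ => trivial : _ → True) @Cfsg.IsOfLieType.eq_7.{0}
  have := (fun _ => trivial : _ → True) @Cfsg.IsOfLieType.eq_8.{0}
  have := (fun _ => trivial : _ → True) @Cfsg.IsOfLieType.eq_9.{0}
  have := (fun _ => trivial : _ → True) @Cfsg.IsOfLieType.eq_10.{0}
  have := (fun _ => trivial : _ → True) @Cfsg.IsOfLieType.eq_11.{0}
  have := (fun _ => trivial : _ → True) @Cfsg.IsOfLieType.eq_12.{0}
  have := (fun _ => trivial : _ → True) @Cfsg.IsOfLieType.eq_13.{0}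
  have := (fun _ => trivial : _ → True) @Cfsg.IsOfLieType.eq_14.{0}
  have := (fun _ => trivial : _ → True) @Cfsg.IsOfLieType.eq_15.{0}
  have := (fun _ => trivial : _ → True) @Cfsg.IsOfLieType.eq_16.{0}
  have := (fun _ => trivial : _ → True) @Cfsg.IsOfLieType.eq_def.{0}
  have := (fun _ => trivial : _ → True) @Cfsg.IsOfLieType.congr_simp.{0}
  have := (fun _ => trivial : _ → True) @Cfsg.IsOfLieType.fun_cases
  have := (fun _ => trivial : _ → True) @Cfsg.IsOfLieType.fun_cases_unfolding.{0}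
  have := (fun _ => trivial : _ → True) @Cfsg.instDecidableEqLieFamily.eq_1
  have := (fun _ => trivial : _ → True) @Cfsg.instDecidableEqLieFamily.eq_def
  have := (fun _ => trivial : _ → True) @Cfsg.instDecidableEqLieFamily.congr_simp
  have := (fun _ => trivial : _ → True) @Cfsg.LieFamily.ctorElim.eq_1.{0}
  have := (fun _ => trivial : _ → True) @Cfsg.LieFamily.ctorElim.eq_def.{0}
  have := (fun _ => trivial : _ → True) @Cfsg.LieFamily.ctorElim.congr_simp.{0}
  have := (fun _ => trivial : _ → True) @Cfsg.IsMaxTotallySingular.eq_1.{0}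
  have := (fun _ => trivial : _ → True) @Cfsg.IsMaxTotallySingular.eq_def.{0}
  have := (fun _ => trivial : _ → True) @Cfsg.IsMaxTotallySingular.congr_simp.{0}
  have := (fun _ => trivial : _ → True) @Cfsg.PGO.eq_1.{0}
  have := (fun _ => trivial : _ → True) @Cfsg.PGO.eq_def.{0}
  have := (fun _ => trivial : _ → True) @Cfsg.PGO.congr_simp.{0}
  have := (fun _ => trivial : _ → True) @Cfsg.PreservesSingularClasses.eq_1.{0}
  have := (fun _ => trivial : _ → True) @Cfsg.PreservesSingularClasses.eq_def.{0}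
  have := (fun _ => trivial : _ → True) @Cfsg.PreservesSingularClasses.congr_simp.{0}
  have := (fun _ => trivial : _ → True) @Cfsg.LieFamily.C.elim.eq_1.{0}
  have := (fun _ => trivial : _ → True) @Cfsg.LieFamily.C.elim.eq_def.{0}
  have := (fun _ => trivial : _ → True) @Cfsg.LieFamily.C.elim.congr_simp.{0}
  have := (fun _ => trivial : _ → True) @Cfsg.IsConjUnder.eq_1.{0}
  have := (fun _ => trivial : _ → True) @Cfsg.IsConjUnder.eq_def.{0}
  have := (fun _ => trivial : _ → True) @Cfsg.IsConjUnder.congr_simp.{0}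
  have := (fun _ => trivial : _ → True) @Cfsg.LieFamily.G2.elim.eq_1.{0}
  have := (fun _ => trivial : _ → True) @Cfsg.LieFamily.G2.elim.eq_def.{0}
  have := (fun _ => trivial : _ → True) @Cfsg.LieFamily.G2.elim.congr_simp.{0}
  have := (fun _ => trivial : _ → True) @Cfsg.LieFamily.twistedA.elim.eq_1.{0}
  have := (fun _ => trivial : _ → True) @Cfsg.LieFamily.twistedA.elim.eq_def.{0}
  have := (fun _ => trivial : _ → True) @Cfsg.LieFamily.twistedA.elim.congr_simp.{0}
  have := (fun _ => trivial : _ → True) @Cfsg.pgoAut.eq_1.{0}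
  have := (fun _ => trivial : _ → True) @Cfsg.pgoAut.eq_def.{0}
  have := (fun _ => trivial : _ → True) @Cfsg.pgoAut.congr_simp.{0}
  have := (fun _ => trivial : _ → True) @Cfsg.inndiagPSU.eq_1.{0}
  have := (fun _ => trivial : _ → True) @Cfsg.inndiagPSU.eq_def.{0}
  have := (fun _ => trivial : _ → True) @Cfsg.inndiagPSU.congr_simp.{0}
  have := (fun _ => trivial : _ → True) @Cfsg.IsGraphAutClassPSL.eq_1.{0}
  have := (fun _ => trivial : _ → True) @Cfsg.IsGraphAutClassPSL.eq_def.{0}
  have := (fun _ => trivial : _ → True) @Cfsg.IsGraphAutClassPSL.congr_simp.{0}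
  have := (fun _ => trivial : _ → True) @Cfsg.LieFamily.E8.elim.eq_1.{0}
  have := (fun _ => trivial : _ → True) @Cfsg.LieFamily.E8.elim.eq_def.{0}
  have := (fun _ => trivial : _ → True) @Cfsg.LieFamily.E8.elim.congr_simp.{0}
  have := (fun _ => trivial : _ → True) @Cfsg.IsFieldAutClassPSL.eq_1.{0}
  have := (fun _ => trivial : _ → True) @Cfsg.IsFieldAutClassPSL.eq_def.{0}
  have := (fun _ => trivial : _ → True) @Cfsg.IsFieldAutClassPSL.congr_simp.{0}
  have := (fun _ => trivial : _ → True) @Cfsg.gammaPSL.eq_1.{0}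
  have := (fun _ => trivial : _ → True) @Cfsg.gammaPSL.eq_def.{0}
  have := (fun _ => trivial : _ → True) @Cfsg.gammaPSL.congr_simp.{0}
  have := (fun _ => trivial : _ → True) @Cfsg.LieFamily.D.elim.eq_1.{0}
  have := (fun _ => trivial : _ → True) @Cfsg.LieFamily.D.elim.eq_def.{0}
  have := (fun _ => trivial : _ → True) @Cfsg.LieFamily.D.elim.congr_simp.{0}
  have := (fun _ => trivial : _ → True) @Cfsg.IsStdFieldAutPSL.eq_1.{0}
  have := (fun _ => trivial : _ → True) @Cfsg.IsStdFieldAutPSL.eq_def.{0}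
  have := (fun _ => trivial : _ → True) @Cfsg.IsStdFieldAutPSL.congr_simp.{0}
  have := (fun _ => trivial : _ → True) @Cfsg.autSubgroupOf.eq_1.{0}
  have := (fun _ => trivial : _ → True) @Cfsg.autSubgroupOf.eq_def.{0}
  have := (fun _ => trivial : _ → True) @Cfsg.autSubgroupOf.congr_simp.{0}
  have := (fun _ => trivial : _ → True) @Cfsg.LieFamily.reeF4.elim.eq_1.{0}
  have := (fun _ => trivial : _ → True) @Cfsg.LieFamily.reeF4.elim.eq_def.{0}
  have := (fun _ => trivial : _ → True) @Cfsg.LieFamily.reeF4.elim.congr_simp.{0}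
  have := (fun _ => trivial : _ → True) @Cfsg.LieFamily.F4.elim.eq_1.{0}
  have := (fun _ => trivial : _ → True) @Cfsg.LieFamily.F4.elim.eq_def.{0}
  have := (fun _ => trivial : _ → True) @Cfsg.LieFamily.F4.elim.congr_simp.{0}
  have := (fun _ => trivial : _ → True) @Cfsg.IsInnerDiagonalAutPOmegaPlus.eq_1.{0}
  have := (fun _ => trivial : _ → True) @Cfsg.IsInnerDiagonalAutPOmegaPlus.eq_def.{0}
  have := (fun _ => trivial : _ → True) @Cfsg.IsInnerDiagonalAutPOmegaPlus.congr_simp.{0}
  have := (fun _ => trivial : _ → True) @Cfsg.IsGraphFieldAutClassPSL.eq_1.{0}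
  have := (fun _ => trivial : _ → True) @Cfsg.IsGraphFieldAutClassPSL.eq_def.{0}
  have := (fun _ => trivial : _ → True) @Cfsg.IsGraphFieldAutClassPSL.congr_simp.{0}
  have := (fun _ => trivial : _ → True) @Cfsg.Lie.ChevalleyDatum.IsFieldAutClass.eq_1.{0}
  have := (fun _ => trivial : _ → True) @Cfsg.Lie.ChevalleyDatum.IsFieldAutClass.eq_def.{0}
  have := (fun _ => trivial : _ → True) @Cfsg.Lie.ChevalleyDatum.IsFieldAutClass.congr_simp.{0}
  have := (fun _ => trivial : _ → True) @Cfsg.projQuot.eq_1.{0}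
  have := (fun _ => trivial : _ → True) @Cfsg.projQuot.eq_def.{0}
  have := (fun _ => trivial : _ → True) @Cfsg.projQuot.congr_simp.{0}
  have := (fun _ => trivial : _ → True) @Cfsg.IsFieldAutClassPOmega.eq_1.{0}
  have := (fun _ => trivial : _ → True) @Cfsg.IsFieldAutClassPOmega.eq_def.{0}
  have := (fun _ => trivial : _ → True) @Cfsg.IsFieldAutClassPOmega.congr_simp.{0}
  have := (fun _ => trivial : _ → True) @Cfsg.inndiagPOmegaPlus.eq_1.{0}
  have := (fun _ => trivial : _ → True) @Cfsg.inndiagPOmegaPlus.eq_def.{0}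
  have := (fun _ => trivial : _ → True) @Cfsg.inndiagPOmegaPlus.congr_simp.{0}
  have := (fun _ => trivial : _ → True) @Cfsg.IsInnerDiagonalAutPSp.eq_1.{0}
  have := (fun _ => trivial : _ → True) @Cfsg.IsInnerDiagonalAutPSp.eq_def.{0}
  have := (fun _ => trivial : _ → True) @Cfsg.IsInnerDiagonalAutPSp.congr_simp.{0}
  have := (fun _ => trivial : _ → True) @Cfsg.gammaPOmega.eq_1.{0}
  have := (fun _ => trivial : _ → True) @Cfsg.gammaPOmega.eq_def.{0}
  have := (fun _ => trivial : _ → True) @Cfsg.gammaPOmega.congr_simp.{0}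
  have := (fun _ => trivial : _ → True) @Cfsg.IsSpecialIsometryInducedAutPOmega.eq_1.{0}
  have := (fun _ => trivial : _ → True) @Cfsg.IsSpecialIsometryInducedAutPOmega.eq_def.{0}
  have := (fun _ => trivial : _ → True) @Cfsg.IsSpecialIsometryInducedAutPOmega.congr_simp.{0}
  have := (fun _ => trivial : _ → True) @Cfsg.instDecidableEqLieFamily.decEq.eq_1
  have := (fun _ => trivial : _ → True) @Cfsg.instDecidableEqLieFamily.decEq.eq_def
  have := (fun _ => trivial : _ → True) @Cfsg.instDecidableEqLieFamily.decEq.congr_simp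
  have := (fun _ => trivial : _ → True) @Cfsg.poAut.eq_1.{0}
  have := (fun _ => trivial : _ → True) @Cfsg.poAut.eq_def.{0}
  have := (fun _ => trivial : _ → True) @Cfsg.poAut.congr_simp.{0}
  have := (fun _ => trivial : _ → True) @Cfsg.psoAut.eq_1.{0}
  have := (fun _ => trivial : _ → True) @Cfsg.psoAut.eq_def.{0}
  have := (fun _ => trivial : _ → True) @Cfsg.psoAut.congr_simp.{0}
  have := (fun _ => trivial : _ → True) @Cfsg.IsOfSomeLieType.eq_1.{0}
  have := (fun _ => trivial : _ → True) @Cfsg.IsOfSomeLieType.eq_def.{0}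
  have := (fun _ => trivial : _ → True) @Cfsg.IsOfSomeLieType.congr_simp.{0}
  have := (fun _ => trivial : _ → True) @Cfsg.LieFamily.reeG2.elim.eq_1.{0}
  have := (fun _ => trivial : _ → True) @Cfsg.LieFamily.reeG2.elim.eq_def.{0}
  have := (fun _ => trivial : _ → True) @Cfsg.LieFamily.reeG2.elim.congr_simp.{0}
  have := (fun _ => trivial : _ → True) @Cfsg.inndiagPOmegaOdd.eq_1.{0}
  have := (fun _ => trivial : _ → True) @Cfsg.inndiagPOmegaOdd.eq_def.{0}
  have := (fun _ => trivial : _ → True) @Cfsg.inndiagPOmegaOdd.congr_simp.{0}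
  have := (fun _ => trivial : _ → True) @Cfsg.LieFamily.recOn.eq_1.{0}
  have := (fun _ => trivial : _ → True) @Cfsg.LieFamily.recOn.eq_def.{0}
  have := (fun _ => trivial : _ → True) @Cfsg.LieFamily.recOn.congr_simp.{0}
  have := (fun _ => trivial : _ → True) @Cfsg.inndiagPSp.eq_1.{0}
  have := (fun _ => trivial : _ → True) @Cfsg.inndiagPSp.eq_def.{0}
  have := (fun _ => trivial : _ → True) @Cfsg.inndiagPSp.congr_simp.{0}
  have := (fun _ => trivial : _ → True) @Cfsg.LieFamily.trialityD4.elim.eq_1.{0}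
  have := (fun _ => trivial : _ → True) @Cfsg.LieFamily.trialityD4.elim.eq_def.{0}
  have := (fun _ => trivial : _ → True) @Cfsg.LieFamily.trialityD4.elim.congr_simp.{0}
  have := (fun _ => trivial : _ → True) @Cfsg.IsInnerDiagonalAutPOmegaOdd.eq_1.{0}
  have := (fun _ => trivial : _ → True) @Cfsg.IsInnerDiagonalAutPOmegaOdd.eq_def.{0}
  have := (fun _ => trivial : _ → True) @Cfsg.IsInnerDiagonalAutPOmegaOdd.congr_simp.{0}
  have := (fun _ => trivial : _ → True) @Cfsg.IsInducedBySemilinearPSp.eq_1.{0}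
  have := (fun _ => trivial : _ → True) @Cfsg.IsInducedBySemilinearPSp.eq_def.{0}
  have := (fun _ => trivial : _ → True) @Cfsg.IsInducedBySemilinearPSp.congr_simp.{0}
  trivial
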