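import Cfsg.Prelude.Def_LocalStructure
import Cfsg.Agent.Eq.Def_LocalEven
import Cfsg.Agent.Eq.Def_Amalgam
import Cfsg.Agent.Eq.Def_Sz

/-! Pre-generates on-demand lemmas for the definitions, so that importers share one copy. -/

theorem CfsgLib.Eq.Def_LocalStructure.touch : True := by
  have := (fun _ => trivial : _ → True) @Cfsg.largeBullet.eq_1.{0}
  have := (fun _ => trivial : _ → True) @Cfsg.largeBullet.eq_def.{0}
  have := (fun _ => trivial : _ → True) @Cfsg.largeBullet.congr_simp.{0}
  have := (fun _ => trivial : _ → True) @Cfsg.IsInFrakH.eq_1.{0}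
  have := (fun _ => trivial : _ → True) @Cfsg.IsInFrakH.eq_def.{0}
  have := (fun _ => trivial : _ → True) @Cfsg.IsInFrakH.congr_simp.{0}
  have := (fun _ => trivial : _ → True) @Cfsg.maxCharPSubgroups.eq_1.{0}
  have := (fun _ => trivial : _ → True) @Cfsg.maxCharPSubgroups.eq_def.{0}
  have := (fun _ => trivial : _ → True) @Cfsg.maxCharPSubgroups.congr_simp.{0}
  have := (fun _ => trivial : _ → True) @Cfsg.IsLarge.eq_1.{0}
  have := (fun _ => trivial : _ → True) @Cfsg.IsLarge.eq_def.{0}
  have := (fun _ => trivial : _ → True) @Cfsg.IsLarge.congr_simp.{0}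
  have := (fun _ => trivial : _ → True) @Cfsg.IsTall.eq_1.{0}
  have := (fun _ => trivial : _ → True) @Cfsg.IsTall.eq_def.{0}
  have := (fun _ => trivial : _ → True) @Cfsg.IsTall.congr_simp.{0}
  have := (fun _ => trivial : _ → True) @Cfsg.IsInFrakM.eq_1.{0}
  have := (fun _ => trivial : _ → True) @Cfsg.IsInFrakM.eq_def.{0}
  have := (fun _ => trivial : _ → True) @Cfsg.IsInFrakM.congr_simp.{0}
  have := (fun _ => trivial : _ → True) @Cfsg.IsSymmetricIn.eq_1.{0}
  have := (fun _ => trivial : _ → True) @Cfsg.IsSymmetricIn.eq_def.{0}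
  have := (fun _ => trivial : _ → True) @Cfsg.IsSymmetricIn.congr_simp.{0}
  have := (fun _ => trivial : _ → True) @Cfsg.weakClosure.eq_1.{0}
  have := (fun _ => trivial : _ → True) @Cfsg.weakClosure.eq_def.{0}
  have := (fun _ => trivial : _ → True) @Cfsg.weakClosure.congr_simp.{0}
  have := (fun _ => trivial : _ → True) @Cfsg.largestPReduced.eq_1.{0}
  have := (fun _ => trivial : _ → True) @Cfsg.largestPReduced.eq_def.{0}
  have := (fun _ => trivial : _ → True) @Cfsg.largestPReduced.congr_simp.{0}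
  have := (fun _ => trivial : _ → True) @Cfsg.IsParabolic.eq_1.{0}
  have := (fun _ => trivial : _ → True) @Cfsg.IsParabolic.eq_def.{0}
  have := (fun _ => trivial : _ → True) @Cfsg.IsParabolic.congr_simp.{0}
  have := (fun _ => trivial : _ → True) @Cfsg.IsPIrreducible.eq_1.{0}
  have := (fun _ => trivial : _ → True) @Cfsg.IsPIrreducible.eq_def.{0}
  have := (fun _ => trivial : _ → True) @Cfsg.IsPIrreducible.congr_simp.{0}
  have := (fun _ => trivial : _ → True) @Cfsg.IsStronglyPIrreducible.eq_1.{0}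
  have := (fun _ => trivial : _ → True) @Cfsg.IsStronglyPIrreducible.eq_def.{0}
  have := (fun _ => trivial : _ → True) @Cfsg.IsStronglyPIrreducible.congr_simp.{0}
  have := (fun _ => trivial : _ → True) @Cfsg.IsOfParabolicCharacteristic.eq_1.{0}
  have := (fun _ => trivial : _ → True) @Cfsg.IsOfParabolicCharacteristic.eq_def.{0}
  have := (fun _ => trivial : _ → True) @Cfsg.IsOfParabolicCharacteristic.congr_simp.{0}
  have := (fun _ => trivial : _ → True) @Cfsg.IsCharPTall.eq_1.{0}
  have := (fun _ => trivial : _ → True) @Cfsg.IsCharPTall.eq_def.{0}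
  have := (fun _ => trivial : _ → True) @Cfsg.IsCharPTall.congr_simp.{0}
  have := (fun _ => trivial : _ → True) @Cfsg.baumannSubgroupOf.eq_1.{0}
  have := (fun _ => trivial : _ → True) @Cfsg.baumannSubgroupOf.eq_def.{0}
  have := (fun _ => trivial : _ → True) @Cfsg.baumannSubgroupOf.congr_simp.{0}
  have := (fun _ => trivial : _ → True) @Cfsg.charPSubgroups.eq_1.{0}
  have := (fun _ => trivial : _ → True) @Cfsg.charPSubgroups.eq_def.{0}
  have := (fun _ => trivial : _ → True) @Cfsg.charPSubgroups.congr_simp.{0}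
  have := (fun _ => trivial : _ → True) @Cfsg.IsInFrakL.eq_1.{0}
  have := (fun _ => trivial : _ → True) @Cfsg.IsInFrakL.eq_def.{0}
  have := (fun _ => trivial : _ → True) @Cfsg.IsInFrakL.congr_simp.{0}
  have := (fun _ => trivial : _ → True) @Cfsg.baumannSubgroup.eq_1.{0}
  have := (fun _ => trivial : _ → True) @Cfsg.baumannSubgroup.eq_def.{0}
  have := (fun _ => trivial : _ → True) @Cfsg.baumannSubgroup.congr_simp.{0}
  have := (fun _ => trivial : _ → True) @Cfsg.largestPReducedOf.eq_1.{0}
  have := (fun _ => trivial : _ → True) @Cfsg.largestPReducedOf.eq_def.{0}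
  have := (fun _ => trivial : _ → True) @Cfsg.largestPReducedOf.congr_simp.{0}
  have := (fun _ => trivial : _ → True) @Cfsg.subnormalClosure.eq_1.{0}
  have := (fun _ => trivial : _ → True) @Cfsg.subnormalClosure.eq_def.{0}
  have := (fun _ => trivial : _ → True) @Cfsg.subnormalClosure.congr_simp.{0}
  have := (fun _ => trivial : _ → True) @Cfsg.IsMinimalOver.eq_1.{0}
  have := (fun _ => trivial : _ → True) @Cfsg.IsMinimalOver.eq_def.{0}
  have := (fun _ => trivial : _ → True) @Cfsg.IsMinimalOver.congr_simp.{0}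
  have := (fun _ => trivial : _ → True) @Cfsg.IsPClosed.eq_1.{0}
  have := (fun _ => trivial : _ → True) @Cfsg.IsPClosed.eq_def.{0}
  have := (fun _ => trivial : _ → True) @Cfsg.IsPClosed.congr_simp.{0}
  have := (fun _ => trivial : _ → True) @Cfsg.IsWeaklyClosedSubgroup.eq_1.{0}
  have := (fun _ => trivial : _ → True) @Cfsg.IsWeaklyClosedSubgroup.eq_def.{0}
  have := (fun _ => trivial : _ → True) @Cfsg.IsWeaklyClosedSubgroup.congr_simp.{0}
  have := (fun _ => trivial : _ → True) @Cfsg.vertexVIter.eq_1.{0}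
  have := (fun _ => trivial : _ → True) @Cfsg.vertexVIter.eq_def.{0}
  have := (fun _ => trivial : _ → True) @Cfsg.vertexVIter.congr_simp.{0}
  trivial
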