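import Cfsg.Prelude.Def_BaumannBlocks
import Cfsg.Agent.Eq.Def_LocalStructure

/-! Pre-generates on-demand lemmas for the definitions, so that importers share one copy. -/

theorem CfsgLib.Eq.Def_BaumannBlocks.touch : True := by
  have := (fun _ => trivial : _ → True) @Cfsg.charNormalizersJoin.eq_1.{0}
  have := (fun _ => trivial : _ → True) @Cfsg.charNormalizersJoin.eq_def.{0}
  have := (fun _ => trivial : _ → True) @Cfsg.charNormalizersJoin.congr_simp.{0}
  have := (fun _ => trivial : _ → True) @Cfsg.ActsAsOddPermModuleOnSection.eq_1.{0}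
  have := (fun _ => trivial : _ → True) @Cfsg.ActsAsOddPermModuleOnSection.eq_def.{0}
  have := (fun _ => trivial : _ → True) @Cfsg.ActsAsOddPermModuleOnSection.congr_simp.{0}
  have := (fun _ => trivial : _ → True) @Cfsg.HasBaumannBlockStructure.eq_1.{0}
  have := (fun _ => trivial : _ → True) @Cfsg.HasBaumannBlockStructure.eq_def.{0}
  have := (fun _ => trivial : _ → True) @Cfsg.HasBaumannBlockStructure.congr_simp.{0}
  have := (fun _ => trivial : _ → True) @Cfsg.frattiniOfMinimalCLJoin.eq_1.{0}
  have := (fun _ => trivial : _ → True) @Cfsg.frattiniOfMinimalCLJoin.eq_def.{0}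
  have := (fun _ => trivial : _ → True) @Cfsg.frattiniOfMinimalCLJoin.congr_simp.{0}
  have := (fun _ => trivial : _ → True) @Cfsg.IsMinimalCentrallyLarge.eq_1.{0}
  have := (fun _ => trivial : _ → True) @Cfsg.IsMinimalCentrallyLarge.eq_def.{0}
  have := (fun _ => trivial : _ → True) @Cfsg.IsMinimalCentrallyLarge.congr_simp.{0}
  have := (fun _ => trivial : _ → True) @Cfsg.IsPushingUpSituation.eq_1.{0}
  have := (fun _ => trivial : _ → True) @Cfsg.IsPushingUpSituation.eq_def.{0}
  have := (fun _ => trivial : _ → True) @Cfsg.IsPushingUpSituation.congr_simp.{0}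
  have := (fun _ => trivial : _ → True) @Cfsg.cStarOf.eq_1.{0}
  have := (fun _ => trivial : _ → True) @Cfsg.cStarOf.eq_def.{0}
  have := (fun _ => trivial : _ → True) @Cfsg.cStarOf.congr_simp.{0}
  have := (fun _ => trivial : _ → True) @Cfsg.IsCentrallyLarge.eq_1.{0}
  have := (fun _ => trivial : _ → True) @Cfsg.IsCentrallyLarge.eq_def.{0}
  have := (fun _ => trivial : _ → True) @Cfsg.IsCentrallyLarge.congr_simp.{0}
  have := (fun _ => trivial : _ → True) @Cfsg.minimalCentrallyLargeJoin.eq_1.{0}
  have := (fun _ => trivial : _ → True) @Cfsg.minimalCentrallyLargeJoin.eq_def.{0}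
  have := (fun _ => trivial : _ → True) @Cfsg.minimalCentrallyLargeJoin.congr_simp.{0}
  have := (fun _ => trivial : _ → True) @Cfsg.centrallyLargeJoin.eq_1.{0}
  have := (fun _ => trivial : _ → True) @Cfsg.centrallyLargeJoin.eq_def.{0}
  have := (fun _ => trivial : _ → True) @Cfsg.centrallyLargeJoin.congr_simp.{0}
  have := (fun _ => trivial : _ → True) @Cfsg.IsCentralizerLarge.eq_1.{0}
  have := (fun _ => trivial : _ → True) @Cfsg.IsCentralizerLarge.eq_def.{0}
  have := (fun _ => trivial : _ → True) @Cfsg.IsCentralizerLarge.congr_simp.{0}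
  have := (fun _ => trivial : _ → True) @Cfsg.pResidualOf.eq_1.{0}
  have := (fun _ => trivial : _ → True) @Cfsg.pResidualOf.eq_def.{0}
  have := (fun _ => trivial : _ → True) @Cfsg.pResidualOf.congr_simp.{0}
  have := (fun _ => trivial : _ → True) @Cfsg.maxCentralizerProduct.eq_1.{0}
  have := (fun _ => trivial : _ → True) @Cfsg.maxCentralizerProduct.eq_def.{0}
  have := (fun _ => trivial : _ → True) @Cfsg.maxCentralizerProduct.congr_simp.{0}
  have := (fun _ => trivial : _ → True) @Cfsg.cStarStarOf.eq_1.{0}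
  have := (fun _ => trivial : _ → True) @Cfsg.cStarStarOf.eq_def.{0}
  have := (fun _ => trivial : _ → True) @Cfsg.cStarStarOf.congr_simp.{0}
  have := (fun _ => trivial : _ → True) @Cfsg.omegaOneCenter.eq_1.{0}
  have := (fun _ => trivial : _ → True) @Cfsg.omegaOneCenter.eq_def.{0}
  have := (fun _ => trivial : _ → True) @Cfsg.omegaOneCenter.congr_simp.{0}
  have := (fun _ => trivial : _ → True) @Cfsg.maxCentralProduct.eq_1.{0}
  have := (fun _ => trivial : _ → True) @Cfsg.maxCentralProduct.eq_def.{0}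
  have := (fun _ => trivial : _ → True) @Cfsg.maxCentralProduct.congr_simp.{0}
  have := (fun _ => trivial : _ → True) @Cfsg.ActsAsSL2OnSection.eq_1.{0,0}
  have := (fun _ => trivial : _ → True) @Cfsg.ActsAsSL2OnSection.eq_def.{0,0}
  have := (fun _ => trivial : _ → True) @Cfsg.ActsAsSL2OnSection.congr_simp.{0,0}
  have := (fun _ => trivial : _ → True) @Cfsg.IsBaumannBlock.eq_1.{0}
  have := (fun _ => trivial : _ → True) @Cfsg.IsBaumannBlock.eq_def.{0}
  have := (fun _ => trivial : _ → True) @Cfsg.IsBaumannBlock.congr_simp.{0}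
  have := (fun _ => trivial : _ → True) @Cfsg.maxOmegaCenterOfMinimalCL.eq_1.{0}
  have := (fun _ => trivial : _ → True) @Cfsg.maxOmegaCenterOfMinimalCL.eq_def.{0}
  have := (fun _ => trivial : _ → True) @Cfsg.maxOmegaCenterOfMinimalCL.congr_simp.{0}
  trivial
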