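import Cfsg.Prelude.Def_FusionSystem
import Cfsg.Agent.Eq.Def_Solvable
import Cfsg.Agent.Eq.Def_EvenType
import Cfsg.Agent.Eq.Def_KGroupFacts
import Cfsg.Agent.Eq.Def_Transfer

/-! Pre-generates on-demand lemmas for the definitions, so that importers share one copy. -/

theorem CfsgLib.Eq.Def_FusionSystem.touch : True := by
  have := (fun _ => trivial : _ → True) @Cfsg.FusionSystem.IsNormal.eq_1.{0}
  have := (fun _ => trivial : _ → True) @Cfsg.FusionSystem.IsNormal.eq_def.{0}
  have := (fun _ => trivial : _ → True) @Cfsg.FusionSystem.IsNormal.congr_simp.{0}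
  have := (fun _ => trivial : _ → True) @Cfsg.FusionSystem.IsEssential.eq_1.{0}
  have := (fun _ => trivial : _ → True) @Cfsg.FusionSystem.IsEssential.eq_def.{0}
  have := (fun _ => trivial : _ → True) @Cfsg.FusionSystem.IsEssential.congr_simp.{0}
  have := (fun _ => trivial : _ → True) @Cfsg.FusionSystem.IsFullyNormalized.eq_1.{0}
  have := (fun _ => trivial : _ → True) @Cfsg.FusionSystem.IsFullyNormalized.eq_def.{0}
  have := (fun _ => trivial : _ → True) @Cfsg.FusionSystem.IsFullyNormalized.congr_simp.{0}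
  have := (fun _ => trivial : _ → True) @Cfsg.FusionSystem.recOn.eq_1.{0,0}
  have := (fun _ => trivial : _ → True) @Cfsg.FusionSystem.recOn.eq_def.{0,0}
  have := (fun _ => trivial : _ → True) @Cfsg.FusionSystem.recOn.congr_simp.{0,0}
  have := (fun _ => trivial : _ → True) @Cfsg.FusionSystem.IsRealizable.eq_1.{0}
  have := (fun _ => trivial : _ → True) @Cfsg.FusionSystem.IsRealizable.eq_def.{0}
  have := (fun _ => trivial : _ → True) @Cfsg.FusionSystem.IsRealizable.congr_simp.{0}
  have := (fun _ => trivial : _ → True) @Cfsg.FusionSystem.WeaklyClosed.eq_1.{0}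
  have := (fun _ => trivial : _ → True) @Cfsg.FusionSystem.WeaklyClosed.eq_def.{0}
  have := (fun _ => trivial : _ → True) @Cfsg.FusionSystem.WeaklyClosed.congr_simp.{0}
  have := (fun _ => trivial : _ → True) @Cfsg.fusionSystemOfSubgroup.eq_1.{0}
  have := (fun _ => trivial : _ → True) @Cfsg.fusionSystemOfSubgroup.eq_def.{0}
  have := (fun _ => trivial : _ → True) @Cfsg.fusionSystemOfSubgroup.congr_simp.{0}
  have := (fun _ => trivial : _ → True) @Cfsg.FusionSystem.IsSaturated.eq_1.{0}
  have := (fun _ => trivial : _ → True) @Cfsg.FusionSystem.IsSaturated.eq_def.{0}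
  have := (fun _ => trivial : _ → True) @Cfsg.FusionSystem.IsSaturated.congr_simp.{0}
  have := (fun _ => trivial : _ → True) @Cfsg.FusionSystem.IsNormalIn.eq_1.{0}
  have := (fun _ => trivial : _ → True) @Cfsg.FusionSystem.IsNormalIn.eq_def.{0}
  have := (fun _ => trivial : _ → True) @Cfsg.FusionSystem.IsNormalIn.congr_simp.{0}
  have := (fun _ => trivial : _ → True) @Cfsg.FusionSystem.focalSubgroup.eq_1.{0}
  have := (fun _ => trivial : _ → True) @Cfsg.FusionSystem.focalSubgroup.eq_def.{0}
  have := (fun _ => trivial : _ → True) @Cfsg.FusionSystem.focalSubgroup.congr_simp.{0}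
  have := (fun _ => trivial : _ → True) @Cfsg.FusionSystem.HasPrimeToPIndexIn.eq_1.{0}
  have := (fun _ => trivial : _ → True) @Cfsg.FusionSystem.HasPrimeToPIndexIn.eq_def.{0}
  have := (fun _ => trivial : _ → True) @Cfsg.FusionSystem.HasPrimeToPIndexIn.congr_simp.{0}
  have := (fun _ => trivial : _ → True) @Cfsg.FusionSystem.core.eq_1.{0}
  have := (fun _ => trivial : _ → True) @Cfsg.FusionSystem.core.eq_def.{0}
  have := (fun _ => trivial : _ → True) @Cfsg.FusionSystem.core.congr_simp.{0}
  have := (fun _ => trivial : _ → True) @Cfsg.FusionSystem.IsCentric.eq_1.{0}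
  have := (fun _ => trivial : _ → True) @Cfsg.FusionSystem.IsCentric.eq_def.{0}
  have := (fun _ => trivial : _ → True) @Cfsg.FusionSystem.IsCentric.congr_simp.{0}
  have := (fun _ => trivial : _ → True) @Cfsg.FusionSystem.hyperfocalSubgroup.eq_1.{0}
  have := (fun _ => trivial : _ → True) @Cfsg.FusionSystem.hyperfocalSubgroup.eq_def.{0}
  have := (fun _ => trivial : _ → True) @Cfsg.FusionSystem.hyperfocalSubgroup.congr_simp.{0}
  have := (fun _ => trivial : _ → True) @Cfsg.FusionSystem.centralizerHom.eq_1.{0}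
  have := (fun _ => trivial : _ → True) @Cfsg.FusionSystem.centralizerHom.eq_def.{0}
  have := (fun _ => trivial : _ → True) @Cfsg.FusionSystem.centralizerHom.congr_simp.{0}
  have := (fun _ => trivial : _ → True) @Cfsg.conjHom.eq_1.{0}
  have := (fun _ => trivial : _ → True) @Cfsg.conjHom.eq_def.{0}
  have := (fun _ => trivial : _ → True) @Cfsg.conjHom.congr_simp.{0}
  have := (fun _ => trivial : _ → True) @Cfsg.FusionSystem.IsFullyAutomized.eq_1.{0}
  have := (fun _ => trivial : _ → True) @Cfsg.FusionSystem.IsFullyAutomized.eq_def.{0}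
  have := (fun _ => trivial : _ → True) @Cfsg.FusionSystem.IsFullyAutomized.congr_simp.{0}
  have := (fun _ => trivial : _ → True) @Cfsg.FusionSystem.IsConjElt.eq_1.{0}
  have := (fun _ => trivial : _ → True) @Cfsg.FusionSystem.IsConjElt.eq_def.{0}
  have := (fun _ => trivial : _ → True) @Cfsg.FusionSystem.IsConjElt.congr_simp.{0}
  have := (fun _ => trivial : _ → True) @Cfsg.FusionSystem.casesOn.eq_1.{0,0}
  have := (fun _ => trivial : _ → True) @Cfsg.FusionSystem.casesOn.eq_def.{0,0}
  have := (fun _ => trivial : _ → True) @Cfsg.FusionSystem.casesOn.congr_simp.{0,0}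
  have := (fun _ => trivial : _ → True) @Cfsg.FusionSystem.IsConj.eq_1.{0}
  have := (fun _ => trivial : _ → True) @Cfsg.FusionSystem.IsConj.eq_def.{0}
  have := (fun _ => trivial : _ → True) @Cfsg.FusionSystem.IsConj.congr_simp.{0}
  have := (fun _ => trivial : _ → True) @Cfsg.FusionSystem.IsWeaklyNormalIn.eq_1.{0}
  have := (fun _ => trivial : _ → True) @Cfsg.FusionSystem.IsWeaklyNormalIn.eq_def.{0}
  have := (fun _ => trivial : _ → True) @Cfsg.FusionSystem.IsWeaklyNormalIn.congr_simp.{0}
  have := (fun _ => trivial : _ → True) @Cfsg.FusionSystem.IsCentral.eq_1.{0}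
  have := (fun _ => trivial : _ → True) @Cfsg.FusionSystem.IsCentral.eq_def.{0}
  have := (fun _ => trivial : _ → True) @Cfsg.FusionSystem.IsCentral.congr_simp.{0}
  have := (fun _ => trivial : _ → True) @Cfsg.FusionSystem.autGroup.eq_1.{0}
  have := (fun _ => trivial : _ → True) @Cfsg.FusionSystem.autGroup.eq_def.{0}
  have := (fun _ => trivial : _ → True) @Cfsg.FusionSystem.autGroup.congr_simp.{0}
  have := (fun _ => trivial : _ → True) @Cfsg.FusionSystem.IsFullyCentralized.eq_1.{0}
  have := (fun _ => trivial : _ → True) @Cfsg.FusionSystem.IsFullyCentralized.eq_def.{0}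
  have := (fun _ => trivial : _ → True) @Cfsg.FusionSystem.IsFullyCentralized.congr_simp.{0}
  have := (fun _ => trivial : _ → True) @Cfsg.FusionSystem.centralizerIn.eq_1.{0}
  have := (fun _ => trivial : _ → True) @Cfsg.FusionSystem.centralizerIn.eq_def.{0}
  have := (fun _ => trivial : _ → True) @Cfsg.FusionSystem.centralizerIn.congr_simp.{0}
  have := (fun _ => trivial : _ → True) @Cfsg.FusionSystem.IsExotic.eq_1.{0}
  have := (fun _ => trivial : _ → True) @Cfsg.FusionSystem.IsExotic.eq_def.{0}
  have := (fun _ => trivial : _ → True) @Cfsg.FusionSystem.IsExotic.congr_simp.{0}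
  have := (fun _ => trivial : _ → True) @Cfsg.FusionSystem.extender.eq_1.{0}
  have := (fun _ => trivial : _ → True) @Cfsg.FusionSystem.extender.eq_def.{0}
  have := (fun _ => trivial : _ → True) @Cfsg.FusionSystem.extender.congr_simp.{0}
  have := (fun _ => trivial : _ → True) @Cfsg.FusionSystem.normalizerIn.eq_1.{0}
  have := (fun _ => trivial : _ → True) @Cfsg.FusionSystem.normalizerIn.eq_def.{0}
  have := (fun _ => trivial : _ → True) @Cfsg.FusionSystem.normalizerIn.congr_simp.{0}
  have := (fun _ => trivial : _ → True) @Cfsg.FusionSystem.StronglyClosed.eq_1.{0}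
  have := (fun _ => trivial : _ → True) @Cfsg.FusionSystem.StronglyClosed.eq_def.{0}
  have := (fun _ => trivial : _ → True) @Cfsg.FusionSystem.StronglyClosed.congr_simp.{0}
  have := (fun _ => trivial : _ → True) @Cfsg.FusionSystem.IsReceptive.eq_1.{0}
  have := (fun _ => trivial : _ → True) @Cfsg.FusionSystem.IsReceptive.eq_def.{0}
  have := (fun _ => trivial : _ → True) @Cfsg.FusionSystem.IsReceptive.congr_simp.{0}
  have := (fun _ => trivial : _ → True) @Cfsg.FusionSystem.IsSimple.eq_1.{0}
  have := (fun _ => trivial : _ → True) @Cfsg.FusionSystem.IsSimple.eq_def.{0}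
  have := (fun _ => trivial : _ → True) @Cfsg.FusionSystem.IsSimple.congr_simp.{0}
  have := (fun _ => trivial : _ → True) @Cfsg.FusionSystem.IsNormalizerSystem.eq_1.{0}
  have := (fun _ => trivial : _ → True) @Cfsg.FusionSystem.IsNormalizerSystem.eq_def.{0}
  have := (fun _ => trivial : _ → True) @Cfsg.FusionSystem.IsNormalizerSystem.congr_simp.{0}
  have := (fun _ => trivial : _ → True) @Cfsg.FusionSystem.homSet.eq_1.{0}
  have := (fun _ => trivial : _ → True) @Cfsg.FusionSystem.homSet.eq_def.{0}
  have := (fun _ => trivial : _ → True) @Cfsg.FusionSystem.homSet.congr_simp.{0}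
  have := (fun _ => trivial : _ → True) @Cfsg.FusionSystem.HasPPowerIndexIn.eq_1.{0}
  have := (fun _ => trivial : _ → True) @Cfsg.FusionSystem.HasPPowerIndexIn.eq_def.{0}
  have := (fun _ => trivial : _ → True) @Cfsg.FusionSystem.HasPPowerIndexIn.congr_simp.{0}
  have := (fun _ => trivial : _ → True) @Cfsg.FusionSystem.normalizerHom.eq_1.{0}
  have := (fun _ => trivial : _ → True) @Cfsg.FusionSystem.normalizerHom.eq_def.{0}
  have := (fun _ => trivial : _ → True) @Cfsg.FusionSystem.normalizerHom.congr_simp.{0}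
  have := (fun _ => trivial : _ → True) @Cfsg.FusionSystem.IsConstrained.eq_1.{0}
  have := (fun _ => trivial : _ → True) @Cfsg.FusionSystem.IsConstrained.eq_def.{0}
  have := (fun _ => trivial : _ → True) @Cfsg.FusionSystem.IsConstrained.congr_simp.{0}
  have := (fun _ => trivial : _ → True) @Cfsg.FusionSystem.Hom.eq_1.{0}
  have := (fun _ => trivial : _ → True) @Cfsg.FusionSystem.Hom.eq_def.{0}
  have := (fun _ => trivial : _ → True) @Cfsg.FusionSystem.Hom.congr_simp.{0}
  have := (fun _ => trivial : _ → True) @Cfsg.FusionSystem.IsCentralizerSystem.eq_1.{0}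
  have := (fun _ => trivial : _ → True) @Cfsg.FusionSystem.IsCentralizerSystem.eq_def.{0}
  have := (fun _ => trivial : _ → True) @Cfsg.FusionSystem.IsCentralizerSystem.congr_simp.{0}
  have := (fun _ => trivial : _ → True) @Cfsg.FusionSystem.IsOfCharacteristicPType.eq_1.{0}
  have := (fun _ => trivial : _ → True) @Cfsg.FusionSystem.IsOfCharacteristicPType.eq_def.{0}
  have := (fun _ => trivial : _ → True) @Cfsg.FusionSystem.IsOfCharacteristicPType.congr_simp.{0}
  have := (fun _ => trivial : _ → True) @Cfsg.FusionSystem.IsRealizedBy.eq_1.{0,0}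
  have := (fun _ => trivial : _ → True) @Cfsg.FusionSystem.IsRealizedBy.eq_def.{0,0}
  have := (fun _ => trivial : _ → True) @Cfsg.FusionSystem.IsRealizedBy.congr_simp.{0,0}
  have := (fun _ => trivial : _ → True) @Cfsg.innerFusionSystem.eq_1.{0}
  have := (fun _ => trivial : _ → True) @Cfsg.innerFusionSystem.eq_def.{0}
  have := (fun _ => trivial : _ → True) @Cfsg.innerFusionSystem.congr_simp.{0}
  have := (fun _ => trivial : _ → True) @Cfsg.FusionSystem.IsSubsystemOf.eq_1.{0}
  have := (fun _ => trivial : _ → True) @Cfsg.FusionSystem.IsSubsystemOf.eq_def.{0}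
  have := (fun _ => trivial : _ → True) @Cfsg.FusionSystem.IsSubsystemOf.congr_simp.{0}
  have := (fun _ => trivial : _ → True) @Cfsg.groupFusionSystem.eq_1.{0}
  have := (fun _ => trivial : _ → True) @Cfsg.groupFusionSystem.eq_def.{0}
  have := (fun _ => trivial : _ → True) @Cfsg.groupFusionSystem.congr_simp.{0}
  have := (fun _ => trivial : _ → True) @Cfsg.FusionSystem.IsModel.eq_1.{0,0}
  have := (fun _ => trivial : _ → True) @Cfsg.FusionSystem.IsModel.eq_def.{0,0}
  have := (fun _ => trivial : _ → True) @Cfsg.FusionSystem.IsModel.congr_simp.{0,0}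
  have := (fun _ => trivial : _ → True) @Cfsg.autInducedBy.eq_1.{0}
  have := (fun _ => trivial : _ → True) @Cfsg.autInducedBy.eq_def.{0}
  have := (fun _ => trivial : _ → True) @Cfsg.autInducedBy.congr_simp.{0}
  have := (fun _ => trivial : _ → True) @Cfsg.FusionSystem.instLE.eq_1.{0}
  have := (fun _ => trivial : _ → True) @Cfsg.FusionSystem.instLE.eq_def.{0}
  have := (fun _ => trivial : _ → True) @Cfsg.FusionSystem.instLE.congr_simp.{0}
  have := (fun _ => trivial : _ → True) @Cfsg.FusionSystem.center.eq_1.{0}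
  have := (fun _ => trivial : _ → True) @Cfsg.FusionSystem.center.eq_def.{0}
  have := (fun _ => trivial : _ → True) @Cfsg.FusionSystem.center.congr_simp.{0}
  have := (fun _ => trivial : _ → True) @Cfsg.FusionSystem.IsRadical.eq_1.{0}
  have := (fun _ => trivial : _ → True) @Cfsg.FusionSystem.IsRadical.eq_def.{0}
  have := (fun _ => trivial : _ → True) @Cfsg.FusionSystem.IsRadical.congr_simp.{0}
  have := (fun _ => trivial : _ → True) @Cfsg.FusionSystem.IsInvariantIn.eq_1.{0}
  have := (fun _ => trivial : _ → True) @Cfsg.FusionSystem.IsInvariantIn.eq_def.{0}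
  have := (fun _ => trivial : _ → True) @Cfsg.FusionSystem.IsInvariantIn.congr_simp.{0}
  trivial
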