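import Cfsg.Prelude.Def_ConjugacyFunctors

/-! Pre-generates on-demand lemmas for the definitions, so that importers share one copy. -/

theorem CfsgLib.Eq.Def_ConjugacyFunctors.touch : True := by
  have := (fun _ => trivial : _ → True) @Cfsg.FamilyControlsStrongFusionIn.eq_1.{0}
  have := (fun _ => trivial : _ → True) @Cfsg.FamilyControlsStrongFusionIn.eq_def.{0}
  have := (fun _ => trivial : _ → True) @Cfsg.FamilyControlsStrongFusionIn.congr_simp.{0}
  have := (fun _ => trivial : _ → True) @Cfsg.kInfLower.eq_1.{0}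
  have := (fun _ => trivial : _ → True) @Cfsg.kInfLower.eq_def.{0}
  have := (fun _ => trivial : _ → True) @Cfsg.kInfLower.congr_simp.{0}
  have := (fun _ => trivial : _ → True) @Cfsg.IsConjugationFamily.eq_1.{0}
  have := (fun _ => trivial : _ → True) @Cfsg.IsConjugationFamily.eq_def.{0}
  have := (fun _ => trivial : _ → True) @Cfsg.IsConjugationFamily.congr_simp.{0}
  have := (fun _ => trivial : _ → True) @Cfsg.kSeqEven.eq_1.{0}
  have := (fun _ => trivial : _ → True) @Cfsg.kSeqEven.eq_def.{0}
  have := (fun _ => trivial : _ → True) @Cfsg.kSeqEven.congr_simp.{0}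
  have := (fun _ => trivial : _ → True) @Cfsg.ControlsStrongFusionIn.eq_1.{0}
  have := (fun _ => trivial : _ → True) @Cfsg.ControlsStrongFusionIn.eq_def.{0}
  have := (fun _ => trivial : _ → True) @Cfsg.ControlsStrongFusionIn.congr_simp.{0}
  have := (fun _ => trivial : _ → True) @Cfsg.kInfUpper.eq_1.{0}
  have := (fun _ => trivial : _ → True) @Cfsg.kInfUpper.eq_def.{0}
  have := (fun _ => trivial : _ → True) @Cfsg.kInfUpper.congr_simp.{0}
  have := (fun _ => trivial : _ → True) @Cfsg.IsWellPlaced.eq_1.{0}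
  have := (fun _ => trivial : _ → True) @Cfsg.IsWellPlaced.eq_def.{0}
  have := (fun _ => trivial : _ → True) @Cfsg.IsWellPlaced.congr_simp.{0}
  have := (fun _ => trivial : _ → True) @Cfsg.inducedFunctor.eq_1.{0}
  have := (fun _ => trivial : _ → True) @Cfsg.inducedFunctor.eq_def.{0}
  have := (fun _ => trivial : _ → True) @Cfsg.inducedFunctor.congr_simp.{0}
  have := (fun _ => trivial : _ → True) @Cfsg.functorTower.eq_1.{0}
  have := (fun _ => trivial : _ → True) @Cfsg.functorTower.eq_2.{0}
  have := (fun _ => trivial : _ → True) @Cfsg.functorTower.eq_def.{0}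
  have := (fun _ => trivial : _ → True) @Cfsg.functorTower.congr_simp.{0}
  have := (fun _ => trivial : _ → True) @Cfsg.functorTower.induct
  have := (fun _ => trivial : _ → True) @Cfsg.functorTower.fun_cases
  have := (fun _ => trivial : _ → True) @Cfsg.functorTower.induct_unfolding.{0}
  have := (fun _ => trivial : _ → True) @Cfsg.functorTower.fun_cases_unfolding.{0}
  have := (fun _ => trivial : _ → True) @Cfsg.kSeqOdd.eq_1.{0}
  have := (fun _ => trivial : _ → True) @Cfsg.kSeqOdd.eq_2.{0}
  have := (fun _ => trivial : _ → True) @Cfsg.kSeqOdd.eq_def.{0}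
  have := (fun _ => trivial : _ → True) @Cfsg.kSeqOdd.congr_simp.{0}
  have := (fun _ => trivial : _ → True) @Cfsg.kSeqOdd.induct
  have := (fun _ => trivial : _ → True) @Cfsg.kSeqOdd.fun_cases
  have := (fun _ => trivial : _ → True) @Cfsg.kSeqOdd.induct_unfolding.{0}
  have := (fun _ => trivial : _ → True) @Cfsg.kSeqOdd.fun_cases_unfolding.{0}
  have := (fun _ => trivial : _ → True) @Cfsg.kLowerStarFamily.eq_1.{0}
  have := (fun _ => trivial : _ → True) @Cfsg.kLowerStarFamily.eq_def.{0}
  have := (fun _ => trivial : _ → True) @Cfsg.kLowerStarFamily.congr_simp.{0}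
  have := (fun _ => trivial : _ → True) @Cfsg.FamilyControlsTransferIn.eq_1.{0}
  have := (fun _ => trivial : _ → True) @Cfsg.FamilyControlsTransferIn.eq_def.{0}
  have := (fun _ => trivial : _ → True) @Cfsg.FamilyControlsTransferIn.congr_simp.{0}
  have := (fun _ => trivial : _ → True) @Cfsg.kUpperStarFamily.eq_1.{0}
  have := (fun _ => trivial : _ → True) @Cfsg.kUpperStarFamily.eq_def.{0}
  have := (fun _ => trivial : _ → True) @Cfsg.kUpperStarFamily.congr_simp.{0}
  have := (fun _ => trivial : _ → True) @Cfsg.ControlsTransferIn.eq_1.{0}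
  have := (fun _ => trivial : _ → True) @Cfsg.ControlsTransferIn.eq_def.{0}
  have := (fun _ => trivial : _ → True) @Cfsg.ControlsTransferIn.congr_simp.{0}
  have := (fun _ => trivial : _ → True) @Cfsg.IsConjugacyFunctor.eq_1.{0}
  have := (fun _ => trivial : _ → True) @Cfsg.IsConjugacyFunctor.eq_def.{0}
  have := (fun _ => trivial : _ → True) @Cfsg.IsConjugacyFunctor.congr_simp.{0}
  have := (fun _ => trivial : _ → True) @Cfsg.IsCharPFunctor.eq_1.{0}
  have := (fun _ => trivial : _ → True) @Cfsg.IsCharPFunctor.eq_def.{0}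
  have := (fun _ => trivial : _ → True) @Cfsg.IsCharPFunctor.congr_simp.{0}
  have := (fun _ => trivial : _ → True) @Cfsg.classTwoSubgroups.eq_1.{0}
  have := (fun _ => trivial : _ → True) @Cfsg.classTwoSubgroups.eq_def.{0}
  have := (fun _ => trivial : _ → True) @Cfsg.classTwoSubgroups.congr_simp.{0}
  have := (fun _ => trivial : _ → True) @Cfsg.ControlsWeakClosureOfElementsIn.eq_1.{0}
  have := (fun _ => trivial : _ → True) @Cfsg.ControlsWeakClosureOfElementsIn.eq_def.{0}
  have := (fun _ => trivial : _ → True) @Cfsg.ControlsWeakClosureOfElementsIn.congr_simp.{0}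
  trivial
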