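import Cfsg.Prelude.Def_EvenTechniques
import Cfsg.Agent.Eq.Def_Balance
import Cfsg.Agent.Eq.Def_EvenType
import Cfsg.Agent.Eq.Def_PLocal

/-! Pre-generates on-demand lemmas for the definitions, so that importers share one copy. -/

theorem CfsgLib.Eq.Def_EvenTechniques.touch : True := by
  have := (fun _ => trivial : _ → True) @Cfsg.kBalancedTheta.eq_1.{0}
  have := (fun _ => trivial : _ → True) @Cfsg.kBalancedTheta.eq_def.{0}
  have := (fun _ => trivial : _ → True) @Cfsg.kBalancedTheta.congr_simp.{0}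
  have := (fun _ => trivial : _ → True) @Cfsg.nearUniquenessLocals.eq_1.{0}
  have := (fun _ => trivial : _ → True) @Cfsg.nearUniquenessLocals.eq_def.{0}
  have := (fun _ => trivial : _ → True) @Cfsg.nearUniquenessLocals.congr_simp.{0}
  have := (fun _ => trivial : _ → True) @Cfsg.nonQuasisimplePLayer.eq_1.{0}
  have := (fun _ => trivial : _ → True) @Cfsg.nonQuasisimplePLayer.eq_def.{0}
  have := (fun _ => trivial : _ → True) @Cfsg.nonQuasisimplePLayer.congr_simp.{0}
  have := (fun _ => trivial : _ → True) @Cfsg.IsNearComponentOf.eq_1.{0}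
  have := (fun _ => trivial : _ → True) @Cfsg.IsNearComponentOf.eq_def.{0}
  have := (fun _ => trivial : _ → True) @Cfsg.IsNearComponentOf.congr_simp.{0}
  have := (fun _ => trivial : _ → True) @Cfsg.IsKBalancedWrt.eq_1.{0}
  have := (fun _ => trivial : _ → True) @Cfsg.IsKBalancedWrt.eq_def.{0}
  have := (fun _ => trivial : _ → True) @Cfsg.IsKBalancedWrt.congr_simp.{0}
  have := (fun _ => trivial : _ → True) @Cfsg.weaklyKBalancedTheta.eq_1.{0}
  have := (fun _ => trivial : _ → True) @Cfsg.weaklyKBalancedTheta.eq_def.{0}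
  have := (fun _ => trivial : _ → True) @Cfsg.weaklyKBalancedTheta.congr_simp.{0}
  have := (fun _ => trivial : _ → True) @Cfsg.SylowTwoMeetSuccEq.eq_1.{0}
  have := (fun _ => trivial : _ → True) @Cfsg.SylowTwoMeetSuccEq.eq_def.{0}
  have := (fun _ => trivial : _ → True) @Cfsg.SylowTwoMeetSuccEq.congr_simp.{0}
  have := (fun _ => trivial : _ → True) @Cfsg.IsNearComponent.eq_1.{0}
  have := (fun _ => trivial : _ → True) @Cfsg.IsNearComponent.eq_def.{0}
  have := (fun _ => trivial : _ → True) @Cfsg.IsNearComponent.congr_simp.{0}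
  have := (fun _ => trivial : _ → True) @Cfsg.hatPLayer.eq_1.{0}
  have := (fun _ => trivial : _ → True) @Cfsg.hatPLayer.eq_def.{0}
  have := (fun _ => trivial : _ → True) @Cfsg.hatPLayer.congr_simp.{0}
  have := (fun _ => trivial : _ → True) @Cfsg.leadsTo.eq_1.{0}
  have := (fun _ => trivial : _ → True) @Cfsg.leadsTo.eq_def.{0}
  have := (fun _ => trivial : _ → True) @Cfsg.leadsTo.congr_simp.{0}
  have := (fun _ => trivial : _ → True) @Cfsg.nearUniquenessLocalsMax.eq_1.{0}
  have := (fun _ => trivial : _ → True) @Cfsg.nearUniquenessLocalsMax.eq_def.{0}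
  have := (fun _ => trivial : _ → True) @Cfsg.nearUniquenessLocalsMax.congr_simp.{0}
  have := (fun _ => trivial : _ → True) @Cfsg.extendedPLayer.eq_1.{0}
  have := (fun _ => trivial : _ → True) @Cfsg.extendedPLayer.eq_def.{0}
  have := (fun _ => trivial : _ → True) @Cfsg.extendedPLayer.congr_simp.{0}
  have := (fun _ => trivial : _ → True) @Cfsg.IsKHalfBalancedWrt.eq_1.{0}
  have := (fun _ => trivial : _ → True) @Cfsg.IsKHalfBalancedWrt.eq_def.{0}
  have := (fun _ => trivial : _ → True) @Cfsg.IsKHalfBalancedWrt.congr_simp.{0}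
  have := (fun _ => trivial : _ → True) @Cfsg.centralizerSubgroupPPrimeCore.eq_1.{0}
  have := (fun _ => trivial : _ → True) @Cfsg.centralizerSubgroupPPrimeCore.eq_def.{0}
  have := (fun _ => trivial : _ → True) @Cfsg.centralizerSubgroupPPrimeCore.congr_simp.{0}
  have := (fun _ => trivial : _ → True) @Cfsg.thetaHalf.eq_1.{0}
  have := (fun _ => trivial : _ → True) @Cfsg.thetaHalf.eq_def.{0}
  have := (fun _ => trivial : _ → True) @Cfsg.thetaHalf.congr_simp.{0}
  have := (fun _ => trivial : _ → True) @Cfsg.HasBpProperty.eq_1.{0}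
  have := (fun _ => trivial : _ → True) @Cfsg.HasBpProperty.eq_def.{0}
  have := (fun _ => trivial : _ → True) @Cfsg.HasBpProperty.congr_simp.{0}
  have := (fun _ => trivial : _ → True) @Cfsg.HasQuasisimpleGeneralizedFitting.eq_1.{0}
  have := (fun _ => trivial : _ → True) @Cfsg.HasQuasisimpleGeneralizedFitting.eq_def.{0}
  have := (fun _ => trivial : _ → True) @Cfsg.HasQuasisimpleGeneralizedFitting.congr_simp.{0}
  have := (fun _ => trivial : _ → True) @Cfsg.IsWeaklyLocallyKBalanced.eq_1.{0}
  have := (fun _ => trivial : _ → True) @Cfsg.IsWeaklyLocallyKBalanced.eq_def.{0}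
  have := (fun _ => trivial : _ → True) @Cfsg.IsWeaklyLocallyKBalanced.congr_simp.{0}
  have := (fun _ => trivial : _ → True) @Cfsg.IsWeaklyKBalancedWrt.eq_1.{0}
  have := (fun _ => trivial : _ → True) @Cfsg.IsWeaklyKBalancedWrt.eq_def.{0}
  have := (fun _ => trivial : _ → True) @Cfsg.IsWeaklyKBalancedWrt.congr_simp.{0}
  have := (fun _ => trivial : _ → True) @Cfsg.pRank.eq_1.{0}
  have := (fun _ => trivial : _ → True) @Cfsg.pRank.eq_def.{0}
  have := (fun _ => trivial : _ → True) @Cfsg.pRank.congr_simp.{0}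
  trivial
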