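import Cfsg.Prelude.Def_FischerSpaces
import Cfsg.Agent.Eq.Def_SporadicB
import Cfsg.Agent.Eq.Def_Classical
import Cfsg.Agent.Eq.Def_ClassicalGeometry

/-! Pre-generates on-demand lemmas for the definitions, so that importers share one copy. -/

theorem CfsgLib.Eq.Def_FischerSpaces.touch : True := by
  have := (fun _ => trivial : _ → True) @Cfsg.LineSystem.Collinear.eq_1.{0}
  have := (fun _ => trivial : _ → True) @Cfsg.LineSystem.Collinear.eq_def.{0}
  have := (fun _ => trivial : _ → True) @Cfsg.LineSystem.Collinear.congr_simp.{0}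
  have := (fun _ => trivial : _ → True) @Cfsg.LineSystem.IsNondegenerate.eq_1.{0}
  have := (fun _ => trivial : _ → True) @Cfsg.LineSystem.IsNondegenerate.eq_def.{0}
  have := (fun _ => trivial : _ → True) @Cfsg.LineSystem.IsNondegenerate.congr_simp.{0}
  have := (fun _ => trivial : _ → True) @Cfsg.commutingWidth.eq_1.{0}
  have := (fun _ => trivial : _ → True) @Cfsg.commutingWidth.eq_def.{0}
  have := (fun _ => trivial : _ → True) @Cfsg.commutingWidth.congr_simp.{0}
  have := (fun _ => trivial : _ → True) @Cfsg.IsPrimitiveUnderConj.eq_1.{0}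
  have := (fun _ => trivial : _ → True) @Cfsg.IsPrimitiveUnderConj.eq_def.{0}
  have := (fun _ => trivial : _ → True) @Cfsg.IsPrimitiveUnderConj.congr_simp.{0}
  have := (fun _ => trivial : _ → True) @Cfsg.DualAffinePoint.eq_1
  have := (fun _ => trivial : _ → True) @Cfsg.DualAffinePoint.eq_def
  have := (fun _ => trivial : _ → True) @Cfsg.DualAffinePoint.congr_simp
  have := (fun _ => trivial : _ → True) @Cfsg.IsProjReflectionGroupModThree.eq_1.{0}
  have := (fun _ => trivial : _ → True) @Cfsg.IsProjReflectionGroupModThree.eq_def.{0}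
  have := (fun _ => trivial : _ → True) @Cfsg.IsProjReflectionGroupModThree.congr_simp.{0}
  have := (fun _ => trivial : _ → True) @Cfsg.commutingGraph.eq_1.{0}
  have := (fun _ => trivial : _ → True) @Cfsg.commutingGraph.eq_def.{0}
  have := (fun _ => trivial : _ → True) @Cfsg.commutingGraph.congr_simp.{0}
  have := (fun _ => trivial : _ → True) @Cfsg.reflectionsOfNorm.eq_1.{0}
  have := (fun _ => trivial : _ → True) @Cfsg.reflectionsOfNorm.eq_def.{0}
  have := (fun _ => trivial : _ → True) @Cfsg.reflectionsOfNorm.congr_simp.{0}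
  have := (fun _ => trivial : _ → True) @Cfsg.LineSystem.restrict.eq_1.{0}
  have := (fun _ => trivial : _ → True) @Cfsg.LineSystem.restrict.eq_def.{0}
  have := (fun _ => trivial : _ → True) @Cfsg.LineSystem.restrict.congr_simp.{0}
  have := (fun _ => trivial : _ → True) @Cfsg.LineSystem.IsPartialLinear.eq_1.{0}
  have := (fun _ => trivial : _ → True) @Cfsg.LineSystem.IsPartialLinear.eq_def.{0}
  have := (fun _ => trivial : _ → True) @Cfsg.LineSystem.IsPartialLinear.congr_simp.{0}
  have := (fun _ => trivial : _ → True) @Cfsg.LineSystem.lineMap.eq_1.{0}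
  have := (fun _ => trivial : _ → True) @Cfsg.LineSystem.lineMap.eq_def.{0}
  have := (fun _ => trivial : _ → True) @Cfsg.LineSystem.lineMap.congr_simp.{0}
  have := (fun _ => trivial : _ → True) @Cfsg.LineSystem.span.eq_1.{0}
  have := (fun _ => trivial : _ → True) @Cfsg.LineSystem.span.eq_def.{0}
  have := (fun _ => trivial : _ → True) @Cfsg.LineSystem.span.congr_simp.{0}
  have := (fun _ => trivial : _ → True) @Cfsg.polarGramDet.eq_1.{0}
  have := (fun _ => trivial : _ → True) @Cfsg.polarGramDet.eq_def.{0}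
  have := (fun _ => trivial : _ → True) @Cfsg.polarGramDet.congr_simp.{0}
  have := (fun _ => trivial : _ → True) @Cfsg.threeTranspositionLines.eq_1.{0}
  have := (fun _ => trivial : _ → True) @Cfsg.threeTranspositionLines.eq_def.{0}
  have := (fun _ => trivial : _ → True) @Cfsg.threeTranspositionLines.congr_simp.{0}
  have := (fun _ => trivial : _ → True) @Cfsg.IsThreeTranspositionGroup.eq_1.{0}
  have := (fun _ => trivial : _ → True) @Cfsg.IsThreeTranspositionGroup.eq_def.{0}
  have := (fun _ => trivial : _ → True) @Cfsg.IsThreeTranspositionGroup.congr_simp.{0}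
  have := (fun _ => trivial : _ → True) @Cfsg.LineSystem.Isomorphic.eq_1.{0,0}
  have := (fun _ => trivial : _ → True) @Cfsg.LineSystem.Isomorphic.eq_def.{0,0}
  have := (fun _ => trivial : _ → True) @Cfsg.LineSystem.Isomorphic.congr_simp.{0,0}
  have := (fun _ => trivial : _ → True) @Cfsg.IsReflectionGroupModThree.eq_1.{0}
  have := (fun _ => trivial : _ → True) @Cfsg.IsReflectionGroupModThree.eq_def.{0}
  have := (fun _ => trivial : _ → True) @Cfsg.IsReflectionGroupModThree.congr_simp.{0}
  have := (fun _ => trivial : _ → True) @Cfsg.dualAffinePlaneTwo.eq_1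
  have := (fun _ => trivial : _ → True) @Cfsg.dualAffinePlaneTwo.eq_def
  have := (fun _ => trivial : _ → True) @Cfsg.dualAffinePlaneTwo.congr_simp
  have := (fun _ => trivial : _ → True) @Cfsg.IsOfTypeM23.eq_1.{0}
  have := (fun _ => trivial : _ → True) @Cfsg.IsOfTypeM23.eq_def.{0}
  have := (fun _ => trivial : _ → True) @Cfsg.IsOfTypeM23.congr_simp.{0}
  have := (fun _ => trivial : _ → True) @Cfsg.IsFischerSpace.eq_1.{0}
  have := (fun _ => trivial : _ → True) @Cfsg.IsFischerSpace.eq_def.{0}
  have := (fun _ => trivial : _ → True) @Cfsg.IsFischerSpace.congr_simp.{0}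
  have := (fun _ => trivial : _ → True) @Cfsg.affinePlaneThree.eq_1
  have := (fun _ => trivial : _ → True) @Cfsg.affinePlaneThree.eq_def
  have := (fun _ => trivial : _ → True) @Cfsg.affinePlaneThree.congr_simp
  have := (fun _ => trivial : _ → True) @Cfsg.LineSystem.IsSubspace.eq_1.{0}
  have := (fun _ => trivial : _ → True) @Cfsg.LineSystem.IsSubspace.eq_def.{0}
  have := (fun _ => trivial : _ → True) @Cfsg.LineSystem.IsSubspace.congr_simp.{0}
  have := (fun _ => trivial : _ → True) @Cfsg.LineSystem.IsIso.eq_1.{0,0}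
  have := (fun _ => trivial : _ → True) @Cfsg.LineSystem.IsIso.eq_def.{0,0}
  have := (fun _ => trivial : _ → True) @Cfsg.LineSystem.IsIso.congr_simp.{0,0}
  have := (fun _ => trivial : _ → True) @Cfsg.IsDSubgroup.eq_1.{0}
  have := (fun _ => trivial : _ → True) @Cfsg.IsDSubgroup.eq_def.{0}
  have := (fun _ => trivial : _ → True) @Cfsg.IsDSubgroup.congr_simp.{0}
  have := (fun _ => trivial : _ → True) @Cfsg.reflectionSubgroup.eq_1.{0}
  have := (fun _ => trivial : _ → True) @Cfsg.reflectionSubgroup.eq_def.{0}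
  have := (fun _ => trivial : _ → True) @Cfsg.reflectionSubgroup.congr_simp.{0}
  have := (fun _ => trivial : _ → True) @Cfsg.IsOfTypeM22.eq_1.{0}
  have := (fun _ => trivial : _ → True) @Cfsg.IsOfTypeM22.eq_def.{0}
  have := (fun _ => trivial : _ → True) @Cfsg.IsOfTypeM22.congr_simp.{0}
  have := (fun _ => trivial : _ → True) @Cfsg.IsOfTypeM24.eq_1.{0}
  have := (fun _ => trivial : _ → True) @Cfsg.IsOfTypeM24.eq_def.{0}
  have := (fun _ => trivial : _ → True) @Cfsg.IsOfTypeM24.congr_simp.{0}
  trivial
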