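import Cfsg.Prelude.Def_DegreeGraph
import Cfsg.Agent.Eq.Def_Blocks

/-! Pre-generates on-demand lemmas for the definitions, so that importers share one copy. -/

theorem CfsgLib.Eq.Def_DegreeGraph.touch : True := by
  have := (fun _ => trivial : _ → True) @Cfsg.relCharDegrees.eq_1.{0}
  have := (fun _ => trivial : _ → True) @Cfsg.relCharDegrees.eq_def.{0}
  have := (fun _ => trivial : _ → True) @Cfsg.relCharDegrees.congr_simp.{0}
  have := (fun _ => trivial : _ → True) @Cfsg.degreeGraph.eq_1.{0}
  have := (fun _ => trivial : _ → True) @Cfsg.degreeGraph.eq_def.{0}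
  have := (fun _ => trivial : _ → True) @Cfsg.degreeGraph.congr_simp.{0}
  have := (fun _ => trivial : _ → True) @Cfsg.charDegrees.eq_1.{0}
  have := (fun _ => trivial : _ → True) @Cfsg.charDegrees.eq_def.{0}
  have := (fun _ => trivial : _ → True) @Cfsg.charDegrees.congr_simp.{0}
  have := (fun _ => trivial : _ → True) @Cfsg.degreePrimes.eq_1.{0}
  have := (fun _ => trivial : _ → True) @Cfsg.degreePrimes.eq_def.{0}
  have := (fun _ => trivial : _ → True) @Cfsg.degreePrimes.congr_simp.{0}
  have := (fun _ => trivial : _ → True) @Cfsg.commonDivisorGraph.eq_1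
  have := (fun _ => trivial : _ → True) @Cfsg.commonDivisorGraph.eq_def
  have := (fun _ => trivial : _ → True) @Cfsg.commonDivisorGraph.congr_simp
  trivial
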