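import Cfsg.Prelude.Def_AxialAlgebras

/-! Pre-generates on-demand lemmas for the definitions, so that importers share one copy. -/

theorem CfsgLib.Eq.Def_AxialAlgebras.touch : True := by
  have := (fun _ => trivial : _ → True) @Cfsg.Axial.IsAxis.eq_1.{0,0}
  have := (fun _ => trivial : _ → True) @Cfsg.Axial.IsAxis.eq_def.{0,0}
  have := (fun _ => trivial : _ → True) @Cfsg.Axial.IsAxis.congr_simp.{0,0}
  have := (fun _ => trivial : _ → True) @Cfsg.Axial.majoranaSpectrum.eq_1
  have := (fun _ => trivial : _ → True) @Cfsg.Axial.majoranaSpectrum.eq_def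
  have := (fun _ => trivial : _ → True) @Cfsg.Axial.majoranaSpectrum.congr_simp
  have := (fun _ => trivial : _ → True) @Cfsg.Axial.IsPrimitiveAxis.eq_1.{0,0}
  have := (fun _ => trivial : _ → True) @Cfsg.Axial.IsPrimitiveAxis.eq_def.{0,0}
  have := (fun _ => trivial : _ → True) @Cfsg.Axial.IsPrimitiveAxis.congr_simp.{0,0}
  have := (fun _ => trivial : _ → True) @Cfsg.Axial.subalgebraGen.eq_1.{0,0}
  have := (fun _ => trivial : _ → True) @Cfsg.Axial.subalgebraGen.eq_def.{0,0}
  have := (fun _ => trivial : _ → True) @Cfsg.Axial.subalgebraGen.congr_simp.{0,0}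
  have := (fun _ => trivial : _ → True) @Cfsg.Axial.IsFrobeniusForm.eq_1.{0,0}
  have := (fun _ => trivial : _ → True) @Cfsg.Axial.IsFrobeniusForm.eq_def.{0,0}
  have := (fun _ => trivial : _ → True) @Cfsg.Axial.IsFrobeniusForm.congr_simp.{0,0}
  have := (fun _ => trivial : _ → True) @Cfsg.Axial.IsCommMul.eq_1.{0,0}
  have := (fun _ => trivial : _ → True) @Cfsg.Axial.IsCommMul.eq_def.{0,0}
  have := (fun _ => trivial : _ → True) @Cfsg.Axial.IsCommMul.congr_simp.{0,0}
  have := (fun _ => trivial : _ → True) @Cfsg.Axial.IsIdeal.eq_1.{0,0}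
  have := (fun _ => trivial : _ → True) @Cfsg.Axial.IsIdeal.eq_def.{0,0}
  have := (fun _ => trivial : _ → True) @Cfsg.Axial.IsIdeal.congr_simp.{0,0}
  have := (fun _ => trivial : _ → True) @Cfsg.Axial.eigenSum.eq_1.{0,0}
  have := (fun _ => trivial : _ → True) @Cfsg.Axial.eigenSum.eq_def.{0,0}
  have := (fun _ => trivial : _ → True) @Cfsg.Axial.eigenSum.congr_simp.{0,0}
  have := (fun _ => trivial : _ → True) @Cfsg.Axial.IsMajoranaPair.eq_1.{0}
  have := (fun _ => trivial : _ → True) @Cfsg.Axial.IsMajoranaPair.eq_def.{0}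
  have := (fun _ => trivial : _ → True) @Cfsg.Axial.IsMajoranaPair.congr_simp.{0}
  have := (fun _ => trivial : _ → True) @Cfsg.Axial.IsMiyamotoMap.eq_1.{0,0}
  have := (fun _ => trivial : _ → True) @Cfsg.Axial.IsMiyamotoMap.eq_def.{0,0}
  have := (fun _ => trivial : _ → True) @Cfsg.Axial.IsMiyamotoMap.congr_simp.{0,0}
  have := (fun _ => trivial : _ → True) @Cfsg.Axial.eigen.eq_1.{0,0}
  have := (fun _ => trivial : _ → True) @Cfsg.Axial.eigen.eq_def.{0,0}
  have := (fun _ => trivial : _ → True) @Cfsg.Axial.eigen.congr_simp.{0,0}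
  have := (fun _ => trivial : _ → True) @Cfsg.Axial.IsPrimitiveAxialAlgebra.eq_1.{0,0}
  have := (fun _ => trivial : _ → True) @Cfsg.Axial.IsPrimitiveAxialAlgebra.eq_def.{0,0}
  have := (fun _ => trivial : _ → True) @Cfsg.Axial.IsPrimitiveAxialAlgebra.congr_simp.{0,0}
  have := (fun _ => trivial : _ → True) @Cfsg.Axial.jordanLaw.eq_1.{0}
  have := (fun _ => trivial : _ → True) @Cfsg.Axial.jordanLaw.eq_def.{0}
  have := (fun _ => trivial : _ → True) @Cfsg.Axial.jordanLaw.congr_simp.{0}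
  have := (fun _ => trivial : _ → True) @Cfsg.Axial.monsterLaw.eq_1.{0}
  have := (fun _ => trivial : _ → True) @Cfsg.Axial.monsterLaw.eq_def.{0}
  have := (fun _ => trivial : _ → True) @Cfsg.Axial.monsterLaw.congr_simp.{0}
  have := (fun _ => trivial : _ → True) @Cfsg.Axial.IsMulClosed.eq_1.{0,0}
  have := (fun _ => trivial : _ → True) @Cfsg.Axial.IsMulClosed.eq_def.{0,0}
  have := (fun _ => trivial : _ → True) @Cfsg.Axial.IsMulClosed.congr_simp.{0,0}
  have := (fun _ => trivial : _ → True) @Cfsg.Axial.IsMajoranaAmbient.eq_1.{0}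
  have := (fun _ => trivial : _ → True) @Cfsg.Axial.IsMajoranaAmbient.eq_def.{0}
  have := (fun _ => trivial : _ → True) @Cfsg.Axial.IsMajoranaAmbient.congr_simp.{0}
  trivial
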