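import Cfsg.Prelude.Def_FusionComponents
import Cfsg.Agent.Eq.Def_FusionSystem

/-! Pre-generates on-demand lemmas for the definitions, so that importers share one copy. -/

theorem CfsgLib.Eq.Def_FusionComponents.touch : True := by
  have := (fun _ => trivial : _ → True) @Cfsg.FusionSystem.Quasisimple.eq_1.{0}
  have := (fun _ => trivial : _ → True) @Cfsg.FusionSystem.Quasisimple.eq_def.{0}
  have := (fun _ => trivial : _ → True) @Cfsg.FusionSystem.Quasisimple.congr_simp.{0}
  have := (fun _ => trivial : _ → True) @Cfsg.FusionSystem.IsSubnormalIn.recOn.congr_simp.{0}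
  have := (fun _ => trivial : _ → True) @Cfsg.FusionSystem.IsPPrimeResidual.eq_1.{0}
  have := (fun _ => trivial : _ → True) @Cfsg.FusionSystem.IsPPrimeResidual.eq_def.{0}
  have := (fun _ => trivial : _ → True) @Cfsg.FusionSystem.IsPPrimeResidual.congr_simp.{0}
  have := (fun _ => trivial : _ → True) @Cfsg.FusionSystem.IsComponentIn.eq_1.{0}
  have := (fun _ => trivial : _ → True) @Cfsg.FusionSystem.IsComponentIn.eq_def.{0}
  have := (fun _ => trivial : _ → True) @Cfsg.FusionSystem.IsComponentIn.congr_simp.{0}
  have := (fun _ => trivial : _ → True) @Cfsg.FusionSystem.IsMorphism.eq_1.{0,0}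
  have := (fun _ => trivial : _ → True) @Cfsg.FusionSystem.IsMorphism.eq_def.{0,0}
  have := (fun _ => trivial : _ → True) @Cfsg.FusionSystem.IsMorphism.congr_simp.{0,0}
  have := (fun _ => trivial : _ → True) @Cfsg.FusionSystem.IsLayerOf.eq_1.{0}
  have := (fun _ => trivial : _ → True) @Cfsg.FusionSystem.IsLayerOf.eq_def.{0}
  have := (fun _ => trivial : _ → True) @Cfsg.FusionSystem.IsLayerOf.congr_simp.{0}
  have := (fun _ => trivial : _ → True) @Cfsg.FusionSystem.IsFactorSystem.eq_1.{0,0}
  have := (fun _ => trivial : _ → True) @Cfsg.FusionSystem.IsFactorSystem.eq_def.{0,0}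
  have := (fun _ => trivial : _ → True) @Cfsg.FusionSystem.IsFactorSystem.congr_simp.{0,0}
  have := (fun _ => trivial : _ → True) @Cfsg.FusionSystem.IsSubnormalIn.below.casesOn.congr_simp.{0}
  have := (fun _ => trivial : _ → True) @Cfsg.FusionSystem.IsSolvableSystem.eq_1.{0}
  have := (fun _ => trivial : _ → True) @Cfsg.FusionSystem.IsSolvableSystem.eq_def.{0}
  have := (fun _ => trivial : _ → True) @Cfsg.FusionSystem.IsSolvableSystem.congr_simp.{0}
  have := (fun _ => trivial : _ → True) @Cfsg.FusionSystem.InducedAlong.eq_1.{0,0}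
  have := (fun _ => trivial : _ → True) @Cfsg.FusionSystem.InducedAlong.eq_def.{0,0}
  have := (fun _ => trivial : _ → True) @Cfsg.FusionSystem.InducedAlong.congr_simp.{0,0}
  have := (fun _ => trivial : _ → True) @Cfsg.FusionSystem.HasTerminatingResidualSeries.recOn.congr_simp.{0}
  have := (fun _ => trivial : _ → True) @Cfsg.FusionSystem.HasTerminatingResidualSeries.below.casesOn.congr_simp.{0}
  have := (fun _ => trivial : _ → True) @Cfsg.FusionSystem.IsProductSystem.eq_1.{0,0}
  have := (fun _ => trivial : _ → True) @Cfsg.FusionSystem.IsProductSystem.eq_def.{0,0}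
  have := (fun _ => trivial : _ → True) @Cfsg.FusionSystem.IsProductSystem.congr_simp.{0,0}
  have := (fun _ => trivial : _ → True) @Cfsg.FusionSystem.IsPResidual.eq_1.{0}
  have := (fun _ => trivial : _ → True) @Cfsg.FusionSystem.IsPResidual.eq_def.{0}
  have := (fun _ => trivial : _ → True) @Cfsg.FusionSystem.IsPResidual.congr_simp.{0}
  have := (fun _ => trivial : _ → True) @Cfsg.FusionSystem.IsSubnormalIn.casesOn.congr_simp.{0}
  have := (fun _ => trivial : _ → True) @Cfsg.FusionSystem.imageAlong.eq_1.{0,0}
  have := (fun _ => trivial : _ → True) @Cfsg.FusionSystem.imageAlong.eq_def.{0,0}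
  have := (fun _ => trivial : _ → True) @Cfsg.FusionSystem.imageAlong.congr_simp.{0,0}
  have := (fun _ => trivial : _ → True) @Cfsg.FusionSystem.IsCentralProductOf.eq_1.{0}
  have := (fun _ => trivial : _ → True) @Cfsg.FusionSystem.IsCentralProductOf.eq_def.{0}
  have := (fun _ => trivial : _ → True) @Cfsg.FusionSystem.IsCentralProductOf.congr_simp.{0}
  have := (fun _ => trivial : _ → True) @Cfsg.FusionSystem.HasTerminatingResidualSeries.casesOn.congr_simp.{0}
  have := (fun _ => trivial : _ → True) @Cfsg.FusionSystem.preimageAlong.eq_1.{0,0}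
  have := (fun _ => trivial : _ → True) @Cfsg.FusionSystem.preimageAlong.eq_def.{0,0}
  have := (fun _ => trivial : _ → True) @Cfsg.FusionSystem.preimageAlong.congr_simp.{0,0}
  have := (fun _ => trivial : _ → True) @Cfsg.FusionSystem.IsSurjectiveMorphism.eq_1.{0,0}
  have := (fun _ => trivial : _ → True) @Cfsg.FusionSystem.IsSurjectiveMorphism.eq_def.{0,0}
  have := (fun _ => trivial : _ → True) @Cfsg.FusionSystem.IsSurjectiveMorphism.congr_simp.{0,0}
  have := (fun _ => trivial : _ → True) @Cfsg.FusionSystem.IsOfComponentType.eq_1.{0}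
  have := (fun _ => trivial : _ → True) @Cfsg.FusionSystem.IsOfComponentType.eq_def.{0}
  have := (fun _ => trivial : _ → True) @Cfsg.FusionSystem.IsOfComponentType.congr_simp.{0}
  trivial
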