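import Cfsg.Prelude.Def_FusionFitting
import Cfsg.Agent.Eq.Def_FusionComponents

/-! Pre-generates on-demand lemmas for the definitions, so that importers share one copy. -/

theorem CfsgLib.Eq.Def_FusionFitting.touch : True := by
  have := (fun _ => trivial : _ → True) @Cfsg.FusionSystem.IsGeneralizedFittingOf.eq_1.{0}
  have := (fun _ => trivial : _ → True) @Cfsg.FusionSystem.IsGeneralizedFittingOf.eq_def.{0}
  have := (fun _ => trivial : _ → True) @Cfsg.FusionSystem.IsGeneralizedFittingOf.congr_simp.{0}
  trivial
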