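import Cfsg.Prelude.Def_JankoFourType
import Cfsg.Agent.Eq.Def_Transfer
import Cfsg.Agent.Eq.Def_Solvable
import Cfsg.Agent.Eq.Def_Spor_Mathieu

/-! Pre-generates on-demand lemmas for the definitions, so that importers share one copy. -/

theorem CfsgLib.Eq.Def_JankoFourType.touch : True := by
  have := (fun _ => trivial : _ → True) @Cfsg.IsOfJankoFourTypeAt.eq_1.{0}
  have := (fun _ => trivial : _ → True) @Cfsg.IsOfJankoFourTypeAt.eq_def.{0}
  have := (fun _ => trivial : _ → True) @Cfsg.IsOfJankoFourTypeAt.congr_simp.{0}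
  have := (fun _ => trivial : _ → True) @Cfsg.IsOfJankoFourTypeWith.eq_1.{0}
  have := (fun _ => trivial : _ → True) @Cfsg.IsOfJankoFourTypeWith.eq_def.{0}
  have := (fun _ => trivial : _ → True) @Cfsg.IsOfJankoFourTypeWith.congr_simp.{0}
  have := (fun _ => trivial : _ → True) @Cfsg.twoCoreOfCentralizer.eq_1.{0}
  have := (fun _ => trivial : _ → True) @Cfsg.twoCoreOfCentralizer.eq_def.{0}
  have := (fun _ => trivial : _ → True) @Cfsg.twoCoreOfCentralizer.congr_simp.{0}
  have := (fun _ => trivial : _ → True) @Cfsg.IsOfJankoFourType.eq_1.{0}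
  have := (fun _ => trivial : _ → True) @Cfsg.IsOfJankoFourType.eq_def.{0}
  have := (fun _ => trivial : _ → True) @Cfsg.IsOfJankoFourType.congr_simp.{0}
  trivial
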