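import Cfsg.Prelude.Def_PhanSystems
import Cfsg.Agent.Eq.Def_Classical

/-! Pre-generates on-demand lemmas for the definitions, so that importers share one copy. -/

theorem CfsgLib.Eq.Def_PhanSystems.touch : True := by
  have := (fun _ => trivial : _ → True) @Cfsg.suBlock.eq_1.{0}
  have := (fun _ => trivial : _ → True) @Cfsg.suBlock.eq_def.{0}
  have := (fun _ => trivial : _ → True) @Cfsg.suBlock.congr_simp.{0}
  have := (fun _ => trivial : _ → True) @Cfsg.IsStandardUnitaryPair.eq_1.{0,0}
  have := (fun _ => trivial : _ → True) @Cfsg.IsStandardUnitaryPair.eq_def.{0,0}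
  have := (fun _ => trivial : _ → True) @Cfsg.IsStandardUnitaryPair.congr_simp.{0,0}
  trivial
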