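import Cfsg.Prelude.Def_Quasithin
import Cfsg.Agent.Eq.Def_ClassificationK
import Cfsg.Agent.Eq.Def_Classification2
import Cfsg.Agent.Eq.Def_LieTypeChar
import Cfsg.Agent.Eq.Def_EvenType

/-! Pre-generates on-demand lemmas for the definitions, so that importers share one copy. -/

theorem CfsgLib.Eq.Def_Quasithin.touch : True := by
  have := (fun _ => trivial : _ → True) @Cfsg.calLMax.eq_1.{0}
  have := (fun _ => trivial : _ → True) @Cfsg.calLMax.eq_def.{0}
  have := (fun _ => trivial : _ → True) @Cfsg.calLMax.congr_simp.{0}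
  have := (fun _ => trivial : _ → True) @Cfsg.IsTwoPowerNeighbourPrime.eq_1
  have := (fun _ => trivial : _ → True) @Cfsg.IsTwoPowerNeighbourPrime.eq_def
  have := (fun _ => trivial : _ → True) @Cfsg.IsTwoPowerNeighbourPrime.congr_simp
  have := (fun _ => trivial : _ → True) @Cfsg.oddGenerated.eq_1.{0}
  have := (fun _ => trivial : _ → True) @Cfsg.oddGenerated.eq_def.{0}
  have := (fun _ => trivial : _ → True) @Cfsg.oddGenerated.congr_simp.{0}
  have := (fun _ => trivial : _ → True) @Cfsg.calC.eq_1.{0}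
  have := (fun _ => trivial : _ → True) @Cfsg.calC.eq_def.{0}
  have := (fun _ => trivial : _ → True) @Cfsg.calC.congr_simp.{0}
  have := (fun _ => trivial : _ → True) @Cfsg.calHMin.eq_1.{0}
  have := (fun _ => trivial : _ → True) @Cfsg.calHMin.eq_def.{0}
  have := (fun _ => trivial : _ → True) @Cfsg.calHMin.congr_simp.{0}
  have := (fun _ => trivial : _ → True) @Cfsg.IsOfQTEvenType.eq_1.{0}
  have := (fun _ => trivial : _ → True) @Cfsg.IsOfQTEvenType.eq_def.{0}
  have := (fun _ => trivial : _ → True) @Cfsg.IsOfQTEvenType.congr_simp.{0}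
  have := (fun _ => trivial : _ → True) @Cfsg.QuadParamLE.eq_1.{0}
  have := (fun _ => trivial : _ → True) @Cfsg.QuadParamLE.eq_def.{0}
  have := (fun _ => trivial : _ → True) @Cfsg.QuadParamLE.congr_simp.{0}
  have := (fun _ => trivial : _ → True) @Cfsg.calHOverNotLE.eq_1.{0}
  have := (fun _ => trivial : _ → True) @Cfsg.calHOverNotLE.eq_def.{0}
  have := (fun _ => trivial : _ → True) @Cfsg.calHOverNotLE.congr_simp.{0}
  have := (fun _ => trivial : _ → True) @Cfsg.calR2.eq_1.{0}
  have := (fun _ => trivial : _ → True) @Cfsg.calR2.eq_def.{0}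
  have := (fun _ => trivial : _ → True) @Cfsg.calR2.congr_simp.{0}
  have := (fun _ => trivial : _ → True) @Cfsg.twoPhiCore.eq_1.{0}
  have := (fun _ => trivial : _ → True) @Cfsg.twoPhiCore.eq_def.{0}
  have := (fun _ => trivial : _ → True) @Cfsg.twoPhiCore.congr_simp.{0}
  have := (fun _ => trivial : _ → True) @Cfsg.calL.eq_1.{0}
  have := (fun _ => trivial : _ → True) @Cfsg.calL.eq_def.{0}
  have := (fun _ => trivial : _ → True) @Cfsg.calL.congr_simp.{0}
  have := (fun _ => trivial : _ → True) @Cfsg.IsLieRankLETwoCharTwo.eq_1.{0}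
  have := (fun _ => trivial : _ → True) @Cfsg.IsLieRankLETwoCharTwo.eq_def.{0}
  have := (fun _ => trivial : _ → True) @Cfsg.IsLieRankLETwoCharTwo.congr_simp.{0}
  have := (fun _ => trivial : _ → True) @Cfsg.IsUniquenessSubgroup.eq_1.{0}
  have := (fun _ => trivial : _ → True) @Cfsg.IsUniquenessSubgroup.eq_def.{0}
  have := (fun _ => trivial : _ → True) @Cfsg.IsUniquenessSubgroup.congr_simp.{0}
  have := (fun _ => trivial : _ → True) @Cfsg.CubicParamLE.eq_1.{0}
  have := (fun _ => trivial : _ → True) @Cfsg.CubicParamLE.eq_def.{0}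
  have := (fun _ => trivial : _ → True) @Cfsg.CubicParamLE.congr_simp.{0}
  have := (fun _ => trivial : _ → True) @Cfsg.IsStronglyQuasithin.eq_1.{0}
  have := (fun _ => trivial : _ → True) @Cfsg.IsStronglyQuasithin.eq_def.{0}
  have := (fun _ => trivial : _ → True) @Cfsg.IsStronglyQuasithin.congr_simp.{0}
  have := (fun _ => trivial : _ → True) @Cfsg.perfectCore.eq_1.{0}
  have := (fun _ => trivial : _ → True) @Cfsg.perfectCore.eq_def.{0}
  have := (fun _ => trivial : _ → True) @Cfsg.perfectCore.congr_simp.{0}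
  have := (fun _ => trivial : _ → True) @Cfsg.InducesElemAbelianTwoGroupOn.eq_1.{0}
  have := (fun _ => trivial : _ → True) @Cfsg.InducesElemAbelianTwoGroupOn.eq_def.{0}
  have := (fun _ => trivial : _ → True) @Cfsg.InducesElemAbelianTwoGroupOn.congr_simp.{0}
  have := (fun _ => trivial : _ → True) @Cfsg.XiStar.eq_1.{0}
  have := (fun _ => trivial : _ → True) @Cfsg.XiStar.eq_def.{0}
  have := (fun _ => trivial : _ → True) @Cfsg.XiStar.congr_simp.{0}
  have := (fun _ => trivial : _ → True) @Cfsg.IsQuasithin.eq_1.{0}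
  have := (fun _ => trivial : _ → True) @Cfsg.IsQuasithin.eq_def.{0}
  have := (fun _ => trivial : _ → True) @Cfsg.IsQuasithin.congr_simp.{0}
  have := (fun _ => trivial : _ → True) @Cfsg.IsQTKE.eq_1.{0}
  have := (fun _ => trivial : _ → True) @Cfsg.IsQTKE.eq_def.{0}
  have := (fun _ => trivial : _ → True) @Cfsg.IsQTKE.congr_simp.{0}
  have := (fun _ => trivial : _ → True) @Cfsg.maxTwoLocalsContaining.eq_1.{0}
  have := (fun _ => trivial : _ → True) @Cfsg.maxTwoLocalsContaining.eq_def.{0}
  have := (fun _ => trivial : _ → True) @Cfsg.maxTwoLocalsContaining.congr_simp.{0}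
  have := (fun _ => trivial : _ → True) @Cfsg.IsQTEvenTypeComponent.eq_1.{0}
  have := (fun _ => trivial : _ → True) @Cfsg.IsQTEvenTypeComponent.eq_def.{0}
  have := (fun _ => trivial : _ → True) @Cfsg.IsQTEvenTypeComponent.congr_simp.{0}
  have := (fun _ => trivial : _ → True) @Cfsg.Xi.eq_1.{0}
  have := (fun _ => trivial : _ → True) @Cfsg.Xi.eq_def.{0}
  have := (fun _ => trivial : _ → True) @Cfsg.Xi.congr_simp.{0}
  have := (fun _ => trivial : _ → True) @Cfsg.calH.eq_1.{0}
  have := (fun _ => trivial : _ → True) @Cfsg.calH.eq_def.{0}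
  have := (fun _ => trivial : _ → True) @Cfsg.calH.congr_simp.{0}
  have := (fun _ => trivial : _ → True) @Cfsg.IsBenderGroup.eq_1.{0}
  have := (fun _ => trivial : _ → True) @Cfsg.IsBenderGroup.eq_def.{0}
  have := (fun _ => trivial : _ → True) @Cfsg.IsBenderGroup.congr_simp.{0}
  have := (fun _ => trivial : _ → True) @Cfsg.conjClosure.eq_1.{0}
  have := (fun _ => trivial : _ → True) @Cfsg.conjClosure.eq_def.{0}
  have := (fun _ => trivial : _ → True) @Cfsg.conjClosure.congr_simp.{0}
  have := (fun _ => trivial : _ → True) @Cfsg.calHOver.eq_1.{0}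
  have := (fun _ => trivial : _ → True) @Cfsg.calHOver.eq_def.{0}
  have := (fun _ => trivial : _ → True) @Cfsg.calHOver.congr_simp.{0}
  have := (fun _ => trivial : _ → True) @Cfsg.IsOnQTKEList.eq_1.{0}
  have := (fun _ => trivial : _ → True) @Cfsg.IsOnQTKEList.eq_def.{0}
  have := (fun _ => trivial : _ → True) @Cfsg.IsOnQTKEList.congr_simp.{0}
  trivial
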