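import Cfsg.Prelude.Def_RootSubgroups
import Cfsg.Agent.Eq.Def_CaseTheorems

/-! Pre-generates on-demand lemmas for the definitions, so that importers share one copy. -/

theorem CfsgLib.Eq.Def_RootSubgroups.touch : True := by
  have := (fun _ => trivial : _ → True) @Cfsg.IsNondegenerateRootInvolutionSet.eq_1.{0}
  have := (fun _ => trivial : _ → True) @Cfsg.IsNondegenerateRootInvolutionSet.eq_def.{0}
  have := (fun _ => trivial : _ → True) @Cfsg.IsNondegenerateRootInvolutionSet.congr_simp.{0}
  have := (fun _ => trivial : _ → True) @Cfsg.IsThreeFourPlusTranspositionSet.eq_1.{0}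
  have := (fun _ => trivial : _ → True) @Cfsg.IsThreeFourPlusTranspositionSet.eq_def.{0}
  have := (fun _ => trivial : _ → True) @Cfsg.IsThreeFourPlusTranspositionSet.congr_simp.{0}
  have := (fun _ => trivial : _ → True) @Cfsg.IsAbelianFamily.eq_1.{0}
  have := (fun _ => trivial : _ → True) @Cfsg.IsAbelianFamily.eq_def.{0}
  have := (fun _ => trivial : _ → True) @Cfsg.IsAbelianFamily.congr_simp.{0}
  have := (fun _ => trivial : _ → True) @Cfsg.rankOnePartners.eq_1.{0}
  have := (fun _ => trivial : _ → True) @Cfsg.rankOnePartners.eq_def.{0}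
  have := (fun _ => trivial : _ → True) @Cfsg.rankOnePartners.congr_simp.{0}
  have := (fun _ => trivial : _ → True) @Cfsg.sameCommutingClass.eq_1.{0}
  have := (fun _ => trivial : _ → True) @Cfsg.sameCommutingClass.eq_def.{0}
  have := (fun _ => trivial : _ → True) @Cfsg.sameCommutingClass.congr_simp.{0}
  have := (fun _ => trivial : _ → True) @Cfsg.commutatorRank.eq_1.{0,0}
  have := (fun _ => trivial : _ → True) @Cfsg.commutatorRank.eq_def.{0,0}
  have := (fun _ => trivial : _ → True) @Cfsg.commutatorRank.congr_simp.{0,0}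
  have := (fun _ => trivial : _ → True) @Cfsg.elemComponentOf.eq_1.{0}
  have := (fun _ => trivial : _ → True) @Cfsg.elemComponentOf.eq_def.{0}
  have := (fun _ => trivial : _ → True) @Cfsg.elemComponentOf.congr_simp.{0}
  have := (fun _ => trivial : _ → True) @Cfsg.IsWeakTISubsetOfElements.eq_1.{0}
  have := (fun _ => trivial : _ → True) @Cfsg.IsWeakTISubsetOfElements.eq_def.{0}
  have := (fun _ => trivial : _ → True) @Cfsg.IsWeakTISubsetOfElements.congr_simp.{0}
  have := (fun _ => trivial : _ → True) @Cfsg.commutingOthers.eq_1.{0}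
  have := (fun _ => trivial : _ → True) @Cfsg.commutingOthers.eq_def.{0}
  have := (fun _ => trivial : _ → True) @Cfsg.commutingOthers.congr_simp.{0}
  have := (fun _ => trivial : _ → True) @Cfsg.fixedSubmodule.eq_1.{0,0}
  have := (fun _ => trivial : _ → True) @Cfsg.fixedSubmodule.eq_def.{0,0}
  have := (fun _ => trivial : _ → True) @Cfsg.fixedSubmodule.congr_simp.{0,0}
  have := (fun _ => trivial : _ → True) @Cfsg.IsConjClassOfSubgroups.eq_1.{0}
  have := (fun _ => trivial : _ → True) @Cfsg.IsConjClassOfSubgroups.eq_def.{0}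
  have := (fun _ => trivial : _ → True) @Cfsg.IsConjClassOfSubgroups.congr_simp.{0}
  have := (fun _ => trivial : _ → True) @Cfsg.rankOneDiagonal.eq_1.{0}
  have := (fun _ => trivial : _ → True) @Cfsg.rankOneDiagonal.eq_def.{0}
  have := (fun _ => trivial : _ → True) @Cfsg.rankOneDiagonal.congr_simp.{0}
  have := (fun _ => trivial : _ → True) @Cfsg.lowerUnipotentSL2.eq_1.{0}
  have := (fun _ => trivial : _ → True) @Cfsg.lowerUnipotentSL2.eq_def.{0}
  have := (fun _ => trivial : _ → True) @Cfsg.lowerUnipotentSL2.congr_simp.{0}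
  have := (fun _ => trivial : _ → True) @Cfsg.productPartners.eq_1.{0}
  have := (fun _ => trivial : _ → True) @Cfsg.productPartners.eq_def.{0}
  have := (fun _ => trivial : _ → True) @Cfsg.productPartners.congr_simp.{0}
  have := (fun _ => trivial : _ → True) @Cfsg.upperUnipotentSL2.eq_1.{0}
  have := (fun _ => trivial : _ → True) @Cfsg.upperUnipotentSL2.eq_def.{0}
  have := (fun _ => trivial : _ → True) @Cfsg.upperUnipotentSL2.congr_simp.{0}
  have := (fun _ => trivial : _ → True) @Cfsg.normalizingMembers.eq_1.{0}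
  have := (fun _ => trivial : _ → True) @Cfsg.normalizingMembers.eq_def.{0}
  have := (fun _ => trivial : _ → True) @Cfsg.normalizingMembers.congr_simp.{0}
  have := (fun _ => trivial : _ → True) @Cfsg.IsRootSubgroupSet.casesOn.eq_1.{0,0}
  have := (fun _ => trivial : _ → True) @Cfsg.IsRootSubgroupSet.casesOn.eq_def.{0,0}
  have := (fun _ => trivial : _ → True) @Cfsg.IsRootSubgroupSet.casesOn.congr_simp.{0,0}
  have := (fun _ => trivial : _ → True) @Cfsg.sameActionSubgroup.eq_1.{0,0}
  have := (fun _ => trivial : _ → True) @Cfsg.sameActionSubgroup.eq_def.{0,0}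
  have := (fun _ => trivial : _ → True) @Cfsg.sameActionSubgroup.congr_simp.{0,0}
  have := (fun _ => trivial : _ → True) @Cfsg.IsIsolatedIn.eq_1.{0}
  have := (fun _ => trivial : _ → True) @Cfsg.IsIsolatedIn.eq_def.{0}
  have := (fun _ => trivial : _ → True) @Cfsg.IsIsolatedIn.congr_simp.{0}
  have := (fun _ => trivial : _ → True) @Cfsg.IsQuadraticPair.eq_1.{0,0}
  have := (fun _ => trivial : _ → True) @Cfsg.IsQuadraticPair.eq_def.{0,0}
  have := (fun _ => trivial : _ → True) @Cfsg.IsQuadraticPair.congr_simp.{0,0}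
  have := (fun _ => trivial : _ → True) @Cfsg.IsConnectedSet.eq_1.{0}
  have := (fun _ => trivial : _ → True) @Cfsg.IsConnectedSet.eq_def.{0}
  have := (fun _ => trivial : _ → True) @Cfsg.IsConnectedSet.congr_simp.{0}
  have := (fun _ => trivial : _ → True) @Cfsg.IsRootInvolutionSet.casesOn.eq_1.{0,0}
  have := (fun _ => trivial : _ → True) @Cfsg.IsRootInvolutionSet.casesOn.eq_def.{0,0}
  have := (fun _ => trivial : _ → True) @Cfsg.IsRootInvolutionSet.casesOn.congr_simp.{0,0}
  have := (fun _ => trivial : _ → True) @Cfsg.quadraticRootSubgroups.eq_1.{0,0}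
  have := (fun _ => trivial : _ → True) @Cfsg.quadraticRootSubgroups.eq_def.{0,0}
  have := (fun _ => trivial : _ → True) @Cfsg.quadraticRootSubgroups.congr_simp.{0,0}
  have := (fun _ => trivial : _ → True) @Cfsg.HasAbelianUnipotents.eq_1.{0}
  have := (fun _ => trivial : _ → True) @Cfsg.HasAbelianUnipotents.eq_def.{0}
  have := (fun _ => trivial : _ → True) @Cfsg.HasAbelianUnipotents.congr_simp.{0}
  have := (fun _ => trivial : _ → True) @Cfsg.componentOf.eq_1.{0}
  have := (fun _ => trivial : _ → True) @Cfsg.componentOf.eq_def.{0}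
  have := (fun _ => trivial : _ → True) @Cfsg.componentOf.congr_simp.{0}
  have := (fun _ => trivial : _ → True) @Cfsg.IsConnectedFamily.eq_1.{0}
  have := (fun _ => trivial : _ → True) @Cfsg.IsConnectedFamily.eq_def.{0}
  have := (fun _ => trivial : _ → True) @Cfsg.IsConnectedFamily.congr_simp.{0}
  have := (fun _ => trivial : _ → True) @Cfsg.IsOddTranspositionSet.eq_1.{0}
  have := (fun _ => trivial : _ → True) @Cfsg.IsOddTranspositionSet.eq_def.{0}
  have := (fun _ => trivial : _ → True) @Cfsg.IsOddTranspositionSet.congr_simp.{0}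
  have := (fun _ => trivial : _ → True) @Cfsg.ProdAdj.eq_1.{0}
  have := (fun _ => trivial : _ → True) @Cfsg.ProdAdj.eq_def.{0}
  have := (fun _ => trivial : _ → True) @Cfsg.ProdAdj.congr_simp.{0}
  have := (fun _ => trivial : _ → True) @Cfsg.scalarFamily.eq_1.{0,0}
  have := (fun _ => trivial : _ → True) @Cfsg.scalarFamily.eq_def.{0,0}
  have := (fun _ => trivial : _ → True) @Cfsg.scalarFamily.congr_simp.{0,0}
  have := (fun _ => trivial : _ → True) @Cfsg.IsRankOnePair.casesOn.eq_1.{0,0}
  have := (fun _ => trivial : _ → True) @Cfsg.IsRankOnePair.casesOn.eq_def.{0,0}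
  have := (fun _ => trivial : _ → True) @Cfsg.IsRankOnePair.casesOn.congr_simp.{0,0}
  have := (fun _ => trivial : _ → True) @Cfsg.rootElements.eq_1.{0}
  have := (fun _ => trivial : _ → True) @Cfsg.rootElements.eq_def.{0}
  have := (fun _ => trivial : _ → True) @Cfsg.rootElements.congr_simp.{0}
  have := (fun _ => trivial : _ → True) @Cfsg.sameCommutingSubgroup.eq_1.{0}
  have := (fun _ => trivial : _ → True) @Cfsg.sameCommutingSubgroup.eq_def.{0}
  have := (fun _ => trivial : _ → True) @Cfsg.sameCommutingSubgroup.congr_simp.{0}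
  have := (fun _ => trivial : _ → True) @Cfsg.IsIrreducibleFor.eq_1.{0,0}
  have := (fun _ => trivial : _ → True) @Cfsg.IsIrreducibleFor.eq_def.{0,0}
  have := (fun _ => trivial : _ → True) @Cfsg.IsIrreducibleFor.congr_simp.{0,0}
  have := (fun _ => trivial : _ → True) @Cfsg.IsKRootSubgroupSet.eq_1.{0,0}
  have := (fun _ => trivial : _ → True) @Cfsg.IsKRootSubgroupSet.eq_def.{0,0}
  have := (fun _ => trivial : _ → True) @Cfsg.IsKRootSubgroupSet.congr_simp.{0,0}
  have := (fun _ => trivial : _ → True) @Cfsg.EAdj.eq_1.{0}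
  have := (fun _ => trivial : _ → True) @Cfsg.EAdj.eq_def.{0}
  have := (fun _ => trivial : _ → True) @Cfsg.EAdj.congr_simp.{0}
  have := (fun _ => trivial : _ → True) @Cfsg.conjBy.eq_1.{0}
  have := (fun _ => trivial : _ → True) @Cfsg.conjBy.eq_def.{0}
  have := (fun _ => trivial : _ → True) @Cfsg.conjBy.congr_simp.{0}
  have := (fun _ => trivial : _ → True) @Cfsg.IsGeneratedByMembers.eq_1.{0}
  have := (fun _ => trivial : _ → True) @Cfsg.IsGeneratedByMembers.eq_def.{0}
  have := (fun _ => trivial : _ → True) @Cfsg.IsGeneratedByMembers.congr_simp.{0}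
  have := (fun _ => trivial : _ → True) @Cfsg.solvableRadical.eq_1.{0}
  have := (fun _ => trivial : _ → True) @Cfsg.solvableRadical.eq_def.{0}
  have := (fun _ => trivial : _ → True) @Cfsg.solvableRadical.congr_simp.{0}
  have := (fun _ => trivial : _ → True) @Cfsg.IsRankOneGroup.eq_1.{0}
  have := (fun _ => trivial : _ → True) @Cfsg.IsRankOneGroup.eq_def.{0}
  have := (fun _ => trivial : _ → True) @Cfsg.IsRankOneGroup.congr_simp.{0}
  have := (fun _ => trivial : _ → True) @Cfsg.nonidentity.eq_1.{0}
  have := (fun _ => trivial : _ → True) @Cfsg.nonidentity.eq_def.{0}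
  have := (fun _ => trivial : _ → True) @Cfsg.nonidentity.congr_simp.{0}
  have := (fun _ => trivial : _ → True) @Cfsg.RankOneCondition.eq_1.{0}
  have := (fun _ => trivial : _ → True) @Cfsg.RankOneCondition.eq_def.{0}
  have := (fun _ => trivial : _ → True) @Cfsg.RankOneCondition.congr_simp.{0}
  have := (fun _ => trivial : _ → True) @Cfsg.centralizingMembers.eq_1.{0}
  have := (fun _ => trivial : _ → True) @Cfsg.centralizingMembers.eq_def.{0}
  have := (fun _ => trivial : _ → True) @Cfsg.centralizingMembers.congr_simp.{0}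
  have := (fun _ => trivial : _ → True) @Cfsg.FAdj.eq_1.{0}
  have := (fun _ => trivial : _ → True) @Cfsg.FAdj.eq_def.{0}
  have := (fun _ => trivial : _ → True) @Cfsg.FAdj.congr_simp.{0}
  have := (fun _ => trivial : _ → True) @Cfsg.commutatorSubmodule.eq_1.{0,0}
  have := (fun _ => trivial : _ → True) @Cfsg.commutatorSubmodule.eq_def.{0,0}
  have := (fun _ => trivial : _ → True) @Cfsg.commutatorSubmodule.congr_simp.{0,0}
  have := (fun _ => trivial : _ → True) @Cfsg.sameActionClass.eq_1.{0,0}
  have := (fun _ => trivial : _ → True) @Cfsg.sameActionClass.eq_def.{0,0}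
  have := (fun _ => trivial : _ → True) @Cfsg.sameActionClass.congr_simp.{0,0}
  have := (fun _ => trivial : _ → True) @Cfsg.membersIn.eq_1.{0}
  have := (fun _ => trivial : _ → True) @Cfsg.membersIn.eq_def.{0}
  have := (fun _ => trivial : _ → True) @Cfsg.membersIn.congr_simp.{0}
  have := (fun _ => trivial : _ → True) @Cfsg.IsRootInvolutionSet.recOn.eq_1.{0,0}
  have := (fun _ => trivial : _ → True) @Cfsg.IsRootInvolutionSet.recOn.eq_def.{0,0}
  have := (fun _ => trivial : _ → True) @Cfsg.IsRootInvolutionSet.recOn.congr_simp.{0,0}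
  have := (fun _ => trivial : _ → True) @Cfsg.commutingMembers.eq_1.{0}
  have := (fun _ => trivial : _ → True) @Cfsg.commutingMembers.eq_def.{0}
  have := (fun _ => trivial : _ → True) @Cfsg.commutingMembers.congr_simp.{0}
  have := (fun _ => trivial : _ → True) @Cfsg.IsSubgroupPartition.eq_1.{0}
  have := (fun _ => trivial : _ → True) @Cfsg.IsSubgroupPartition.eq_def.{0}
  have := (fun _ => trivial : _ → True) @Cfsg.IsSubgroupPartition.congr_simp.{0}
  have := (fun _ => trivial : _ → True) @Cfsg.commutingProducts.eq_1.{0}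
  have := (fun _ => trivial : _ → True) @Cfsg.commutingProducts.eq_def.{0}
  have := (fun _ => trivial : _ → True) @Cfsg.commutingProducts.congr_simp.{0}
  have := (fun _ => trivial : _ → True) @Cfsg.linePartners.eq_1.{0}
  have := (fun _ => trivial : _ → True) @Cfsg.linePartners.eq_def.{0}
  have := (fun _ => trivial : _ → True) @Cfsg.linePartners.congr_simp.{0}
  have := (fun _ => trivial : _ → True) @Cfsg.commutatorPartners.eq_1.{0}
  have := (fun _ => trivial : _ → True) @Cfsg.commutatorPartners.eq_def.{0}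
  have := (fun _ => trivial : _ → True) @Cfsg.commutatorPartners.congr_simp.{0}
  have := (fun _ => trivial : _ → True) @Cfsg.IsPSL2PairOver.eq_1.{0,0}
  have := (fun _ => trivial : _ → True) @Cfsg.IsPSL2PairOver.eq_def.{0,0}
  have := (fun _ => trivial : _ → True) @Cfsg.IsPSL2PairOver.congr_simp.{0,0}
  have := (fun _ => trivial : _ → True) @Cfsg.CommAdj.eq_1.{0}
  have := (fun _ => trivial : _ → True) @Cfsg.CommAdj.eq_def.{0}
  have := (fun _ => trivial : _ → True) @Cfsg.CommAdj.congr_simp.{0}
  have := (fun _ => trivial : _ → True) @Cfsg.unipotentSubgroups.eq_1.{0}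
  have := (fun _ => trivial : _ → True) @Cfsg.unipotentSubgroups.eq_def.{0}
  have := (fun _ => trivial : _ → True) @Cfsg.unipotentSubgroups.congr_simp.{0}
  have := (fun _ => trivial : _ → True) @Cfsg.RootCommutatorCase.eq_1.{0}
  have := (fun _ => trivial : _ → True) @Cfsg.RootCommutatorCase.eq_def.{0}
  have := (fun _ => trivial : _ → True) @Cfsg.RootCommutatorCase.congr_simp.{0}
  have := (fun _ => trivial : _ → True) @Cfsg.quadraticElements.eq_1.{0,0}
  have := (fun _ => trivial : _ → True) @Cfsg.quadraticElements.eq_def.{0,0}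
  have := (fun _ => trivial : _ → True) @Cfsg.quadraticElements.congr_simp.{0,0}
  have := (fun _ => trivial : _ → True) @Cfsg.fourPartners.eq_1.{0}
  have := (fun _ => trivial : _ → True) @Cfsg.fourPartners.eq_def.{0}
  have := (fun _ => trivial : _ → True) @Cfsg.fourPartners.congr_simp.{0}
  have := (fun _ => trivial : _ → True) @Cfsg.OddAdj.eq_1.{0}
  have := (fun _ => trivial : _ → True) @Cfsg.OddAdj.eq_def.{0}
  have := (fun _ => trivial : _ → True) @Cfsg.OddAdj.congr_simp.{0}
  have := (fun _ => trivial : _ → True) @Cfsg.minimalQuadraticElements.eq_1.{0,0}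
  have := (fun _ => trivial : _ → True) @Cfsg.minimalQuadraticElements.eq_def.{0,0}
  have := (fun _ => trivial : _ → True) @Cfsg.minimalQuadraticElements.congr_simp.{0,0}
  have := (fun _ => trivial : _ → True) @Cfsg.IsQuadraticOn.eq_1.{0,0}
  have := (fun _ => trivial : _ → True) @Cfsg.IsQuadraticOn.eq_def.{0,0}
  have := (fun _ => trivial : _ → True) @Cfsg.IsQuadraticOn.congr_simp.{0,0}
  have := (fun _ => trivial : _ → True) @Cfsg.IsRankOnePair.recOn.eq_1.{0,0}
  have := (fun _ => trivial : _ → True) @Cfsg.IsRankOnePair.recOn.eq_def.{0,0}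
  have := (fun _ => trivial : _ → True) @Cfsg.IsRankOnePair.recOn.congr_simp.{0,0}
  have := (fun _ => trivial : _ → True) @Cfsg.commutingPartners.eq_1.{0}
  have := (fun _ => trivial : _ → True) @Cfsg.commutingPartners.eq_def.{0}
  have := (fun _ => trivial : _ → True) @Cfsg.commutingPartners.congr_simp.{0}
  have := (fun _ => trivial : _ → True) @Cfsg.IsSpecialRankOnePair.eq_1.{0}
  have := (fun _ => trivial : _ → True) @Cfsg.IsSpecialRankOnePair.eq_def.{0}
  have := (fun _ => trivial : _ → True) @Cfsg.IsSpecialRankOnePair.congr_simp.{0}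
  have := (fun _ => trivial : _ → True) @Cfsg.IsDegenerateRootSet.eq_1.{0}
  have := (fun _ => trivial : _ → True) @Cfsg.IsDegenerateRootSet.eq_def.{0}
  have := (fun _ => trivial : _ → True) @Cfsg.IsDegenerateRootSet.congr_simp.{0}
  have := (fun _ => trivial : _ → True) @Cfsg.quadraticUnipotentCore.eq_1.{0,0}
  have := (fun _ => trivial : _ → True) @Cfsg.quadraticUnipotentCore.eq_def.{0,0}
  have := (fun _ => trivial : _ → True) @Cfsg.quadraticUnipotentCore.congr_simp.{0,0}
  have := (fun _ => trivial : _ → True) @Cfsg.IsRootSubgroupClass.eq_1.{0}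
  have := (fun _ => trivial : _ → True) @Cfsg.IsRootSubgroupClass.eq_def.{0}
  have := (fun _ => trivial : _ → True) @Cfsg.IsRootSubgroupClass.congr_simp.{0}
  have := (fun _ => trivial : _ → True) @Cfsg.IsNondegenerateRootSet.eq_1.{0}
  have := (fun _ => trivial : _ → True) @Cfsg.IsNondegenerateRootSet.eq_def.{0}
  have := (fun _ => trivial : _ → True) @Cfsg.IsNondegenerateRootSet.congr_simp.{0}
  have := (fun _ => trivial : _ → True) @Cfsg.IsUnipotentOn.eq_1.{0,0}
  have := (fun _ => trivial : _ → True) @Cfsg.IsUnipotentOn.eq_def.{0,0}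
  have := (fun _ => trivial : _ → True) @Cfsg.IsUnipotentOn.congr_simp.{0,0}
  have := (fun _ => trivial : _ → True) @Cfsg.oddPartners.eq_1.{0}
  have := (fun _ => trivial : _ → True) @Cfsg.oddPartners.eq_def.{0}
  have := (fun _ => trivial : _ → True) @Cfsg.oddPartners.congr_simp.{0}
  have := (fun _ => trivial : _ → True) @Cfsg.IsRootSubgroupSet.recOn.eq_1.{0,0}
  have := (fun _ => trivial : _ → True) @Cfsg.IsRootSubgroupSet.recOn.eq_def.{0,0}
  have := (fun _ => trivial : _ → True) @Cfsg.IsRootSubgroupSet.recOn.congr_simp.{0,0}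
  have := (fun _ => trivial : _ → True) @Cfsg.IsWeakTISubset.eq_1.{0}
  have := (fun _ => trivial : _ → True) @Cfsg.IsWeakTISubset.eq_def.{0}
  have := (fun _ => trivial : _ → True) @Cfsg.IsWeakTISubset.congr_simp.{0}
  have := (fun _ => trivial : _ → True) @Cfsg.IsIsolatedElem.eq_1.{0}
  have := (fun _ => trivial : _ → True) @Cfsg.IsIsolatedElem.eq_def.{0}
  have := (fun _ => trivial : _ → True) @Cfsg.IsIsolatedElem.congr_simp.{0}
  have := (fun _ => trivial : _ → True) @Cfsg.IsRootInvolutionClass.eq_1.{0}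
  have := (fun _ => trivial : _ → True) @Cfsg.IsRootInvolutionClass.eq_def.{0}
  have := (fun _ => trivial : _ → True) @Cfsg.IsRootInvolutionClass.congr_simp.{0}
  have := (fun _ => trivial : _ → True) @Cfsg.DAdj.eq_1.{0}
  have := (fun _ => trivial : _ → True) @Cfsg.DAdj.eq_def.{0}
  have := (fun _ => trivial : _ → True) @Cfsg.DAdj.congr_simp.{0}
  trivial
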