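import Cfsg.Prelude.Def_SylowControl

/-! Pre-generates on-demand lemmas for the definitions, so that importers share one copy. -/

theorem CfsgLib.Eq.Def_SylowControl.touch : True := by
  have := (fun _ => trivial : _ → True) @Cfsg.ControlsSylowIntersections.eq_1.{0}
  have := (fun _ => trivial : _ → True) @Cfsg.ControlsSylowIntersections.eq_def.{0}
  have := (fun _ => trivial : _ → True) @Cfsg.ControlsSylowIntersections.congr_simp.{0}
  have := (fun _ => trivial : _ → True) @Cfsg.IsNormalSet.eq_1.{0}
  have := (fun _ => trivial : _ → True) @Cfsg.IsNormalSet.eq_def.{0}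
  have := (fun _ => trivial : _ → True) @Cfsg.IsNormalSet.congr_simp.{0}
  have := (fun _ => trivial : _ → True) @Cfsg.FamilyStronglyControlsFusion.eq_1.{0}
  have := (fun _ => trivial : _ → True) @Cfsg.FamilyStronglyControlsFusion.eq_def.{0}
  have := (fun _ => trivial : _ → True) @Cfsg.FamilyStronglyControlsFusion.congr_simp.{0}
  have := (fun _ => trivial : _ → True) @Cfsg.sylowMembers.eq_1.{0}
  have := (fun _ => trivial : _ → True) @Cfsg.sylowMembers.eq_def.{0}
  have := (fun _ => trivial : _ → True) @Cfsg.sylowMembers.congr_simp.{0}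
  have := (fun _ => trivial : _ → True) @Cfsg.FamilyControlsFusion.eq_1.{0}
  have := (fun _ => trivial : _ → True) @Cfsg.FamilyControlsFusion.eq_def.{0}
  have := (fun _ => trivial : _ → True) @Cfsg.FamilyControlsFusion.congr_simp.{0}
  have := (fun _ => trivial : _ → True) @Cfsg.subgroupConjRight.eq_1.{0}
  have := (fun _ => trivial : _ → True) @Cfsg.subgroupConjRight.eq_def.{0}
  have := (fun _ => trivial : _ → True) @Cfsg.subgroupConjRight.congr_simp.{0}
  have := (fun _ => trivial : _ → True) @Cfsg.conjRight.eq_1.{0}
  have := (fun _ => trivial : _ → True) @Cfsg.conjRight.eq_def.{0}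
  have := (fun _ => trivial : _ → True) @Cfsg.conjRight.congr_simp.{0}
  trivial
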