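import Cfsg.Prelude.Def_SylowChains
import Cfsg.Agent.Eq.Def_SylowControl

/-! Pre-generates on-demand lemmas for the definitions, so that importers share one copy. -/

theorem CfsgLib.Eq.Def_SylowChains.touch : True := by
  have := (fun _ => trivial : _ → True) @Cfsg.IsNormalizerFunctor.eq_1.{0}
  have := (fun _ => trivial : _ → True) @Cfsg.IsNormalizerFunctor.eq_def.{0}
  have := (fun _ => trivial : _ → True) @Cfsg.IsNormalizerFunctor.congr_simp.{0}
  have := (fun _ => trivial : _ → True) @Cfsg.IsPLocal.eq_1.{0}
  have := (fun _ => trivial : _ → True) @Cfsg.IsPLocal.eq_def.{0}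
  have := (fun _ => trivial : _ → True) @Cfsg.IsPLocal.congr_simp.{0}
  have := (fun _ => trivial : _ → True) @Cfsg.IsSylowChainConnected.eq_1.{0}
  have := (fun _ => trivial : _ → True) @Cfsg.IsSylowChainConnected.eq_def.{0}
  have := (fun _ => trivial : _ → True) @Cfsg.IsSylowChainConnected.congr_simp.{0}
  have := (fun _ => trivial : _ → True) @Cfsg.functorFamily.eq_1.{0}
  have := (fun _ => trivial : _ → True) @Cfsg.functorFamily.eq_def.{0}
  have := (fun _ => trivial : _ → True) @Cfsg.functorFamily.congr_simp.{0}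
  have := (fun _ => trivial : _ → True) @Cfsg.IsMaximalPLocal.eq_1.{0}
  have := (fun _ => trivial : _ → True) @Cfsg.IsMaximalPLocal.eq_def.{0}
  have := (fun _ => trivial : _ → True) @Cfsg.IsMaximalPLocal.congr_simp.{0}
  have := (fun _ => trivial : _ → True) @Cfsg.IsFunctorRegular.eq_1.{0}
  have := (fun _ => trivial : _ → True) @Cfsg.IsFunctorRegular.eq_def.{0}
  have := (fun _ => trivial : _ → True) @Cfsg.IsFunctorRegular.congr_simp.{0}
  trivial
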